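import Cfsg.Agent.H11.BaseHeis4

set_option autoImplicit false

namespace Cfsg.Agent.H11

/-- position of `u` inside its coset modulo `e`-th powers -/
noncomputable def colE {A : Type*} [CommGroup A] (e : ℕ) (u : A) : A :=
  ((u : A ⧸ (powMonoidHom e : A →* A).range).out)⁻¹ * u

theorem exists_colE {A : Type*} [CommGroup A] (e : ℕ) (u τ : A) :
    ∃ k : A, colE e (k ^ e * u) = τ ^ e := by
  have h : ∃ ρ : A, ρ ^ e = colE e u := by
    have : colE e u ∈ (powMonoidHom e : A →* A).range := by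
      rw [colE, ← QuotientGroup.eq, QuotientGroup.out_eq']
    exact this
  obtain ⟨ρ, hρ⟩ := h
  refine ⟨τ * ρ⁻¹, ?_⟩
  have h1 : (((τ * ρ⁻¹) ^ e * u : A) : A ⧸ (powMonoidHom e : A →* A).range) = u := by
    rw [QuotientGroup.mk_mul, (QuotientGroup.eq_one_iff (N := (powMonoidHom e : A →* A).range)
      ((τ * ρ⁻¹) ^ e)).2 (MonoidHom.mem_range.2 ⟨τ * ρ⁻¹, rfl⟩), one_mul]
  rw [colE, h1, mul_left_comm, ← colE, ← hρ, ← mul_pow, inv_mul_cancel_right]

namespace Heis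

variable {K B V G : Type*} [Field K] [Group B] [AddCommGroup V] [Module K V]
  [DistribMulAction B V] [Group G] [DistribMulAction G V] (H : Heis K B V G)

theorem alpha_sc {x : V} (hx : x ≠ 0) {g : G} (hg : g • x = x) (k : Kˣ)
    (h : g • H.sc k • x = H.sc k • x) : H.α g (H.sc k) = H.sc k := by
  obtain ⟨k', hk'⟩ := H.exists_alpha_sc g k
  rw [H.compat, hg, hk', H.sc_smul, H.sc_smul] at h
  rw [hk', unit_eq hx h]

theorem inv_eq {x : V} (hx : x ≠ 0) {g : G} (hg : g • x = x)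
    (h1 : ∀ p ∈ H.Pc x, g • p • x = p • x) {b c : B} {r e : ℕ} (hre : r ∣ e.choose 2)
    (hc : ∃ k, c ^ r = H.sc k) {u u' : Kˣ} (hu : b ^ e = H.sc u) (hu' : c ^ e = H.sc u')
    (h : g • b • x = c • x) : u = u' := by
  obtain ⟨k, hk⟩ := hc
  obtain ⟨w, hw⟩ := hre
  rw [H.compat, hg, ← inv_smul_eq_iff, ← mul_smul] at h
  set d := c⁻¹ * H.α g b with hd
  have e1 : (c * d) ^ e = H.sc u := by
    rw [hd, mul_inv_cancel_left, ← map_pow, hu,
      H.alpha_sc hx hg u (h1 _ (H.sc_mem_cent _ _))]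
  rw [H.mul_pow', hw, pow_mul, ← H.cm_pow_right, hk, H.cm_sc_right, one_pow, map_one, one_mul,
    hu'] at e1
  have e2 : d ^ e • x = x := by
    have := H.pow_smul_eq (a := d) (k := 1) (x := x) (by rw [h, one_smul]) e
    rwa [one_pow, one_smul] at this
  refine unit_eq hx ?_
  rw [← H.sc_smul, ← e1, mul_smul, e2, H.sc_smul]

theorem exists_rep [Finite B] {x : V} (ω : B ⧸ H.Pc x) (hω : (orderOf ω).Prime) :
    ∃ b : B, (b : B ⧸ H.Pc x) = ω ∧ ∃ k, b ^ orderOf ω = H.sc k := by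
  obtain ⟨m, hm, hpow⟩ := H.exists_sqf
  obtain ⟨b, rfl⟩ := QuotientGroup.mk_surjective ω
  obtain ⟨k, hk⟩ := hpow b
  obtain ⟨t, ht⟩ : orderOf (b : B ⧸ H.Pc x) ∣ m := orderOf_dvd_of_pow_eq_one (by
    rw [← QuotientGroup.mk_pow, hk, QuotientGroup.eq_one_iff]
    exact H.sc_mem_cent _ _)
  have hc : t.Coprime (orderOf (b : B ⧸ H.Pc x)) := (Nat.coprime_of_squarefree_mul (ht ▸ hm)).symm
  obtain ⟨j, -, hj⟩ := Nat.exists_mul_mod_eq_one_of_coprime hc hω.one_lt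
  refine ⟨b ^ (t * j), ?_, k ^ j, ?_⟩
  · rw [QuotientGroup.mk_pow, ← pow_mod_orderOf, hj, pow_one]
  · rw [map_pow, ← hk, ← pow_mul, ← pow_mul, ht]
    congr 1
    ring

/-- the generic case -/
theorem base2_generic [Finite B] [Finite K] (h2 : (2 : K) ≠ 0) {x : V} (hx : x ≠ 0) {a : B}
    (ha : a ∈ H.Pc x)
    (hy0 : ∀ g : G, g • x = x → g • a • x = a • x → ∀ p ∈ H.Pc x, g • p • x = p • x)
    (hγ : (∃ γ : Kˣ, γ ^ 8 ≠ 1) ∨
      ∀ ω η : B ⧸ H.Pc x, orderOf ω = 2 → orderOf η = 2 → ω = η) :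
    ∃ y : V, ∀ g : G, g • x = x → g • y = y → H.α g = 1 := by
  classical
  obtain ⟨κ, k1, k2, k3, -⟩ := exists_col' (B ⧸ H.Pc x) (H.quot_comm x)
  haveI := Fintype.ofFinite (B ⧸ H.Pc x)
  obtain ⟨γ, hγ⟩ : ∃ γ : Kˣ, γ ^ 8 ≠ 1 ∨
      ∀ ω η : B ⧸ H.Pc x, orderOf ω = 2 → orderOf η = 2 → ω = η := by
    rcases hγ with ⟨γ, h⟩ | h
    · exact ⟨γ, Or.inl h⟩
    · exact ⟨1, Or.inr h⟩
  let e : ℕ → ℕ := fun r => if r = 2 then 4 else r
  let τ : ℕ → Fin 4 → Kˣ := fun r c =>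
    if c = 0 then 1 else if r = 2 then (if c = 1 then γ else γ ^ 2) else -1
  have hrep : ∀ ω : B ⧸ H.Pc x, ∃ b : B, (orderOf ω).Prime → (b : B ⧸ H.Pc x) = ω ∧
      (∃ k, b ^ orderOf ω = H.sc k) ∧ ∃ u, b ^ e (orderOf ω) = H.sc u ∧
        colE (e (orderOf ω)) u = τ (orderOf ω) (κ ω) ^ e (orderOf ω) := by
    intro ω
    by_cases hω : (orderOf ω).Prime
    · obtain ⟨b, hb, k, hk⟩ := H.exists_rep ω hω
      obtain ⟨u, hu⟩ : ∃ u, b ^ e (orderOf ω) = H.sc u := by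
        simp only [e]
        split_ifs with h
        · exact ⟨k ^ 2, by rw [map_pow, ← hk, h, ← pow_mul]⟩
        · exact ⟨k, hk⟩
      obtain ⟨l, hl⟩ := exists_colE (e (orderOf ω)) u (τ (orderOf ω) (κ ω))
      have hp : ∀ n, (H.sc l * b) ^ n = H.sc (l ^ n) * b ^ n := fun n => by
        rw [H.mul_pow', H.cm_sc_right, one_pow, map_one, one_mul, map_pow]
      refine ⟨H.sc l * b, fun _ => ⟨?_, ⟨l ^ orderOf ω * k, ?_⟩, _, ?_, hl⟩⟩
      · rw [QuotientGroup.mk_mul, (QuotientGroup.eq_one_iff (N := H.Pc x) _).2 (H.sc_mem_cent _ _),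
          one_mul, hb]
      · rw [hp, hk, map_mul]
      · rw [hp, hu, map_mul]
    · exact ⟨1, fun h => absurd h hω⟩
  choose rep hrep using hrep
  let F : B ⧸ H.Pc x → V := fun ω => if ω = 1 then a • x else
    if (orderOf ω).Prime ∧ κ ω ≠ 2 then rep ω • x else 0
  have hF : ∀ ω, H.Cp x ω (F ω) := by
    intro ω
    simp only [F]
    split_ifs with h h'
    · exact H.cp_smul (by rw [h, QuotientGroup.eq_one_iff]; exact ha) (H.self_mem_Eig _ _)
    · exact H.cp_smul (hrep ω h'.1).1 (H.self_mem_Eig _ _)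
    · exact H.cp_zero _ _
  have hne : ∀ ω : B ⧸ H.Pc x, (orderOf ω).Prime → ω ≠ 1 := by
    rintro _ h rfl
    rw [orderOf_one] at h
    exact Nat.not_prime_one h
  have h0 : ∀ b : B, b • x ≠ 0 := fun b => by rwa [Ne, smul_eq_zero_iff_eq]
  have e₁ : ∀ ω : B ⧸ H.Pc x, (orderOf ω).Prime → (F ω = 0 ↔ κ ω = 2) := by
    intro ω hω
    by_cases h : κ ω = 2 <;> simp [F, hne ω hω, hω, h, h0]
  have e₂ : ∀ ω : B ⧸ H.Pc x, (orderOf ω).Prime → κ ω ≠ 2 → F ω = rep ω • x := by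
    intro ω hω h
    simp [F, hne ω hω, hω, h]
  refine ⟨∑ ω, F ω, fun g hg g1 => ?_⟩
  have c1 := H.comp_eq hg F hF g1
  have h1 := hy0 g hg (by simpa [F] using c1 1)
  have hfix := k2 (H.ab hg) (H.ab_inj hg) fun ω hω => by
    have ho : orderOf (H.ab hg ω) = orderOf ω := orderOf_injective _ (H.ab_inj hg) ω
    have hω' : (orderOf (H.ab hg ω)).Prime := by rwa [ho]
    have a1 := e₁ _ hω'
    rw [← c1, smul_eq_zero_iff_eq, e₁ _ hω] at a1
    by_cases h : κ ω = 2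
    · rw [h, a1.1 h]
    have h' : κ (H.ab hg ω) ≠ 2 := fun h' => h (a1.2 h')
    have a2 := c1 ω
    rw [e₂ _ hω h, e₂ _ hω' h'] at a2
    obtain ⟨-, -, u, hu, hu1⟩ := hrep ω hω
    obtain ⟨-, hk, u', hu', hu2⟩ := hrep _ hω'
    have k1' := k1 (H.ab hg ω)
    rw [ho] at hk hu' hu2 k1'
    have hre : orderOf ω ∣ (e (orderOf ω)).choose 2 := by
      simp only [e]
      split_ifs with h
      · rw [h]; decide
      · exact hω.dvd_choose_self two_ne_zero (lt_of_le_of_ne hω.two_le (Ne.symm h))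
    rw [H.inv_eq hx hg h1 hre hk hu hu' a2, hu2] at hu1
    by_cases hr : orderOf ω = 2
    · rcases hγ with hγ | hγ
      · have g4 : γ ^ 4 ≠ 1 := fun h => hγ (by rw [show 8 = 4 * 2 from rfl, pow_mul, h, one_pow])
        have g5 : (γ ^ 2) ^ 4 ≠ 1 := by rwa [← pow_mul]
        have g6 : (γ ^ 2) ^ 4 ≠ γ ^ 4 := fun h => g4 (by
          rw [sq, mul_pow] at h
          exact mul_eq_left.1 h)
        simp only [hr, e, τ, if_true] at hu1
        revert h h' hu1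
        generalize κ ω = i
        generalize κ (H.ab hg ω) = j
        fin_cases i <;> fin_cases j <;> simp [g4, g5, g6, g4.symm, g5.symm, g6.symm]
      · rw [hγ _ ω (ho.trans hr) hr]
    · have g1 : (-1 : Kˣ) ^ orderOf ω ≠ 1 := by
        rw [(hω.odd_of_ne_two hr).neg_one_pow]
        intro h'
        have := congrArg Units.val h'
        simp only [Units.val_neg, Units.val_one] at this
        exact h2 (by linear_combination -this)
      have k1'' := k1 ω hr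
      have k1' := k1' hr
      simp only [hr, e, τ, if_false] at hu1
      revert h h' hu1 k1' k1''
      generalize κ ω = i
      generalize κ (H.ab hg ω) = j
      fin_cases i <;> fin_cases j <;> simp [g1, g1.symm]
  refine H.alpha_eq_one_of_col hx hg h1 κ k3 fun ω hω h2 => ⟨rep ω, (hrep ω hω).1, ?_⟩
  have a1 := c1 ω
  rwa [hfix ω hω, e₂ ω hω h2] at a1

/-- assembly from a block with four colours -/
theorem base2_block [Finite B] (hsq : ∀ b : B, ∃ k, b ^ 2 = H.sc k) {x : V} (hx : x ≠ 0)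
    (a : Fin 4 → V) (ha : ∀ c, a c ∈ H.Eig (H.St x) x) (ha0 : ∀ c, a c ≠ 0)
    (hfree : ∀ p ∈ H.Pc x, p ∈ H.St (a 0) → p ∈ H.St x)
    (hne : ∀ c c', ∀ p ∈ H.Pc x, p • a c = a c' → c = c')
    (hdis : ∀ c c', c ≠ c' → ∀ p ∈ H.Pc x, p ∈ H.St (a c) → p ∈ H.St (a c') → p ∈ H.St x)
    {y₀ : V} (hy₀ : y₀ ∈ H.Eig (H.St x) x)
    (hy : ∀ g : G, g • x = x → g • y₀ = y₀ →
      (∀ p ∈ H.Pc x, g • p • x = p • x) ∧ ∀ c, g • a c = a c) :
    ∃ y : V, ∀ g : G, g • x = x → g • y = y → H.α g = 1 := by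
  classical
  obtain ⟨κ, -, k2, -, k4⟩ := exists_col' (B ⧸ H.Pc x) (H.quot_comm x)
  haveI := Fintype.ofFinite (B ⧸ H.Pc x)
  let F : B ⧸ H.Pc x → V := fun ω => if ω = 1 then y₀ else ω.out • a (κ ω)
  have hF : ∀ ω, H.Cp x ω (F ω) := by
    intro ω
    simp only [F]
    split_ifs with h
    · rw [← one_smul B y₀]
      exact H.cp_smul (by rw [h]; rfl) hy₀
    · exact H.cp_smul (QuotientGroup.out_eq' ω) (ha _)
  have hn1 : ∀ ω : B ⧸ H.Pc x, (orderOf ω).Prime → ω ≠ 1 := by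
    rintro _ h rfl
    rw [orderOf_one] at h
    exact Nat.not_prime_one h
  refine ⟨∑ ω, F ω, fun g hg g1 => ?_⟩
  have c1 := H.comp_eq hg F hF g1
  obtain ⟨h1, h1'⟩ := hy g hg (by simpa [F] using c1 1)
  have c2 : ∀ ω : B ⧸ H.Pc x, (orderOf ω).Prime →
      ((H.ab hg ω).out⁻¹ * H.α g ω.out) ∈ H.Pc x ∧
      ((H.ab hg ω).out⁻¹ * H.α g ω.out) • a (κ ω) = a (κ (H.ab hg ω)) := by
    intro ω hω
    have hω' : (orderOf (H.ab hg ω)).Prime := by rwa [orderOf_injective _ (H.ab_inj hg)]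
    constructor
    · rw [← QuotientGroup.eq, QuotientGroup.out_eq', ← H.ab_mk hg, QuotientGroup.out_eq']
    · have := c1 ω
      simp only [F, if_neg (hn1 _ hω), if_neg (hn1 _ hω')] at this
      rw [mul_smul, inv_smul_eq_iff, ← this, H.compat, h1']
  have hfix := k2 (H.ab hg) (H.ab_inj hg) fun ω hω => (hne _ _ _ (c2 ω hω).1 (c2 ω hω).2).symm
  have c3 : ∀ ω : B ⧸ H.Pc x, (orderOf ω).Prime → (ω.out⁻¹ * H.α g ω.out) ∈ H.Pc x ∧
      (ω.out⁻¹ * H.α g ω.out) • a (κ ω) = a (κ ω) := fun ω hω => by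
    have := c2 ω hω
    rwa [hfix ω hω] at this
  have hmul : ∀ b c : B, (b * c)⁻¹ * H.α g (b * c) =
      H.sc (H.cm c⁻¹ (b⁻¹ * H.α g b)) * ((b⁻¹ * H.α g b) * (c⁻¹ * H.α g c)) := by
    intro b c
    rw [map_mul, mul_inv_rev, ← mul_assoc (b⁻¹ * H.α g b), ← mul_assoc (H.sc _), ← H.cm_spec]
    simp only [mul_assoc]
  let S₀ : Subgroup B :=
    { carrier := {b | b⁻¹ * H.α g b ∈ H.St x}
      one_mem' := by simp [Subgroup.one_mem]
      mul_mem' := fun {b c} hb hc => by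
        show (b * c)⁻¹ * H.α g (b * c) ∈ H.St x
        rw [hmul]
        exact (H.St x).mul_mem (H.sc_mem_St _ _) ((H.St x).mul_mem hb hc)
      inv_mem' := fun {b} hb => by
        have := (H.normal_of_sc (H.sc_mem_St x)).conj_mem _ ((H.St x).inv_mem hb) (H.α g b)
        show b⁻¹⁻¹ * H.α g b⁻¹ ∈ H.St x
        rw [map_inv, inv_inv]
        simpa [mul_assoc] using this }
  have hPS : H.Pc x ≤ S₀ := fun p hp => H.mem_St_of hx (k := 1) (by
    rw [one_smul]; exact (H.gd_iff hg p).1 (h1 p hp))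
  have hS : ∀ b : B, (b : B ⧸ H.Pc x) ∈ S₀.map (QuotientGroup.mk' _) ↔ b ∈ S₀ := by
    intro b
    refine ⟨fun ⟨c, hc, h⟩ => ?_, fun h => ⟨b, h, rfl⟩⟩
    have : c⁻¹ * b ∈ H.Pc x := QuotientGroup.eq.1 h
    simpa using S₀.mul_mem hc (hPS this)
  have hst : ∀ ω : B ⧸ H.Pc x, orderOf ω = 2 → ω.out⁻¹ * H.α g ω.out ∈ H.St (a (κ ω)) :=
    fun ω hω => H.mem_St_of (ha0 _) (k := 1) (by
      rw [one_smul]; exact (c3 ω (hω ▸ Nat.prime_two)).2)
  have hall := k4 (S₀.map (QuotientGroup.mk' _)) (fun ω hω h => by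
    rw [← QuotientGroup.out_eq' ω, hS]
    exact hfree _ (c3 ω (hω ▸ Nat.prime_two)).1 (h ▸ hst ω hω)) (fun ω η hω hη h h' => by
    rw [← QuotientGroup.out_eq' ω, ← QuotientGroup.out_eq' η, ← QuotientGroup.mk_inv,
      ← QuotientGroup.mk_mul, hS] at h'
    rw [← QuotientGroup.out_eq' ω, hS]
    refine hdis _ _ h _ (c3 ω (hω ▸ Nat.prime_two)).1 (hst ω hω) ?_
    have e := hst η hη
    have e' := hmul ω.out (ω.out⁻¹ * η.out)
    rw [mul_inv_cancel_left] at e'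
    rw [e'] at e
    have hle := H.le_St_of_mem_Eig le_rfl (ha (κ η))
    have := (H.St _).mul_mem ((H.St _).mul_mem ((H.St _).inv_mem (H.sc_mem_St _
      (H.cm (ω.out⁻¹ * η.out)⁻¹ (ω.out⁻¹ * H.α g ω.out)))) e) ((H.St _).inv_mem (hle h'))
    simpa only [inv_mul_cancel_left, mul_inv_cancel_right] using this)
  refine H.alpha_eq_one_of_prime hx hg h1 fun ω hω => ⟨ω.out, QuotientGroup.out_eq' ω, ?_⟩
  have ho : orderOf ω = 2 := by
    obtain ⟨k, hk⟩ := hsq ω.out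
    refine (Nat.prime_dvd_prime_iff_eq hω Nat.prime_two).1 (orderOf_dvd_of_pow_eq_one ?_)
    rw [← QuotientGroup.out_eq' ω, ← QuotientGroup.mk_pow, hk, QuotientGroup.eq_one_iff]
    exact H.sc_mem_cent _ _
  have := hall ω ho
  rw [← QuotientGroup.out_eq' ω, hS] at this
  obtain ⟨k, hk⟩ := id this
  have e := ha (κ ω) _ this k hk
  rw [(c3 ω hω).2] at e
  obtain rfl : 1 = k := unit_eq (ha0 _) (by rw [← e, Units.val_one, one_smul])
  rw [H.gd_iff hg, hk, Units.val_one, one_smul]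

end Heis

end Cfsg.Agent.H11
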