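import Cfsg.Agent.H11.BaseCert

set_option autoImplicit false
set_option maxRecDepth 100000
set_option synthInstance.maxSize 4096
set_option synthInstance.maxHeartbeats 400000

namespace Cfsg.Agent.H11.BC

/-- four-dimensional model space -/
abbrev W2 (p : ℕ) := (ZMod p × ZMod p) × (ZMod p × ZMod p)
/-- operators on two qubits -/
abbrev P2 (P : Type) := (P × Bool × Bool) × Bool × Bool
/-- action on two qubits -/
abbrev aF : P2 (Bool × Bool) → W2 5 → W2 5 := act2 (act2 actF)
/-- action on two qubits -/
abbrev aP : P2 Bool → W2 3 → W2 3 := act2 (act2 actS)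
/-- standard basis -/
abbrev s2 (p : ℕ) : List (W2 p) := dbl (dbl [1])
/-- coordinates -/
abbrev c2 (p : ℕ) : W2 p → List ℕ := dco (dco fun w => [w.val])
/-- action on a quaternion block and two qubits -/
abbrev a3 : P2 (Bool × Bool × Bool) → W2 3 × W2 3 → W2 3 × W2 3 := act2 (act2 actQ)

theorem coord2 (p : ℕ) [NeZero p] : Coord (s2 p) (c2 p) := (coord_zmod p).dbl.dbl

theorem coord3 : Coord (dbl (s2 3)) (dco (c2 3)) := (coord2 3).dbl

/-- block vector -/
def xF : W2 5 := ((0, 1), (1, 1))
/-- colours -/
def colF : Fin 4 → W2 5 := ![((0, 1), (1, 1)), ((0, 1), (1, 2)), ((0, 1), (2, 1)), ((0, 1), (2, 2))]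

theorem colsF : Cols aF 5 (s2 5) xF colF where
  a0 := rfl
  ne0 := by decide +kernel
  free := by decide +kernel
  ineq := by decide +kernel
  dis := by decide +kernel
  span := ⟨[(((false, false), false, false), false, false), (((false, false), false, false), false, true), (((false, false), false, false), true, false), (((false, false), false, false), true, true)],
    [[2, 3, 2, 3], [3, 0, 3, 0], [3, 2, 2, 3], [0, 3, 0, 2]], by decide +kernel⟩

/-- candidate second vector -/
def yF0 : W2 5 := ((1, 0), (1, 3))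
/-- its stabiliser -/
def solF0 : List (List (W2 5)) :=
  [[((1, 0), (0, 0)), ((0, 1), (0, 0)), ((0, 0), (1, 0)), ((0, 0), (0, 1))]]

theorem rigF0 (T : W2 5 →+ W2 5) (hT : Nrm aF xF T) (hy : T yF0 = yF0) :
    ∃ f ∈ solF0, ∀ w, T w = comb (c2 5 w) f :=
  solA (coord2 5) aF xF yF0 (((false, false), false, false), false, true) (((false, false), false, true), false, false) [3, 0, 3, 3] [4, 2, 1, 2]
    [[3, 1, 4, 1], [1, 1, 1, 3], [4, 1, 3, 1], [1, 3, 1, 1]] _ (by decide +kernel) (by decide +kernel) (by decide +kernel)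
    (by decide +kernel) T hT hy

theorem finF : ∀ f ∈ solF0, f = s2 5 := by decide +kernel

/-- block vector -/
def xP : W2 3 := ((0, 1), (1, 1))
/-- colours -/
def colP : Fin 4 → W2 3 := ![((0, 1), (1, 1)), ((0, 0), (0, 1)), ((1, 1), (1, 1)), ((1, 1), (1, 2))]

theorem colsP : Cols aP 3 (s2 3) xP colP where
  a0 := rfl
  ne0 := by decide +kernel
  free := by decide +kernel
  ineq := by decide +kernel
  dis := by decide +kernel
  span := ⟨[((false, false, false), false, false), ((false, false, false), false, true), ((false, false, false), true, false), ((false, false, false), true, true)],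
    [[1, 2, 1, 2], [2, 0, 2, 0], [2, 1, 1, 2], [0, 2, 0, 1]], by decide +kernel⟩

/-- candidate second vector -/
def yP0 : W2 3 := ((0, 0), (1, 1))
/-- its stabiliser -/
def solP0 : List (List (W2 3)) :=
  [[((1, 0), (0, 0)), ((0, 1), (0, 0)), ((0, 0), (0, 1)), ((0, 0), (1, 0))], [((1, 0), (0, 0)), ((0, 1), (0, 0)), ((0, 0), (1, 0)), ((0, 0), (0, 1))], [((2, 0), (0, 0)), ((0, 1), (0, 0)), ((0, 0), (0, 1)), ((0, 0), (1, 0))], [((2, 0), (0, 0)), ((0, 1), (0, 0)), ((0, 0), (1, 0)), ((0, 0), (0, 1))]]

theorem rigP0 (T : W2 3 →+ W2 3) (hT : Nrm aP xP T) (hy : T yP0 = yP0) :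
    ∃ f ∈ solP0, ∀ w, T w = comb (c2 3 w) f :=
  solA (coord2 3) aP xP yP0 ((false, false, false), false, true) ((false, true, true), false, false) [2, 2, 1, 0] [0, 1, 1, 2]
    [[2, 1, 0, 1], [1, 2, 0, 0], [0, 1, 2, 1], [0, 0, 1, 2]] _ (by decide +kernel) (by decide +kernel) (by decide +kernel)
    (by decide +kernel) T hT hy

/-- candidate second vector -/
def yP1 : W2 3 := ((2, 1), (1, 0))
/-- its stabiliser -/
def solP1 : List (List (W2 3)) :=
  [[((1, 0), (0, 0)), ((0, 0), (1, 0)), ((0, 1), (0, 0)), ((0, 0), (0, 1))], [((1, 0), (0, 0)), ((0, 1), (0, 0)), ((0, 0), (1, 0)), ((0, 0), (0, 1))], [((2, 2), (2, 2)), ((2, 1), (2, 1)), ((2, 2), (1, 1)), ((2, 1), (1, 2))], [((2, 2), (2, 2)), ((2, 2), (1, 1)), ((2, 1), (2, 1)), ((2, 1), (1, 2))]]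

theorem rigP1 (T : W2 3 →+ W2 3) (hT : Nrm aP xP T) (hy : T yP1 = yP1) :
    ∃ f ∈ solP1, ∀ w, T w = comb (c2 3 w) f :=
  solA (coord2 3) aP xP yP1 ((false, false, false), false, true) ((false, false, false), true, false) [0, 2, 2, 0] [1, 0, 0, 2]
    [[0, 2, 1, 2], [2, 1, 1, 0], [1, 2, 0, 2], [1, 0, 2, 1]] _ (by decide +kernel) (by decide +kernel) (by decide +kernel)
    (by decide +kernel) T hT hy

/-- candidate second vector -/
def yP2 : W2 3 := ((1, 0), (2, 0))
/-- its stabiliser -/
def solP2 : List (List (W2 3)) :=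
  [[((1, 0), (0, 0)), ((0, 0), (0, 1)), ((0, 0), (1, 0)), ((0, 1), (0, 0))], [((1, 0), (0, 0)), ((0, 1), (0, 0)), ((0, 0), (1, 0)), ((0, 0), (0, 1))], [((2, 1), (1, 1)), ((1, 1), (1, 2)), ((1, 1), (2, 1)), ((1, 2), (1, 1))], [((2, 1), (1, 1)), ((1, 2), (1, 1)), ((1, 1), (2, 1)), ((1, 1), (1, 2))]]

theorem rigP2 (T : W2 3 →+ W2 3) (hT : Nrm aP xP T) (hy : T yP2 = yP2) :
    ∃ f ∈ solP2, ∀ w, T w = comb (c2 3 w) f :=
  solA (coord2 3) aP xP yP2 ((false, false, false), true, false) ((false, true, true), false, false) [1, 1, 2, 0] [0, 2, 2, 1]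
    [[0, 2, 0, 2], [2, 0, 2, 0], [0, 1, 0, 2], [2, 2, 1, 1]] _ (by decide +kernel) (by decide +kernel) (by decide +kernel)
    (by decide +kernel) T hT hy

theorem finP : ∀ f ∈ solP0, ∀ g ∈ solP1, ∀ h ∈ solP2, f = s2 3 ∨ g = s2 3 ∨ h = s2 3 ∨
    Bad (s2 3) (c2 3) f g ∨ Bad (s2 3) (c2 3) f h ∨ Bad (s2 3) (c2 3) g h := by decide +kernel

/-- block vector -/
def xM : W2 3 × W2 3 := (((0, 0), (0, 1)), ((0, 1), (0, 1)))
/-- colours -/
def colM : Fin 4 → W2 3 × W2 3 := ![(((0, 0), (0, 1)), ((0, 1), (0, 1))), (((0, 0), (0, 1)), ((0, 1), (1, 0))), (((0, 0), (0, 1)), ((0, 1), (1, 1))), (((0, 0), (0, 1)), ((0, 1), (1, 2)))]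

theorem colsM : Cols a3 3 (dbl (s2 3)) xM colM where
  a0 := rfl
  ne0 := by decide +kernel
  free := by decide +kernel
  ineq := by decide +kernel
  dis := by decide +kernel
  span := ⟨[(((false, false, false), false, false), false, false), (((false, false, false), false, false), false, true), (((false, false, false), false, false), true, false), (((false, false, false), false, false), true, true), (((false, true, false), false, false), false, false), (((false, true, false), false, false), false, true), (((false, true, false), false, false), true, false), (((false, true, false), false, false), true, true)],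
    [[0, 0, 0, 0, 2, 1, 2, 1], [1, 2, 1, 2, 0, 0, 0, 0], [0, 0, 0, 0, 1, 0, 1, 0], [2, 0, 2, 0, 0, 0, 0, 0], [0, 0, 0, 0, 1, 2, 2, 1], [2, 1, 1, 2, 0, 0, 0, 0], [0, 0, 0, 0, 0, 1, 0, 2], [0, 2, 0, 1, 0, 0, 0, 0]], by decide +kernel⟩

/-- local operators -/
def locM : List (P2 (Bool × Bool × Bool) × P2 (Bool × Bool × Bool)) :=
  [((((false, false, false), false, false), false, false), (((true, false, false), false, false), false, false)), ((((false, false, false), false, false), true, true), (((false, false, false), true, true), false, true)), ((((false, false, false), false, true), true, true), (((false, false, false), true, false), true, true)), ((((false, false, false), true, false), true, true), (((false, false, false), true, true), false, false)), ((((false, false, false), true, true), false, false), (((false, false, false), false, true), true, true)), ((((false, false, false), true, true), false, true), (((false, false, false), true, true), true, false)), ((((false, false, false), true, true), true, false), (((false,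 false, false), false, false), true, true)), ((((true, false, false), false, false), true, true), (((true, false, false), true, true), true, false)), ((((true, false, false), false, true), true, true), (((true, false, false), true, true), false, false)), ((((true, false, false), true, false), true, true), (((true, false, false), false, true), true, true)), ((((true, false, false), true, true), false, false), (((true, false, false), true, false), true, true)), ((((true, false, false), true, true), false, true), (((true, false, false), false, false), true, true)), ((((true, false, false), true, true), true, false), (((true, false, false), true, true), false, true)), ((((false, true, false), false, false), false, false), (((true, false, true), false, false), false, false)), ((((true, true, false), false, false), false, false), (((false, true, true), false, false), false, false)), ((((false, false, true), false, false), false, false), (((true, true, false), false, false), false, false)), ((((true, false, true), false, false),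 false, false), (((true, true, true), false, false), false, false)), ((((true, true, true), false, false), false, false), (((false, true, false), false, false), false, false)), ((((false, true, true), false, false), false, false), (((false, false, true), false, false), false, false))]

theorem locM_spec : ∀ π ρ, a3 ρ xM = xM + a3 π xM → (π, ρ) ∈ locM := by decide +kernel

/-- candidate second vector -/
def yM0 : W2 3 × W2 3 := (((0, 0), (1, 2)), ((2, 0), (1, 1)))
/-- its stabiliser -/
def solM0 : List (List (W2 3 × W2 3)) :=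
  [[(((1, 0), (0, 0)), ((0, 0), (0, 0))), (((0, 1), (0, 0)), ((0, 0), (0, 0))), (((0, 0), (1, 0)), ((0, 0), (0, 0))), (((0, 0), (0, 1)), ((0, 0), (0, 0))), (((0, 0), (0, 0)), ((1, 0), (0, 0))), (((0, 0), (0, 0)), ((0, 1), (0, 0))), (((0, 0), (0, 0)), ((0, 0), (1, 0))), (((0, 0), (0, 0)), ((0, 0), (0, 1)))], [(((2, 0), (0, 0)), ((0, 0), (0, 0))), (((0, 2), (0, 0)), ((0, 0), (0, 0))), (((0, 0), (1, 0)), ((0, 0), (0, 0))), (((0, 0), (0, 1)), ((0, 0), (0, 0))), (((0, 0), (0, 0)), ((1, 0), (0, 0))), (((0, 0), (0, 0)), ((0, 1), (0, 0))), (((0, 0), (0, 0)), ((0, 0), (1, 0))), (((0, 0), (0, 0)), ((0, 0), (0, 1)))]]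

theorem rigM0 (T : W2 3 × W2 3 →+ W2 3 × W2 3) (hT : Nrm a3 xM T) (hy : T yM0 = yM0) :
    ∃ f ∈ solM0, ∀ w, T w = comb (dco (c2 3) w) f :=
  solB coord3 a3 xM yM0 locM locM_spec (((false, false, false), false, false), true, true) (((false, false, false), true, true), false, true) (((false, false, false), false, true), true, true) (((false, false, false), true, false), true, true)
    [1, 2, 1, 2, 1, 0, 1, 0] [0, 1, 0, 0, 0, 2, 2, 0]
    [[0, 1, 0, 1, 0, 2, 2, 0], [2, 0, 2, 0, 2, 0, 0, 0], [1, 0, 0, 2, 0, 1, 0, 2], [0, 0, 2, 0, 2, 0, 1, 0], [0, 1, 0, 2, 2, 0, 0, 1], [2, 0, 1, 0, 0, 0, 1, 0], [0, 2, 2, 0, 0, 2, 0, 2], [2, 0, 0, 0, 1, 0, 1, 0]] _ (by decide +kernel) (by decide +kernel) (by decide +kernel)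
    (by decide +kernel) (by decide +kernel) (by decide +kernel) T hT hy

/-- candidate second vector -/
def yM1 : W2 3 × W2 3 := (((0, 1), (0, 0)), ((0, 2), (1, 0)))
/-- its stabiliser -/
def solM1 : List (List (W2 3 × W2 3)) :=
  [[(((1, 0), (0, 0)), ((0, 0), (0, 0))), (((0, 1), (0, 0)), ((0, 0), (0, 0))), (((0, 0), (1, 0)), ((0, 0), (0, 0))), (((0, 0), (0, 1)), ((0, 0), (0, 0))), (((0, 0), (0, 0)), ((1, 0), (0, 0))), (((0, 0), (0, 0)), ((0, 1), (0, 0))), (((0, 0), (0, 0)), ((0, 0), (1, 0))), (((0, 0), (0, 0)), ((0, 0), (0, 1)))], [(((2, 0), (2, 1)), ((0, 2), (1, 1))), (((0, 2), (1, 1)), ((1, 0), (1, 2))), (((1, 2), (2, 0)), ((2, 2), (0, 2))), (((2, 2), (0, 2)), ((2, 1), (1, 0))), (((0, 1), (1, 1)), ((2, 0), (1, 2))), (((2, 0), (1, 2)), ((0, 2), (2, 2))), (((2, 2), (0, 1)), ((2, 1), (2, 0))), (((2, 1), (2, 0)), ((1, 1), (0, 2)))]]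

theorem rigM1 (T : W2 3 × W2 3 →+ W2 3 × W2 3) (hT : Nrm a3 xM T) (hy : T yM1 = yM1) :
    ∃ f ∈ solM1, ∀ w, T w = comb (dco (c2 3) w) f :=
  solB coord3 a3 xM yM1 locM locM_spec (((false, false, false), false, false), true, true) (((false, false, false), true, true), false, true) (((false, false, false), false, true), true, true) (((false, false, false), true, false), true, true)
    [0, 0, 1, 0, 1, 1, 2, 0] [1, 0, 0, 2, 2, 0, 1, 0]
    [[2, 0, 2, 0, 0, 1, 2, 0], [2, 0, 2, 0, 2, 0, 0, 0], [1, 0, 0, 1, 2, 0, 1, 0], [0, 0, 2, 0, 2, 0, 1, 0], [2, 0, 1, 0, 2, 0, 0, 2], [2, 0, 1, 0, 0, 0, 1, 0], [0, 1, 2, 0, 1, 0, 1, 0], [2, 0, 0, 0, 1, 0, 1, 0]] _ (by decide +kernel) (by decide +kernel) (by decide +kernel)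
    (by decide +kernel) (by decide +kernel) (by decide +kernel) T hT hy

theorem finM : ∀ f ∈ solM0, ∀ g ∈ solM1, f = dbl (s2 3) ∨ g = dbl (s2 3) ∨
    Bad (dbl (s2 3)) (dco (c2 3)) f g := by decide +kernel

end Cfsg.Agent.H11.BC
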