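import Cfsg.Agent.H11.BaseMod
import Cfsg.Agent.H11.BaseCert2

set_option autoImplicit false

namespace Cfsg.Agent.H11

namespace Heis

open BC

variable {K B V G : Type*} [Field K] [Group B] [AddCommGroup V] [Module K V]
  [DistribMulAction B V] [Group G] [DistribMulAction G V] (H : Heis K B V G)

theorem mod_minus (e : ZMod 3 ≃+* K) {x : V} (hx : x ≠ 0) {a d : B} (ha : a ∈ H.Pc x)
    (hd : d ∈ H.Pc x) (h2 : (2 : K) ≠ 0) (ha2 : a ^ 2 • x = (-1 : K) • x) (had : H.cm a d = -1)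
    (hdn : d ∉ H.St x) {s t : K} (hst : d • x = s • x + t • a • x)
    (hP : ∀ p ∈ H.Pc x, p ∈ H.St x ∨ a⁻¹ * p ∈ H.St x ∨ d⁻¹ * p ∈ H.St x ∨
        (a * d)⁻¹ * p ∈ H.St x) : Nonempty (H.Mod x (H.St x) actQ) := by
  have hm1 := neg_one_ne h2
  have hda : H.cm d a = -1 := by rw [H.cm_swap, had, inv_neg_one]
  let Φ : ZMod 3 × ZMod 3 →+ V := AddMonoidHom.mk' (fun w => e w.1 • x + e w.2 • a • x)
    fun u v => by simp only [Prod.fst_add, Prod.snd_add, map_add, add_smul]; abel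
  have hΦ : ∀ u v, Φ (u, v) = e u • x + e v • a • x := fun _ _ => rfl
  have haa : a • a • x = -x := by rw [← mul_smul, ← sq, ha2, neg_one_smul]
  have haΦ : ∀ u v, a • Φ (u, v) = Φ (-v, u) := fun u v => by
    rw [hΦ, hΦ, smul_add, H.lin, H.lin, haa, map_neg, neg_smul, smul_neg, add_comm]
  have key : ∀ (q : B) (s t ε : ZMod 3), q • x = Φ (s, t) → (H.cm q a : K) = e ε →
      ∀ w, q • Φ w = Φ (w.1 * s - ε * w.2 * t, w.1 * t + ε * w.2 * s) := by
    rintro q s t ε h1 h3 ⟨u, v⟩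
    rw [hΦ, smul_add, H.lin, H.lin, H.cm_smul, h3, h1, haΦ, hΦ, hΦ, hΦ]
    simp only [map_add, map_sub, map_mul, map_neg]
    generalize a • x = y
    module
  obtain ⟨s, rfl⟩ := e.surjective s
  obtain ⟨t, rfl⟩ := e.surjective t
  have ht : t ≠ 0 := by
    rintro rfl
    exact hdn (H.mem_St_of hx (k := e s) (by simpa using hst))
  have hs : s ≠ 0 := by
    rintro rfl
    have : a⁻¹ * d ∈ H.St x := H.mem_St_of hx (k := e t) (by
      rw [mul_smul, inv_smul_eq_iff, H.lin, hst]; simp)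
    have := H.mem_cent.1 ha _ this
    rw [H.cm_mul_left, H.cm_inv_left, H.cm_self, hda] at this
    exact hm1 (by simpa using this)
  have D1 : ∀ s t ε : ZMod 3, (ε = 1 ∧ (s ≠ 0 ∧ t = 0 ∨ s = 0 ∧ t ≠ 0) ∨ ε = -1 ∧ s ≠ 0 ∧ t ≠ 0) →
      ∃ π, ∀ w, actQ π w = (w.1 * s - ε * w.2 * t, w.1 * t + ε * w.2 * s) := by decide +kernel
  have D2 : ∀ π, ∃ s t ε : ZMod 3,
      (ε = 1 ∧ (s ≠ 0 ∧ t = 0 ∨ s = 0 ∧ t ≠ 0) ∨ ε = -1 ∧ s ≠ 0 ∧ t ≠ 0) ∧
      ∀ w, actQ π w = (w.1 * s - ε * w.2 * t, w.1 * t + ε * w.2 * s) := by decide +kernel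
  refine ⟨⟨Φ, ?_, H.sc_mem_St x, le_rfl, fun w => add_mem
    (Submodule.smul_mem _ _ (H.self_mem_Eig _ _))
    (Submodule.smul_mem _ _ (H.smul_mem_Eig ha (H.self_mem_Eig _ _))), fun q hq => ?_, fun π => ?_⟩⟩
  · rw [injective_iff_map_eq_zero]
    rintro ⟨u, v⟩ h
    rw [hΦ] at h
    have hv : v = 0 := by
      by_contra hv
      have hv' : e v ≠ 0 := by simpa using hv
      have : a ∈ H.St x := H.mem_St_of hx (k := (e v)⁻¹ * -e u) (by
        rw [mul_smul, eq_inv_smul_iff₀ hv', neg_smul, eq_neg_iff_add_eq_zero, add_comm, h])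
      exact hm1 (had ▸ H.mem_cent.1 hd _ this)
    subst hv
    simp only [map_zero, zero_smul, add_zero, smul_eq_zero, hx, or_false,
      EmbeddingLike.map_eq_zero_iff] at h
    rw [h]; rfl
  · have hc : ∀ c : B, c⁻¹ * q ∈ H.St x → ∃ k : ZMod 3, k ≠ 0 ∧ q • x = e k • c • x ∧
        H.cm q a = H.cm c a := by
      intro c hc
      obtain ⟨k, hk⟩ := id hc
      refine ⟨e.symm k, by simp, ?_, ?_⟩
      · rw [mul_smul, inv_smul_eq_iff, H.lin] at hk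
        rw [hk, RingEquiv.apply_symm_apply]
      · have := H.mem_cent.1 ha _ hc
        rwa [H.cm_mul_left, H.cm_inv_left, inv_mul_eq_one, eq_comm] at this
    have fin : ∀ s t ε : ZMod 3,
        (ε = 1 ∧ (s ≠ 0 ∧ t = 0 ∨ s = 0 ∧ t ≠ 0) ∨ ε = -1 ∧ s ≠ 0 ∧ t ≠ 0) →
        q • x = Φ (s, t) → (H.cm q a : K) = e ε → ∃ π, ∀ w, q • Φ w = Φ (actQ π w) := by
      intro s t ε h1 h3 h4
      obtain ⟨π, hπ⟩ := D1 s t ε h1
      exact ⟨π, fun w => by rw [hπ, key q s t ε h3 h4]⟩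
    rcases hP q hq with h | h | h | h
    · obtain ⟨k, k0, k1, k2⟩ := hc 1 (by simpa using h)
      refine fin k 0 1 (Or.inl ⟨rfl, Or.inl ⟨k0, rfl⟩⟩) (by simp [hΦ, k1]) ?_
      rw [k2, H.cm_eq_one_iff.2 (by simp)]; simp
    · obtain ⟨k, k0, k1, k2⟩ := hc a h
      exact fin 0 k 1 (Or.inl ⟨rfl, Or.inr ⟨rfl, k0⟩⟩) (by simp [hΦ, k1]) (by simp [k2, H.cm_self])
    · obtain ⟨k, k0, k1, k2⟩ := hc d h
      exact fin (k * s) (k * t) (-1) (Or.inr ⟨rfl, mul_ne_zero k0 hs, mul_ne_zero k0 ht⟩)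
        (by simp [hΦ, k1, hst, mul_smul]) (by simp [k2, hda])
    · obtain ⟨k, k0, k1, k2⟩ := hc (a * d) h
      refine fin (k * -t) (k * s) (-1)
        (Or.inr ⟨rfl, mul_ne_zero k0 (neg_ne_zero.2 ht), mul_ne_zero k0 hs⟩) ?_
        (by simp [k2, hda, H.cm_mul_left, H.cm_self])
      rw [k1, mul_smul, hst, ← hΦ, haΦ]
      simp [hΦ, mul_smul]
  · let R : ZMod 3 → ZMod 3 → ZMod 3 → Prop := fun s t ε =>
      ∃ q ∈ H.Pc x, q • x = Φ (s, t) ∧ (H.cm q a : K) = e ε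
    have R1 : ∀ s t ε, R s t ε → R (-t) s ε := by
      rintro s t ε ⟨q, hq, h1, h3⟩
      exact ⟨a * q, (H.Pc x).mul_mem ha hq, by rw [mul_smul, h1, haΦ],
        by rw [H.cm_mul_left, H.cm_self, one_mul, h3]⟩
    have R2 : ∀ s t ε s' t', R s t ε → (s' = s ∧ t' = t ∨ s' = -t ∧ t' = s ∨ s' = -s ∧ t' = -t ∨
        s' = - -t ∧ t' = -s) → R s' t' ε := by
      rintro s t ε s' t' h (⟨rfl, rfl⟩ | ⟨rfl, rfl⟩ | ⟨rfl, rfl⟩ | ⟨rfl, rfl⟩)
      · exact h
      · exact R1 _ _ _ h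
      · exact R1 _ _ _ (R1 _ _ _ h)
      · exact R1 _ _ _ (R1 _ _ _ (R1 _ _ _ h))
    obtain ⟨s', t', ε, h1, hπ⟩ := D2 π
    obtain ⟨q, hq, h3, h4⟩ : R s' t' ε := by
      rcases h1 with ⟨rfl, h1⟩ | ⟨rfl, h1⟩
      · refine R2 1 0 1 s' t' ⟨1, (H.Pc x).one_mem, by simp [hΦ], ?_⟩ ?_
        · rw [H.cm_eq_one_iff.2 (by simp)]; simp
        · revert h1; generalize s' = i; generalize t' = j; revert i j; decide
      · refine R2 s t (-1) s' t' ⟨d, hd, by rw [hst, hΦ], by simp [hda]⟩ ?_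
        revert h1 hs ht
        generalize s' = i; generalize t' = j; generalize s = k; generalize t = l
        revert i j k l; decide
    exact ⟨q, hq, fun w => by rw [hπ, key q s' t' ε h3 h4]⟩

theorem base2_nine [Finite B] [Finite K] (h2 : (2 : K) ≠ 0) (hsq : ∀ b : B, ∃ k, b ^ 2 = H.sc k)
    {u : V} (hu : u ≠ 0) (hP : H.Pc u = H.St u) {c : B} (hc : c ∉ H.Pc u) {γ : Kˣ}
    (hγ : ∀ k, ∃ n : ℕ, γ ^ n = k) (h4 : (γ : K) ^ 4 = -1) :
    ∃ x y : V, ∀ g : G, g • x = x → g • y = y → H.α g = 1 := by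
  obtain ⟨a, ha, b, hau, hab, hb, -⟩ := H.exists_qubit h2 hsq hu (H.sc_mem_St u) le_rfl hc
  set X := H.Rel (H.St u) b with hX
  obtain ⟨v, hv⟩ : ∃ v, v = b • u := ⟨_, rfl⟩
  have hav : a • v = -v := by rw [hv, H.cm_smul, hab, hau]; simp
  have hbv : b • v = u := by rw [hv, ← mul_smul, hb, one_smul]
  have hv0 : v ≠ 0 := by rwa [hv, Ne, smul_eq_zero_iff_eq]
  have ind : ∀ s t s' t' : K, s • u + t • v = s' • u + t' • v → s = s' ∧ t = t' := by
    intro s t s' t' h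
    have h1 := congrArg (fun w => a • w) h
    simp only [smul_add, H.lin, hau, hav] at h1
    have h3 : (2 * (s - s')) • u = 0 := by linear_combination (norm := module) h + h1
    have h5 : (2 * (t - t')) • v = 0 := by linear_combination (norm := module) h - h1
    simp only [smul_eq_zero, mul_eq_zero, h2, hu, hv0, or_false, false_or, sub_eq_zero] at h3 h5
    exact ⟨h3, h5⟩
  have form : ∀ q ∈ Subgroup.centralizer (X : Set B), ∃ k ε : K, k ≠ 0 ∧ ε ^ 2 = 1 ∧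
      ((q • u = k • u ∧ q • v = (ε * k) • v ∧ (ε = 1 → q ∈ X)) ∨
        (q • u = (ε * k) • v ∧ q • v = k • u)) := by
    have key : ∀ q ∈ H.Pc u, ∃ k : Kˣ, q ∈ H.St u ∧ q • u = (k : K) • u ∧
        q • v = ((H.cm q b : K) * k) • v ∧ (H.cm q b : K) ^ 2 = 1 := by
      intro q hq
      rw [hP] at hq
      obtain ⟨k, hk⟩ := id hq
      refine ⟨k, hq, hk, by rw [hv, H.cm_smul, hk, H.lin, mul_smul], ?_⟩
      rcases H.cm_cases hsq q b with h | h <;> simp [h]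
    intro q hq
    rcases H.cent_Rel hsq ha hab hq with h | h
    · obtain ⟨k, h0, h1, h3, h5⟩ := key q h
      exact ⟨k, _, k.ne_zero, h5, Or.inl ⟨h1, h3, fun h => ⟨h0, Units.ext h⟩⟩⟩
    · obtain ⟨k, -, h1, h3, h5⟩ := key _ h
      refine ⟨k, _, k.ne_zero, h5, Or.inr ⟨?_, ?_⟩⟩
      · rw [← h3, hv, mul_smul, inv_smul_smul]
      · rw [← h1, ← hbv, mul_smul, inv_smul_smul]
  have hbX : b ∈ Subgroup.centralizer (X : Set B) := H.mem_cent.2 fun t ht => ht.2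
  have hE : ∀ s t : K, s • u + t • v ∈ H.Eig X u := fun s t =>
    add_mem (Submodule.smul_mem _ _ (H.self_mem_Eig _ _))
      (Submodule.smul_mem _ _ (hv ▸ H.smul_mem_Eig hbX (H.self_mem_Eig _ _)))
  have hXu : X ≤ H.St u := fun t ht => ht.1
  let τ : Fin 4 → K := ![γ, 0, 1, (γ : K) ^ 2]
  have g0 : (γ : K) ≠ 0 := γ.ne_zero
  have n1 : (1 : K) ≠ -1 := fun h => h2 (by linear_combination h)
  have g1 : (γ : K) ^ 2 ≠ 1 := fun h => n1 (by rw [← h4]; linear_combination (-γ ^ 2 - 1) * h)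
  have g2 : (γ : K) ^ 2 ≠ -1 := fun h => n1 (by rw [← h4]; linear_combination (-γ ^ 2 + 1) * h)
  have g3 : ((γ : K) ^ 2) ^ 2 = -1 := by rw [← h4]; ring
  have T1 : ∀ c c', τ c ^ 2 = τ c' ^ 2 → c = c' := by
    have g4 : (0 : K) ≠ (γ : K) ^ 2 := (pow_ne_zero 2 g0).symm
    intro c c'
    fin_cases c <;> fin_cases c' <;> simp [τ, g0, g1, g2, g3, g4, g1.symm, g2.symm, n1, n1.symm]
  have T2 : ∀ c c', τ c ^ 2 * τ c' ^ 2 = 1 → c = c' := by
    have g4 : -(γ : K) ^ 2 ≠ 1 := fun h => g2 (by linear_combination -h)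
    intro c c'
    fin_cases c <;> fin_cases c' <;> simp [τ, g0, g1, g2, g3, g4, n1, n1.symm]
  let A : Fin 4 → V := fun c => (1 : K) • u + τ c • v
  have hA0 : ∀ c, A c ≠ 0 := fun c h =>
    one_ne_zero (ind 1 (τ c) 0 0 (by rw [zero_smul, zero_smul, add_zero]; exact h)).1
  have act : ∀ q ∈ Subgroup.centralizer (X : Set B), ∃ k ε : K, k ≠ 0 ∧ ε ^ 2 = 1 ∧
      (((∀ c, q • A c = k • u + (ε * k * τ c) • v) ∧ (ε = 1 → q ∈ X)) ∨
        ∀ c, q • A c = (k * τ c) • u + (ε * k) • v) := by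
    intro q hq
    obtain ⟨k, ε, k0, hε, ⟨h1, h3, h5⟩ | ⟨h1, h3⟩⟩ := form q hq
    · refine ⟨k, ε, k0, hε, Or.inl ⟨fun c => ?_, h5⟩⟩
      simp only [A, smul_add, H.lin, h1, h3]
      module
    · refine ⟨k, ε, k0, hε, Or.inr fun c => ?_⟩
      simp only [A, smul_add, H.lin, h1, h3]
      module
  have stA : ∀ q ∈ Subgroup.centralizer (X : Set B), q ∈ X ∨ (∀ c, q ∈ H.St (A c) → τ c = 0) ∨
      ∃ ε : K, ε ^ 2 = 1 ∧ ∀ c, q ∈ H.St (A c) → τ c ^ 2 = ε := by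
    intro q hq
    obtain ⟨k, ε, k0, hε, ⟨h1, h5⟩ | h1⟩ := act q hq
    · by_cases h : ε = 1
      · exact Or.inl (h5 h)
      · refine Or.inr (Or.inl fun c ⟨l, hl⟩ => ?_)
        rw [h1, smul_add, smul_smul, smul_smul] at hl
        obtain ⟨e1, e2⟩ := ind _ _ _ _ hl
        have : (ε - 1) * k * τ c = 0 := by linear_combination e2 - τ c * e1
        simpa [k0, sub_eq_zero, h] using this
    · refine Or.inr (Or.inr ⟨ε, hε, fun c ⟨l, hl⟩ => ?_⟩)
      rw [h1, smul_add, smul_smul, smul_smul] at hl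
      obtain ⟨e1, e2⟩ := ind _ _ _ _ hl
      exact mul_left_cancel₀ k0 (by linear_combination τ c * e1 - e2)
  have hle : X ≤ H.St (A 0) := H.le_St_of_mem_Eig hXu (hE _ _)
  have hSt : H.St (A 0) = X := by
    refine le_antisymm (fun q hq => ?_) hle
    rcases stA q (H.mem_cent.2 fun t ht => H.St_cm (hA0 0) (hle ht) hq) with h | h | ⟨ε, hε, h⟩
    · exact h
    · exact absurd (h 0 hq) g0
    · have := h 0 hq
      simp only [τ, Matrix.cons_val_zero] at this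
      rw [← this, g3] at hε
      exact absurd hε n1.symm
  have hPc : H.Pc (A 0) = Subgroup.centralizer (X : Set B) := by rw [Pc, hSt]
  have hE' : ∀ s t : K, s • u + t • v ∈ H.Eig (H.St (A 0)) (A 0) := fun s t => by
    rw [hSt, H.Eig_eq hXu (hE _ _) (hA0 0)]
    exact hE s t
  have haP : H.sc γ * b ∈ H.Pc (A 0) := hPc ▸ Subgroup.mul_mem _ (H.sc_mem_cent _ _) hbX
  refine ⟨A 0, H.base2_block hsq (hA0 0) A (fun c => hE' _ _) hA0 (fun _ _ h => h)
    (fun c c' q hq h => ?_) (fun c c' hc q hq h h' => ?_)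
    (H.smul_mem_Eig haP (H.self_mem_Eig _ _)) fun g h1 h3 => ?_⟩
  · obtain ⟨k, ε, k0, hε, ⟨h1, -⟩ | h1⟩ := act q (hPc ▸ hq)
    · rw [h1] at h
      obtain ⟨e1, e2⟩ := ind _ _ _ _ h
      refine T1 c c' ?_
      rw [← e2, e1]
      linear_combination -(τ c ^ 2) * hε
    · rw [h1] at h
      obtain ⟨e1, e2⟩ := ind _ _ _ _ h
      refine T2 c c' ?_
      rw [← e2]
      linear_combination (k * τ c) ^ 2 * hε + (k * τ c + 1) * e1
  · rw [hSt]
    rcases stA q (hPc ▸ hq) with h1 | h1 | ⟨ε, -, h1⟩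
    · exact h1
    · exact absurd (T1 c c' (by rw [h1 c h, h1 c' h'])) hc
    · exact absurd (T1 c c' (by rw [h1 c h, h1 c' h'])) hc
  · have hs : ∀ s : K, g • s ^ 2 • A 0 = s ^ 2 • A 0 := by
      intro s
      rcases eq_or_ne s 0 with rfl | hs
      · simp
      · obtain ⟨n, hn⟩ := hγ (Units.mk0 s hs)
        have := H.gd_pow h1 haP h3 (2 * n)
        rw [pow_mul, H.mul_pow', H.cm_sc_right, one_pow, map_one, one_mul, sq b, hb, mul_one,
          ← pow_mul, mul_comm, pow_mul, ← map_pow, hn, ← map_pow, H.sc_smul] at this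
        exact this
    have hk : ∀ k : Kˣ, g • (k : K) • A 0 = (k : K) • A 0 := by
      intro k
      obtain ⟨s, t, hst⟩ := exists_sq_comb h2 one_ne_zero one_ne_zero (k : K)
      rw [← hst, mul_one, mul_one, add_smul, smul_add, hs, hs]
    have hfix : ∀ s t : K, g • (s • u + t • v) = s • u + t • v := by
      intro s t
      have g5 : 1 - (γ : K) ^ 2 ≠ 0 := sub_ne_zero.2 g1.symm
      have := H.fix_comb h1 h3 hk ((s - t * γ) / (1 - γ ^ 2)) ((t / γ - s) / (1 - γ ^ 2))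
      have e : ((s - t * γ) / (1 - γ ^ 2) : K) • A 0 +
          ((t / γ - s) / (1 - γ ^ 2) : K) • (H.sc γ * b) • A 0 = s • u + t • v := by
        simp only [A, τ, Matrix.cons_val_zero, mul_smul, H.sc_smul, smul_add, H.lin, hbv, ← hv]
        match_scalars <;> field_simp <;> ring
      rwa [e] at this
    refine ⟨fun q hq => ?_, fun c => hfix _ _⟩
    obtain ⟨k, ε, -, -, ⟨h1, -⟩ | h1⟩ := act q (hPc ▸ hq) <;> rw [h1, hfix]

theorem y0_of_struct {x : V} (hP : H.Pc x = H.St x ∨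
    ∃ a ∈ H.Pc x, ∃ d ∈ H.Pc x, ∃ γ : Kˣ, (∀ k, ∃ n : ℕ, γ ^ n = k) ∧ (2 : K) ≠ 0 ∧
      a ^ 2 • x = (γ : K) • x ∧ H.cm a d = -1 ∧ d ∉ H.St x ∧ ¬ IsSquare (-1 : Kˣ) ∧
      (∃ s t : K, d • x = s • x + t • a • x) ∧
      ∀ p ∈ H.Pc x, p ∈ H.St x ∨ a⁻¹ * p ∈ H.St x ∨ d⁻¹ * p ∈ H.St x ∨
        (a * d)⁻¹ * p ∈ H.St x) [Finite K] :
    ∃ a ∈ H.Pc x, ∀ g : G, g • x = x → g • a • x = a • x → ∀ p ∈ H.Pc x, g • p • x = p • x := by
  obtain hP | ⟨a, ha, d, hd, γ, hγ, h2, ha2, -, -, -, ⟨s, t, hst⟩, hP⟩ := hP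
  · obtain ⟨γ, hγ⟩ := IsCyclic.exists_monoid_generator (α := Kˣ)
    refine ⟨H.sc γ, H.sc_mem_cent _ _, fun g hg hga p hp => ?_⟩
    obtain ⟨k, hk⟩ := hP ▸ hp
    obtain ⟨n, rfl⟩ := hγ k
    have := H.gd_pow hg (H.sc_mem_cent _ _) hga n
    rwa [← map_pow, H.sc_smul, ← hk] at this
  · refine ⟨a, ha, fun g hg hga p hp => ?_⟩
    have hk : ∀ k : Kˣ, g • (k : K) • x = (k : K) • x := by
      intro k
      obtain ⟨n, rfl⟩ := hγ k
      have := H.gd_pow hg ha hga (2 * n)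
      rwa [pow_mul, H.pow_smul_eq ha2, ← Units.val_pow_eq_pow_val] at this
    have key := H.fix_comb hg hga hk
    rcases hP p hp with ⟨k, hk⟩ | ⟨k, hk⟩ | ⟨k, hk⟩ | ⟨k, hk⟩
    · simpa [hk] using key k 0
    · rw [mul_smul, inv_smul_eq_iff, H.lin] at hk
      simpa [hk] using key 0 k
    · rw [mul_smul, inv_smul_eq_iff, H.lin, hst, smul_add, smul_smul, smul_smul] at hk
      rw [hk, key]
    · rw [mul_smul, inv_smul_eq_iff, H.lin, mul_smul, hst, smul_add, H.lin, H.lin, ← mul_smul a a,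
        ← sq, ha2, smul_add, smul_smul, smul_smul, smul_smul, add_comm] at hk
      rw [hk, key]

theorem hK_of {p : ℕ} [NeZero p] (e : ZMod p ≃+* K) (k : K) : ∃ n ∈ List.range p, k = n := by
  obtain ⟨z, rfl⟩ := e.surjective k
  exact ⟨z.val, List.mem_range.2 (ZMod.val_lt z), by rw [← map_natCast e, ZMod.natCast_zmod_val]⟩

theorem base2 [Finite B] [Finite K] [Finite G] (h2 : (2 : K) ≠ 0)
    (hcop : (Nat.card G).Coprime (Nat.card K)) :
    ∃ x y : V, ∀ g : G, g • x = x → g • y = y → H.α g = 1 := by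
  obtain ⟨x, hx, hP⟩ := H.exists_struct
  by_cases hgen : (∃ γ : Kˣ, γ ^ 8 ≠ 1) ∨
      ∀ ω η : B ⧸ H.Pc x, orderOf ω = 2 → orderOf η = 2 → ω = η
  · obtain ⟨a, ha, hy⟩ := H.y0_of_struct hP
    exact ⟨x, H.base2_generic h2 hx.1 ha hy hgen⟩
  rw [not_or] at hgen
  obtain ⟨h8, hΩ⟩ := hgen
  push Not at h8
  have hm1 := neg_one_ne h2
  have hsq : ∀ b : B, ∃ k, b ^ 2 = H.sc k := by
    obtain ⟨m, hm, hpow⟩ := H.exists_sqf
    intro b
    obtain ⟨k, hk⟩ := hpow b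
    refine H.cen _ fun c => ?_
    rw [← H.cm_eq_one_iff, H.cm_pow_left, ← orderOf_dvd_iff_pow_eq_one]
    have h1 : orderOf (H.cm b c) ∣ m :=
      orderOf_dvd_of_pow_eq_one (by rw [← H.cm_pow_left, hk, H.cm_sc_left])
    have h3 : orderOf (H.cm b c) ∣ 2 ^ 3 := orderOf_dvd_of_pow_eq_one (h8 _)
    exact ((hm.squarefree_of_dvd h1).dvd_pow_iff_dvd (by norm_num)).1 h3
  obtain ⟨γ, hγ⟩ := IsCyclic.exists_monoid_generator (α := Kˣ)
  have sq1 : ∀ k : Kˣ, k ^ 2 = 1 → k ≠ 1 → k = -1 := fun k h h' =>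
    eq_of_sq_eq_one_cyclic h (by simp) h' hm1
  have plus : IsSquare (-1 : Kˣ) → H.Pc x = H.St x := fun hi => by
    rcases hP with h | ⟨-, -, -, -, -, -, -, -, -, -, h, -⟩
    · exact h
    · exact absurd hi h
  by_cases h4 : γ ^ 4 = 1
  swap
  · have h4' := sq1 (γ ^ 4) (by rw [← pow_mul]; exact h8 γ) h4
    obtain ⟨c, hc⟩ : ∃ c, c ∉ H.Pc x := by
      by_contra hn
      push Not at hn
      refine hΩ fun ω η _ _ => ?_
      obtain ⟨c, rfl⟩ := QuotientGroup.mk_surjective ω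
      obtain ⟨d, rfl⟩ := QuotientGroup.mk_surjective η
      exact QuotientGroup.eq.2 (hn _)
    exact H.base2_nine h2 hsq hx.1 (plus ⟨γ ^ 2, by rw [← h4', ← pow_add]⟩) hc hγ
      (by rw [← Units.val_pow_eq_pow_val, h4']; simp)
  haveI := Fintype.ofFinite K
  have hcard : Fintype.card K = orderOf γ + 1 := by
    rw [orderOf_eq_card_of_forall_mem_powers hγ, Nat.card_units, Nat.card_eq_fintype_card]
    have := Fintype.card_pos (α := K)
    omega
  by_cases h2' : γ ^ 2 = 1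
  · have hγ1 : γ ≠ 1 := by
      rintro rfl
      obtain ⟨n, hn⟩ := hγ (-1)
      exact hm1 (by rw [← hn]; simp)
    have ho : orderOf γ = 2 := orderOf_eq_prime h2' hγ1
    rw [ho] at hcard
    let e := ZMod.ringEquivOfPrime K Nat.prime_three hcard
    have h3 : (Nat.card G).Coprime 3 := by rwa [Nat.card_eq_fintype_card (α := K), hcard] at hcop
    have hK := hK_of e
    rcases hP with hP | ⟨a, ha, d, hd, δ, hδ, -, ha2, had, hdn, -, ⟨s, t, hst⟩, hP⟩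
    · obtain ⟨M⟩ := H.mod_plus e hx.1 hP actS (by decide) (by decide) (by decide)
      obtain ⟨X, ⟨M⟩⟩ := Mod.dbl2 H h2 hsq hx.1 M hΩ
      rcases M.alt hK (coord2 3) colsP rigP0 with h0 | ⟨f0, m0, n0, g0, e0⟩
      · exact M.base2 hsq hK colsP _ h0
      rcases M.alt hK (coord2 3) colsP rigP1 with h0 | ⟨f1, m1, n1, g1, e1⟩
      · exact M.base2 hsq hK colsP _ h0
      rcases M.alt hK (coord2 3) colsP rigP2 with h0 | ⟨f2, m2, n2, g2, e2⟩
      · exact M.base2 hsq hK colsP _ h0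
      rcases finP f0 m0 f1 m1 f2 m2 with h | h | h | h | h | h
      · exact absurd h n0
      · exact absurd h n1
      · exact absurd h n2
      · exact absurd h (M.not_bad h3 e0 e1)
      · exact absurd h (M.not_bad h3 e0 e2)
      · exact absurd h (M.not_bad h3 e1 e2)
    · have hδ1 : δ = -1 := by
        obtain ⟨n, rfl⟩ := hγ δ
        refine sq1 _ (by rw [← pow_mul, mul_comm, pow_mul, h2', one_pow]) fun h => ?_
        obtain ⟨m, hm⟩ := hδ (-1)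
        exact hm1 (by rw [← hm, h, one_pow])
      obtain ⟨M⟩ := H.mod_minus e hx.1 ha hd h2 (by rw [ha2, hδ1]; simp) had hdn hst hP
      obtain ⟨X, ⟨M⟩⟩ := Mod.dbl2 H h2 hsq hx.1 M hΩ
      rcases M.alt hK coord3 colsM rigM0 with h0 | ⟨f0, m0, n0, g0, e0⟩
      · exact M.base2 hsq hK colsM _ h0
      rcases M.alt hK coord3 colsM rigM1 with h0 | ⟨f1, m1, n1, g1, e1⟩
      · exact M.base2 hsq hK colsM _ h0
      rcases finM f0 m0 f1 m1 with h | h | h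
      · exact absurd h n0
      · exact absurd h n1
      · exact absurd h (M.not_bad h3 e0 e1)
  · have ho : orderOf γ = 2 ^ 2 := orderOf_eq_prime_pow (n := 1) (by simpa using h2') h4
    rw [ho] at hcard
    let e := ZMod.ringEquivOfPrime K Nat.prime_five hcard
    have hK := hK_of e
    have h4' := sq1 (γ ^ 2) (by rw [← pow_mul]; exact h4) h2'
    obtain ⟨M⟩ := H.mod_plus e hx.1 (plus ⟨γ, by rw [← h4', sq]⟩) actF (by decide) (by decide)
      (by decide)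
    obtain ⟨X, ⟨M⟩⟩ := Mod.dbl2 H h2 hsq hx.1 M hΩ
    rcases M.alt hK (coord2 5) colsF rigF0 with h0 | ⟨f0, m0, n0, -⟩
    · exact M.base2 hsq hK colsF _ h0
    · exact absurd (finF f0 m0) n0

end Heis

theorem heisBase2 : HeisBase2 := fun _ _ _ _ _ _ _ _ _ _ _ _ _ _ H h2 hcop => H.base2 h2 hcop

end Cfsg.Agent.H11
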