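import Cfsg.Agent.H11.BaseDefs

set_option autoImplicit false

namespace Cfsg.Agent.H11

universe u

/-- A group `B` of `K`-linear maps on `V`, of class at most two, whose centre is the group of
scalars, together with a group `G` acting on `V` and normalising `B`, such that every
`G`-invariant abelian subgroup of `B` is cyclic. -/
structure Heis (K B V G : Type*) [Field K] [Group B] [AddCommGroup V] [Module K V]
    [DistribMulAction B V] [Group G] [DistribMulAction G V] where
  sc : Kˣ →* B
  sc_smul : ∀ (k : Kˣ) (v : V), sc k • v = (k : K) • v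
  lin : ∀ (b : B) (k : K) (v : V), b • k • v = k • b • v
  faith : ∀ b : B, (∀ v : V, b • v = v) → b = 1
  comm : ∀ b c : B, ∃ k, b * c = sc k * (c * b)
  cen : ∀ b : B, (∀ c, b * c = c * b) → ∃ k, b = sc k
  nt : ∃ v : V, v ≠ 0
  α : G →* MulAut B
  compat : ∀ (g : G) (b : B) (v : V), g • b • v = α g b • g • v
  cyc : ∀ D : Subgroup B, (∀ g, ∀ d ∈ D, α g d ∈ D) → (∀ a ∈ D, ∀ b ∈ D, a * b = b * a) →
    IsCyclic D

/-- three vectors pin down `B` -/
def HeisBase3 : Prop :=
  ∀ (K B V G : Type u) [Field K] [Finite K] [Group B] [Finite B] [AddCommGroup V] [Module K V]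
    [DistribMulAction B V] [Group G] [DistribMulAction G V] (H : Heis K B V G),
    ∃ x y z : V, ∀ g : G, g • x = x → g • y = y → g • z = z → H.α g = 1

/-- two vectors pin down `B` in odd characteristic prime to the order of `G` -/
def HeisBase2 : Prop :=
  ∀ (K B V G : Type u) [Field K] [Finite K] [Group B] [Finite B] [AddCommGroup V] [Module K V]
    [DistribMulAction B V] [Group G] [Finite G] [DistribMulAction G V] (H : Heis K B V G),
    (2 : K) ≠ 0 → (Nat.card G).Coprime (Nat.card K) →
    ∃ x y : V, ∀ g : G, g • x = x → g • y = y → H.α g = 1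

end Cfsg.Agent.H11
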