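import Cfsg.Agent.H10.P3SU
import Cfsg.Agent.H10.P3Ext
import Cfsg.Agent.H10.HermCount
import Cfsg.Agent.H10.Isotropic

/-! Involutions of `SU₃(q)`, `q` odd, and unit vectors. -/

set_option autoImplicit false

namespace Cfsg.Agent.H11

open Matrix H10 H10.P3

variable {F : Type*} [Field F] [Fintype F] {q : ℕ} [hF : Fact (Fintype.card F = q ^ 2)]

local notation "σ" => cj F q
local notation "𝐡" => hermForm 3 F q

/-- `x` is the involution fixing the unit vector `v` -/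
def Rf (x : SU 3 F q) (v : V3 F) : Prop := 𝐡 v v = 1 ∧ ∀ y, sm x *ᵥ y = (2 * 𝐡 y v) • v - y

theorem exists_rf {v : V3 F} (hv : 𝐡 v v = 1) : ∃ x : SU 3 F q, Rf x v := by
  have h1 : ∀ y, (-unitaryTransvection 3 q v (-2)) *ᵥ y = (2 * 𝐡 y v) • v - y := fun y => by
    rw [neg_mulVec, ut_mulVec]; module
  refine ⟨mkSU _ (fun a b => ?_) ?_, hv, h1⟩
  · rw [neg_mulVec, neg_mulVec, herm_neg_left, herm_neg_right, neg_neg]
    exact isIsom_ut (by simp [hv, map_ofNat]; norm_num) a b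
  · rw [det_neg, det_ut, hv]; norm_num

theorem exists_unit_smul {v : V3 F} (hv : 𝐡 v v ≠ 0) :
    ∃ b : F, b * σ b = (𝐡 v v)⁻¹ ∧ 𝐡 (b • v) (b • v) = 1 := by
  obtain ⟨b, hb⟩ := exists_norm_eq (q := q) (t := (𝐡 v v)⁻¹) (by rw [map_inv₀, cj_herm])
  exact ⟨b, hb, by rw [herm_smul_left, herm_smul_right, ← mul_assoc, hb, inv_mul_cancel₀ hv]⟩

variable {x y : SU 3 F q} {v w : V3 F}

theorem Rf.smul (h : Rf x v) {c : F} (hc : c * σ c = 1) : Rf x (c • v) :=
  ⟨by rw [herm_smul_left, herm_smul_right, h.1, mul_one, hc], fun y => by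
    rw [h.2, herm_smul_right, smul_smul]; congr 2; linear_combination (-2 * 𝐡 y v) * hc⟩

theorem Rf.ne_zero (h : Rf x v) : v ≠ 0 := by
  rintro rfl
  exact zero_ne_one ((herm_zero_left _).symm.trans h.1)

theorem Rf.mul_self (h : Rf x v) : x * x = 1 := SU_ext fun y => by
  change sm (x * x) *ᵥ y = (1 : M3 F) *ᵥ y
  rw [sm_mul, ← mulVec_mulVec, h.2, h.2, herm_sub_left, herm_smul_left, h.1, one_mulVec]
  module

theorem norm_eq_one_of_eq (hv : 𝐡 v v = 1) (hw : 𝐡 w w = 1) {c : F} (h : w = c • v) :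
    c * σ c = 1 := by
  rwa [h, herm_smul_left, herm_smul_right, hv, mul_one] at hw

theorem herm_cross (v w : V3 F) : let n := (fun i => σ (v i)) ⨯₃ fun i => σ (w i)
    𝐡 n v = 0 ∧ 𝐡 n w = 0 ∧ 𝐡 n n = 𝐡 v v * 𝐡 w w - 𝐡 w v * σ (𝐡 w v) := by
  simp [herm_eq, Fin.sum_univ_three, cross_apply, cj_cj]
  refine ⟨by ring, by ring, by ring⟩

theorem exists_perp_iff (hv : 𝐡 v v = 1) (hw : 𝐡 w w = 1) (h : w ≠ 𝐡 w v • v) :
    (∃ z, 𝐡 z z = 1 ∧ 𝐡 z v = 0 ∧ 𝐡 z w = 0) ↔ 𝐡 w v * σ (𝐡 w v) ≠ 1 := by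
  obtain ⟨h1, h2, h3⟩ := herm_cross (q := q) v w
  rw [hv, hw, one_mul] at h3
  refine ⟨fun ⟨z, h4, h5, h6⟩ h7 => ?_, fun h4 => ?_⟩
  · rw [herm_eq_dot] at h5 h6
    obtain ⟨c, rfl⟩ := exists_smul_of_cross (fun h8 => cross_ne_zero (cjv_ne (q := q) (v := v) (by
      rintro rfl; simp [herm_zero_left] at hv)) (cjv_indep (u := w) fun c hc => h (by
        rw [hc, herm_smul_left, hv, mul_one])) (by rw [← cross_anticomm, h8, neg_zero]))
      (cross_eq_zero_of_dot h5 h6)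
    rw [herm_smul_left, herm_smul_right, h3, h7] at h4
    simp at h4
  · obtain ⟨b, -, hb⟩ := exists_unit_smul (h3 ▸ sub_ne_zero.2 h4.symm)
    exact ⟨_, hb, by rw [herm_smul_left, h1, mul_zero], by rw [herm_smul_left, h2, mul_zero]⟩

theorem card_unit_herm (hv : 𝐡 v v = 1) (P : F → Prop) [DecidablePred P] :
    Nat.card {w : V3 F // 𝐡 w w = 1 ∧ P (𝐡 w v) ∧ w ≠ 𝐡 w v • v} = ∑ a, if P a then
      Nat.card {u : Fin 2 → F // hermForm 2 F q u u = 1 - a * σ a ∧ u ≠ 0} else 0 := by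
  classical
  have h0 : 𝐡 (Pi.single 0 1) (Pi.single 0 1) = 1 := by simp [herm_single_single]
  obtain ⟨g, hg⟩ : v ∈ MulAction.orbit (GU 3 F q) (Pi.single 0 1 : V3 F) := by
    rw [orbit_GU_of_norm_ne_zero (by simp [h0])]; exact hv.trans h0.symm
  subst hg
  rw [← Nat.card_congr ((MulAction.toPerm g).subtypeEquiv
    (p := fun w => 𝐡 w w = 1 ∧ P (w 0) ∧ Fin.tail w ≠ 0) fun w => ?_)]
  · rw [← Nat.card_congr ((Fin.consEquiv fun _ => F).subtypeEquiv (p := fun z => P z.1 ∧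
      hermForm 2 F q z.2 z.2 = 1 - z.1 * σ z.1 ∧ z.2 ≠ 0) fun z => ?_),
      Nat.card_congr (Equiv.subtypeProdEquivSigmaSubtype fun a (u : Fin 2 → F) => P a ∧
        hermForm 2 F q u u = 1 - a * σ a ∧ u ≠ 0), Nat.card_sigma]
    · exact Finset.sum_congr rfl fun a _ => by split_ifs with h <;> simp [h]
    · simp only [Fin.consEquiv_apply, Fin.cons_zero, Fin.tail_cons]
      erw [herm_cons, eq_sub_iff_add_eq']
      tauto
  · simp only [MulAction.toPerm_apply, gm_smul, gm_isIsom g _ _, herm_single_right, ← mulVec_smul]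
    refine and_congr_right fun _ => and_congr_right fun _ => not_congr ⟨fun h => ?_, fun h => ?_⟩
    · congr 1
      ext i
      refine Fin.cases (by simp) (fun i => ?_) i
      simpa [Fin.tail] using congrFun h i
    · ext i
      simpa [Fin.tail] using congrFun (MulAction.injective g (a₁ := w)
        (a₂ := w 0 • Pi.single 0 1) h) i.succ

theorem card_two_ne {t : F} (ht : σ t = t) (h0 : t ≠ 0) :
    Nat.card {u : Fin 2 → F // hermForm 2 F q u u = t ∧ u ≠ 0} = q * (q ^ 2 - 1) := by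
  rw [Nat.card_congr (Equiv.subtypeEquivRight (p := fun u => hermForm 2 F q u u = t ∧ u ≠ 0)
    (q := fun u => hermForm 2 F q u u = t) fun u =>
    and_iff_left_of_imp fun h (e : u = 0) => h0 (by rw [← h, e, herm_zero_left])), card_norm_ne_zero 2 ht h0]
  simp

theorem card_two_zero :
    Nat.card {u : Fin 2 → F // hermForm 2 F q u u = 0 ∧ u ≠ 0} = (q ^ 2 - 1) * (q + 1) := by
  have h := card_norm_zero (F := F) (q := q) 2
  have h1 := Set.ncard_diff_singleton_add_one (s := {u : Fin 2 → F | hermForm 2 F q u u = 0})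
    (a := 0) (herm_zero_left _)
  rw [← Nat.card_coe_set_eq, ← Nat.card_coe_set_eq] at h1
  exact Nat.add_right_cancel ((h1.trans h).trans (by simp))

variable (h2 : (2 : F) ≠ 0)
include h2

theorem Rf.ne_one (h : Rf x v) : x ≠ 1 := by
  rintro rfl
  have h1 : ∀ y, y = 𝐡 y v • v := fun y => smul_right_injective _ h2 (by
    have := h.2 y
    rw [sm_one, one_mulVec, eq_sub_iff_add_eq] at this
    simpa [smul_smul, two_smul F y] using this)
  have h3 := congrFun (h1 (Pi.single 0 1)) 0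
  have h4 := congrFun (h1 (Pi.single 0 1)) 1
  have h5 := congrFun (h1 (Pi.single 1 1)) 1
  simp at h3 h4 h5
  rcases h4 with h4 | h4 <;> simp [h4] at h3 h5

theorem exists_vec (h1 : x ≠ 1) (h : x * x = 1) : ∃ v, Rf x v := by
  have h3 : sm x * sm x = 1 := by rw [← sm_mul, h, sm_one]
  have h4 : (sm x).trace = -1 := by
    by_contra h0
    have e := cayley (sm x)
    have hi : (sm x).adjugate = sm x := by
      rw [← one_mul (adjugate _), ← h3, mul_assoc, mul_adjugate, sm_det, one_smul, mul_one]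
    rw [pow_succ, pow_two, h3, one_mul, hi, sm_det] at e
    refine h1 (sm_injective (smul_right_injective _ (show 1 + (sm x).trace ≠ 0 from
      fun e => h0 (by linear_combination e)) ?_))
    simp only [add_smul, one_smul, sm_one] at e ⊢
    nth_rewrite 1 [e]
    abel
  have e1 : (sm x + 1) * (sm x + 1) = (2 : F) • (sm x + 1) := by
    rw [mul_add, add_mul, add_mul, h3, two_smul]; simp [add_comm]
  have e2 : (sm x + 1).trace = 2 := by rw [trace_add, h4]; simp; norm_num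
  have e3 := P3.trace_sq (sm x + 1)
  rw [sq, e1, trace_smul, e2, smul_eq_mul] at e3
  have e4 : (sm x + 1).adjugate.trace = 0 :=
    (mul_eq_zero.1 (by linear_combination e3)).resolve_left h2
  obtain ⟨v, φ, e⟩ := exists_vv_of_adj (N := sm x + 1) (by rw [adj_eq, e1, e2, e4]; simp)
  rw [e, trace_vv] at e2
  have e5 : ∀ y, sm x *ᵥ y = (φ ⬝ᵥ y) • v - y := fun y => by
    rw [← vv_mulVec, ← e, add_mulVec, one_mulVec, add_sub_cancel_right]
  have e6 : ∀ y, (φ ⬝ᵥ y) * 𝐡 v v = 2 * 𝐡 y v := fun y => by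
    have := sm_isIsom x y v
    rw [e5 v, e2, two_smul, add_sub_cancel_right, e5, herm_sub_left, herm_smul_left] at this
    linear_combination this
  have e7 : 𝐡 v v ≠ 0 := fun h0 => h2 (by
    rw [← e2, eq_zero_of_herm_right (q := q) (x := v) fun y => by simpa [h0, h2] using e6 y,
      dotProduct_zero])
  obtain ⟨b, hb, hb'⟩ := exists_unit_smul e7
  refine ⟨_, hb', fun y => ?_⟩
  rw [e5, herm_smul_right, smul_smul]
  congr 2
  rw [(eq_div_iff e7).2 (e6 y), div_eq_mul_inv, ← hb]; ring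

theorem Rf.eq_iff (h : Rf x v) (h' : Rf y w) : y = x ↔ w = 𝐡 w v • v := by
  refine ⟨fun e => smul_right_injective _ h2 ?_, fun e => SU_ext fun z => ?_⟩
  · have := (h'.2 w).symm.trans (e ▸ h.2 w)
    simpa [h'.1, smul_smul] using this
  · have := h.smul (norm_eq_one_of_eq h.1 h'.1 e)
    rw [← e] at this
    exact (h'.2 z).trans (this.2 z).symm

theorem Rf.comm_iff (h : Rf x v) (h' : Rf y w) : Commute x y ↔ 𝐡 w v = 0 ∨ y = x := by
  refine ⟨fun e => ?_, ?_⟩
  · have h3 := congrArg (sm · *ᵥ w) e.eq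
    simp only [sm_mul, ← mulVec_mulVec, h.2, h'.2, h'.1, herm_sub_left, herm_smul_left] at h3
    refine or_iff_not_imp_left.2 fun h4 => (h.eq_iff h2 h').2 ?_
    have h5 : v = 𝐡 v w • w := smul_right_injective _ (mul_ne_zero (mul_ne_zero h2 h2) h4) (by
      linear_combination (norm := module) h3)
    have h6 := norm_eq_one_of_eq h'.1 h.1 h5
    rw [cj_herm] at h6
    rw [h5, smul_smul, ← h5, mul_comm, h6, one_smul]
  · rintro (e | rfl)
    · refine SU_ext fun z => ?_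
      change sm (x * y) *ᵥ z = sm (y * x) *ᵥ z
      simp only [sm_mul, ← mulVec_mulVec, h.2, h'.2, herm_sub_left, herm_smul_left, e,
        herm_swap_zero e]
      module
    · exact Commute.refl _

theorem card_inv_mul {P : SU 3 F q → Prop} {Q : V3 F → Prop}
    (h : ∀ x v, Rf x v → (P x ↔ Q v)) :
    Nat.card {x : SU 3 F q // x ≠ 1 ∧ x * x = 1 ∧ P x} * (q + 1) =
      Nat.card {v : V3 F // 𝐡 v v = 1 ∧ Q v} := by
  choose f hf using fun x : {x : SU 3 F q // x ≠ 1 ∧ x * x = 1 ∧ P x} => exists_vec h2 x.2.1 x.2.2.1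
  rw [← card_norm_eq_one (F := F), ← Nat.card_prod]
  refine Nat.card_eq_of_bijective (fun z => ⟨z.2.1 • f z.1, ((hf z.1).smul z.2.2).1,
    (h _ _ ((hf z.1).smul z.2.2)).1 z.1.2.2.2⟩) ⟨fun ⟨a, c⟩ ⟨b, d⟩ e => ?_, fun ⟨v, h1, h3⟩ => ?_⟩
  · have e1 : c.1 • f a = d.1 • f b := congrArg Subtype.val e
    obtain rfl : a = b := Subtype.ext (SU_ext fun z =>
      (((hf a).smul c.2).2 z).trans (e1 ▸ (((hf b).smul d.2).2 z).symm))
    rw [Subtype.ext (smul_left_injective F (hf a).ne_zero e1)]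
  · obtain ⟨x, hx⟩ := exists_rf h1
    have h4 := ((hf ⟨x, hx.ne_one h2, hx.mul_self, (h _ _ hx).2 h3⟩).eq_iff h2 hx).1 rfl
    exact ⟨(_, ⟨_, norm_eq_one_of_eq (hf _).1 h1 h4⟩), Subtype.ext h4.symm⟩

omit h2 in
theorem Rf.conj (h : Rf x v) (h' : Rf y w) : ∃ g, g * x * g⁻¹ = y := by
  obtain ⟨g, hg⟩ : w ∈ MulAction.orbit (GU 3 F q) v := by
    rw [orbit_GU_of_norm_ne_zero (by simp [h.1])]; exact h'.1.trans h.1.symm
  have h1 := (gm_isIsom g).det_mul_cj
  have h3 := (gm_isIsom g).det_ne_zero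
  have h4 : (gm g).det⁻¹ * σ (gm g).det⁻¹ = 1 := by rw [map_inv₀, ← mul_inv, h1, inv_one]
  have h5 : 𝐡 w w ≠ 0 := by simp [h'.1]
  let k := mkSU _ ((isIsom_quasi h5 h4).mul (gm_isIsom g)) (by
    rw [det_mul, det_ut]; field_simp; ring)
  have h6 : sm k *ᵥ v = (gm g).det⁻¹ • w := by
    rw [← quasi_mulVec_self h5, ← show gm g *ᵥ v = w from hg, mulVec_mulVec]
    rw [show gm g *ᵥ v = w from hg]; rfl
  refine ⟨k, mul_inv_eq_of_eq_mul (SU_ext fun z => ?_)⟩
  change sm (k * x) *ᵥ z = sm (y * k) *ᵥ z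
  rw [sm_mul, sm_mul, ← mulVec_mulVec, ← mulVec_mulVec, (h'.smul h4).2, ← h6, sm_isIsom k, h.2,
    mulVec_sub, mulVec_smul]

end Cfsg.Agent.H11
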