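import Mathlib

set_option autoImplicit false

namespace Cfsg.Agent.H11.BC

/-- integer combination of a list of vectors -/
def comb {W : Type*} [AddCommGroup W] : List ℕ → List W → W
  | c :: cs, v :: vs => c • v + comb cs vs
  | _, _ => 0

theorem map_comb {W W' : Type*} [AddCommGroup W] [AddCommGroup W'] (T : W →+ W') :
    ∀ (c : List ℕ) (vs : List W), T (comb c vs) = comb c (vs.map T)
  | [], _ => by simp [comb]
  | _ :: _, [] => by simp [comb]
  | c :: cs, v :: vs => by simp [comb, map_comb T cs vs]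

theorem comb_mem {W : Type*} [AddCommGroup W] (S : AddSubgroup W) :
    ∀ (c : List ℕ) (vs : List W), (∀ v ∈ vs, v ∈ S) → comb c vs ∈ S
  | [], _, _ => by simp [comb]
  | _ :: _, [], _ => by simp [comb]
  | c :: cs, v :: vs, h => S.add_mem (S.nsmul_mem (h v (by simp)) c)
      (comb_mem S cs vs fun w hw => h w (by simp [hw]))

theorem comb_append {W : Type*} [AddCommGroup W] :
    ∀ (c : List ℕ) (vs : List W) (c' : List ℕ) (vs' : List W), c.length = vs.length →
      comb (c ++ c') (vs ++ vs') = comb c vs + comb c' vs'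
  | [], [], _, _, _ => by simp [comb]
  | [], _ :: _, _, _, h => by simp at h
  | _ :: _, [], _, _, h => by simp at h
  | c :: cs, v :: vs, c', vs', h => by
      simp only [List.cons_append, comb, comb_append cs vs c' vs' (by simpa using h), add_assoc]

/-- `co` gives coordinates with respect to `std` -/
def Coord {W : Type*} [AddCommGroup W] (std : List W) (co : W → List ℕ) : Prop :=
  ∀ w, comb (co w) std = w ∧ (co w).length = std.length

theorem coord_zmod (p : ℕ) [NeZero p] : Coord [(1 : ZMod p)] (fun w => [w.val]) := fun w => by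
  simp [comb]

/-- standard basis of the square -/
def dbl {W : Type*} [AddCommGroup W] (std : List W) : List (W × W) :=
  std.map (AddMonoidHom.inl W W) ++ std.map (AddMonoidHom.inr W W)

/-- coordinates on the square -/
def dco {W : Type*} (co : W → List ℕ) (w : W × W) : List ℕ := co w.1 ++ co w.2

theorem Coord.dbl {W : Type*} [AddCommGroup W] {std : List W} {co : W → List ℕ}
    (h : Coord std co) : Coord (dbl std) (dco co) := fun w => by
  refine ⟨?_, by simp [BC.dbl, dco, (h _).2]⟩
  rw [BC.dbl, dco, comb_append _ _ _ _ (by simp [(h _).2]), ← map_comb, ← map_comb, (h _).1,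
    (h _).1]
  simp

/-- operators on the square -/
def act2 {W P : Type*} [AddCommGroup W] (act : P → W → W) (π : P × Bool × Bool) (w : W × W) :
    W × W :=
  (act π.1 (cond π.2.2 w.2 w.1),
    cond π.2.1 (-act π.1 (cond π.2.2 w.1 w.2)) (act π.1 (cond π.2.2 w.1 w.2)))

/-- signs -/
def actS {W : Type*} [AddCommGroup W] (s : Bool) (w : W) : W := cond s (-w) w

/-- the scalars `1, 2, -1, -2` -/
def actF {W : Type*} [AddCommGroup W] (s : Bool × Bool) (w : W) : W :=
  actS s.1 (cond s.2 (w + w) w)

/-- the quaternion group on the plane over the field with three elements -/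
def actQ (s : Bool × Bool × Bool) (w : ZMod 3 × ZMod 3) : ZMod 3 × ZMod 3 :=
  actS s.1 (cond s.2.1 (cond s.2.2 (w.2 - w.1, w.1 + w.2) (-w.2, w.1))
    (cond s.2.2 (w.1 + w.2, w.1 - w.2) w))

/-- `T` normalises the operators and fixes `x` -/
def Nrm {W P : Type*} [AddCommGroup W] (act : P → W → W) (x : W) (T : W →+ W) : Prop :=
  T x = x ∧ ∀ π, ∃ π', ∀ w, T (act π w) = act π' (T w)

theorem eq_app {W : Type*} [AddCommGroup W] {std : List W} {co : W → List ℕ} (h : Coord std co)
    (T : W →+ W) {β β' : List W} {cs : List (List ℕ)} (hcs : std = cs.map (comb · β))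
    (hβ : β.map T = β') (w : W) : T w = comb (co w) (cs.map (comb · β')) := by
  conv_lhs => rw [← (h w).1, map_comb, hcs, List.map_map]
  congr 1
  refine List.map_congr_left fun c _ => ?_
  simp [map_comb, hβ]

/-- words of the first kind -/
def wA {W P : Type*} (act : P → W → W) (x y : W) (π : P) : List W := [x, y, act π x, act π y]

/-- words of the second kind -/
def wB {W P : Type*} (act : P → W → W) (x y : W) (π σ : P) : List W :=
  [x, y, act π x, act π y, act σ x, act σ y, act π (act σ x), act π (act σ y)]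

theorem solA {W P : Type*} [AddCommGroup W] {std : List W} {co : W → List ℕ} (h : Coord std co)
    (act : P → W → W) (x y : W) (π₁ ρ₁ : P) (c c' : List ℕ) (cs : List (List ℕ))
    (Sol : List (List W)) (hcs : std = cs.map (comb · (wA act x y π₁)))
    (h1 : act ρ₁ x = comb c (wA act x y π₁)) (h2 : act ρ₁ y = comb c' (wA act x y π₁))
    (h3 : ∀ π ρ, act ρ x = comb c (wA act x y π) → act ρ y = comb c' (wA act x y π) →
      cs.map (comb · (wA act x y π)) ∈ Sol)
    (T : W →+ W) (hT : Nrm act x T) (hy : T y = y) : ∃ f ∈ Sol, ∀ w, T w = comb (co w) f := by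
  obtain ⟨π, hπ⟩ := hT.2 π₁
  obtain ⟨ρ, hρ⟩ := hT.2 ρ₁
  have hβ : (wA act x y π₁).map T = wA act x y π := by simp [wA, hπ, hT.1, hy]
  refine ⟨_, h3 π ρ ?_ ?_, eq_app h T hcs hβ⟩
  · rw [← hβ, ← map_comb, ← h1, hρ, hT.1]
  · rw [← hβ, ← map_comb, ← h2, hρ, hy]

theorem solB {W P : Type*} [AddCommGroup W] {std : List W} {co : W → List ℕ} (h : Coord std co)
    (act : P → W → W) (x y : W) (Loc : List (P × P))
    (hL : ∀ π ρ, act ρ x = x + act π x → (π, ρ) ∈ Loc)
    (π₁ ρ₁ π₂ ρ₂ : P) (c c' : List ℕ) (cs : List (List ℕ))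
    (Sol : List (List W)) (hcs : std = cs.map (comb · (wB act x y π₁ π₂)))
    (l1 : act ρ₁ x = x + act π₁ x) (l2 : act ρ₂ x = x + act π₂ x)
    (h1 : act ρ₁ y = comb c (wB act x y π₁ π₂)) (h2 : act ρ₂ y = comb c' (wB act x y π₁ π₂))
    (h3 : Loc.Forall fun s => Loc.Forall fun t => act s.2 y = comb c (wB act x y s.1 t.1) →
      act t.2 y = comb c' (wB act x y s.1 t.1) → cs.map (comb · (wB act x y s.1 t.1)) ∈ Sol)
    (T : W →+ W) (hT : Nrm act x T) (hy : T y = y) : ∃ f ∈ Sol, ∀ w, T w = comb (co w) f := by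
  obtain ⟨π, hπ⟩ := hT.2 π₁
  obtain ⟨ρ, hρ⟩ := hT.2 ρ₁
  obtain ⟨σ, hσ⟩ := hT.2 π₂
  obtain ⟨τ, hτ⟩ := hT.2 ρ₂
  have hβ : (wB act x y π₁ π₂).map T = wB act x y π σ := by simp [wB, hπ, hσ, hT.1, hy]
  simp only [List.forall_iff_forall_mem] at h3
  refine ⟨_, h3 (π, ρ) (hL _ _ ?_) (σ, τ) (hL _ _ ?_) ?_ ?_, eq_app h T hcs hβ⟩
  · rw [← hT.1, ← hρ, ← hπ, l1, map_add]
  · rw [← hT.1, ← hτ, ← hσ, l2, map_add]
  · rw [← hβ, ← map_comb, ← h1, hρ, hy]
  · rw [← hβ, ← map_comb, ← h2, hτ, hy]

/-- square of the product of two maps given by the images of the standard basis -/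
def sqp {W : Type*} [AddCommGroup W] (co : W → List ℕ) (f f' : List W) (w : W) : W :=
  comb (co (comb (co (comb (co (comb (co w) f')) f)) f')) f

/-- the product of `f` and `f'` has order divisible by three -/
def Bad {W : Type*} [AddCommGroup W] (std : List W) (co : W → List ℕ) (f f' : List W) : Prop :=
  ∃ w ∈ std, sqp co f f' (sqp co f f' (sqp co f f' w)) = w ∧ sqp co f f' w ≠ w

instance decBad {W : Type*} [AddCommGroup W] [DecidableEq W] (std : List W) (co : W → List ℕ)
    (f f' : List W) : Decidable (Bad std co f f') := by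
  unfold Bad; infer_instance

/-- the finite conditions on the block vector `x` and the colours `a` -/
structure Cols {W P : Type*} [AddCommGroup W] (act : P → W → W) (p : ℕ) (std : List W) (x : W)
    (a : Fin 4 → W) : Prop where
  a0 : a 0 = x
  ne0 : ∀ c, a c ≠ 0
  free : ∀ π, (∃ n ∈ List.range p, act π x = n • x) → ∀ π', act π (act π' x) = act π' (act π x)
  ineq : ∀ c c' π, act π (a c) = a c' → c = c'
  dis : ∀ c c', c ≠ c' → ∀ π, (∃ n ∈ List.range p, act π (a c) = n • a c) →
    (∃ n ∈ List.range p, act π (a c') = n • a c') → ∃ n ∈ List.range p, act π x = n • x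
  span : ∃ (l : List P) (cs : List (List ℕ)), std = cs.map (comb · (l.map (act · x)))

end Cfsg.Agent.H11.BC
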