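import Mathlib

set_option autoImplicit false

namespace Cfsg.Agent.H11

open Classical in
/-- path colouring of an elementary abelian group, additive form -/
theorem exists_col_vec (r : ℕ) [Fact r.Prime] (M : Type*) [AddCommGroup M] [Module (ZMod r) M]
    [Finite M] :
    ∃ κ : M → Fin 4, (r ≠ 2 → ∀ v, κ v ≠ 1) ∧
      (∀ α : M →+ M, Function.Injective α → (∀ v, v ≠ 0 → κ (α v) = κ v) → ∀ v, α v = v) ∧
      (∀ v, v ≠ 0 → κ v = 2 → ∃ b c : M, b ≠ 0 ∧ c ≠ 0 ∧ b + c ≠ 0 ∧ v + b ≠ 0 ∧ v + c ≠ 0 ∧
        v + (b + c) ≠ 0 ∧ κ b ≠ 2 ∧ κ c ≠ 2 ∧ κ (b + c) ≠ 2 ∧ κ (v + b) ≠ 2 ∧ κ (v + c) ≠ 2 ∧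
        κ (v + (b + c)) ≠ 2) ∧
      (r = 2 → ∀ S : AddSubgroup M, (∀ v, v ≠ 0 → κ v = 0 → v ∈ S) →
        (∀ v w, v ≠ 0 → w ≠ 0 → κ v ≠ κ w → -v + w ∈ S → v ∈ S) → ∀ v, v ∈ S) := by
  set k := Module.finrank (ZMod r) M with hk
  let bs := Module.finBasis (ZMod r) M
  let e : ℕ → M := fun i => if h : i < k then bs ⟨i, h⟩ else 0
  let co : ℕ → M →+ ZMod r := fun i =>
    if h : i < k then (bs.coord ⟨i, h⟩).toAddMonoidHom else 0
  have hco : ∀ i j, j < k → co i (e j) = if i = j then 1 else 0 := by
    intro i j hj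
    by_cases hi : i < k
    · simp only [co, e, dif_pos hi, dif_pos hj, LinearMap.toAddMonoidHom_coe, Module.Basis.coord_apply,
        Module.Basis.repr_self, Finsupp.single_apply, Fin.mk.injEq]
      by_cases h : i = j
      · simp [h]
      · simp [h, Ne.symm h]
    · have : i ≠ j := by omega
      simp [co, hi, this]
  let s : M →+ ZMod r := ∑ i ∈ Finset.range k, co i
  have hs : ∀ j, j < k → s (e j) = 1 := by
    intro j hj
    simp only [s, AddMonoidHom.finset_sum_apply, hco _ j hj]
    simp [hj]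
  have hspan : ∀ S : AddSubgroup M, (∀ i, i < k → e i ∈ S) → ∀ v, v ∈ S := by
    intro S hS v
    rw [← bs.sum_repr v]
    refine S.sum_mem fun i _ => ?_
    have h1 : bs i = e i := by simp [e, show (i : ℕ) < k from i.2]
    rw [h1, ← ZMod.natCast_zmod_val (bs.repr v i), Nat.cast_smul_eq_nsmul]
    exact S.nsmul_mem (hS i i.2) _
  have h10 : (1 : ZMod r) ≠ 0 := one_ne_zero
  have h2 : r ≠ 2 → (2 : ZMod r) ≠ 0 := by
    intro hr h
    have : ((2 : ℕ) : ZMod r) = 0 := by exact_mod_cast h
    rw [ZMod.natCast_eq_zero_iff] at this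
    exact hr ((Nat.prime_dvd_prime_iff_eq Fact.out Nat.prime_two).1 this)
  have hene : ∀ i, i < k → e i ≠ 0 := fun i hi h => h10 (by rw [← hs i hi, h, map_zero])
  have heinj : ∀ i j, i < k → j < k → e i = e j → i = j := by
    intro i j hi hj h
    have := hco i j hj
    rw [← h, hco i i hi] at this
    by_contra hn
    simp [hn] at this
  have hES : ∀ i j l, i < k → j < k → l < k → e i + e j ≠ e l := by
    intro i j l hi hj hl h
    have := congrArg s h
    rw [map_add, hs i hi, hs j hj, hs l hl] at this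
    exact h10 (by linear_combination this)
  have hSS : ∀ i j l, i < k → j < k → l + 1 < k → e i + e j = e l + e (l + 1) →
      j = i + 1 ∨ i = j + 1 := by
    intro i j l hi hj hl h
    have h1 := congrArg (co l) h
    have h3 := congrArg (co (l + 1)) h
    simp only [map_add, hco _ _ hi, hco _ _ hj, hco _ _ hl, hco _ l (by omega)] at h1 h3
    by_cases a1 : l = i <;> by_cases a2 : l = j <;> by_cases a3 : l + 1 = i <;>
      by_cases a4 : l + 1 = j <;> simp [a1, a2, a3, a4] at h1 h3 <;> omega
  let isE : M → Prop := fun v => ∃ i, i < k ∧ v = e i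
  let isS : M → Prop := fun v => ∃ i, i + 1 < k ∧ v = e i + e (i + 1)
  let c0 : Fin 4 := if k = 1 then 0 else if r = 2 ∧ k = 2 then 3 else 2
  let cS : Fin 4 := if r = 2 then 1 else 0
  let κ : M → Fin 4 := fun v => if v = e 0 then c0 else if isE v then 0 else if isS v then cS else 3
  have hκ0 : κ (e 0) = c0 := by simp [κ]
  have hκE : ∀ i, 0 < i → i < k → κ (e i) = 0 := by
    intro i h0 hi
    have : e i ≠ e 0 := fun h => by have := heinj i 0 hi (by omega) h; omega
    have h' : isE (e i) := ⟨i, hi, rfl⟩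
    simp [κ, this, h']
  have hκS : ∀ i, i + 1 < k → κ (e i + e (i + 1)) = cS := by
    intro i hi
    have h1 : e i + e (i + 1) ≠ e 0 := hES _ _ _ (by omega) hi (by omega)
    have h3 : ¬ isE (e i + e (i + 1)) := by
      rintro ⟨l, hl, h⟩
      exact hES _ _ _ (by omega) hi hl h
    have h' : isS (e i + e (i + 1)) := ⟨i, hi, rfl⟩
    simp [κ, h1, h3, h']
  have hκ2 : ∀ v, v ≠ e 0 → κ v ≠ 2 := by
    intro v hv
    simp only [κ, if_neg hv, cS]
    split_ifs <;> decide
  have hc0 : ∀ v, v ≠ 0 → κ v = c0 → v = e 0 := by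
    intro v hv h
    by_contra hn
    by_cases k1 : k = 1
    · have hE : ¬ isE v := by
        rintro ⟨i, hi, rfl⟩
        exact hn (by rw [show i = 0 by omega])
      have hS : ¬ isS v := by
        rintro ⟨i, hi, -⟩
        omega
      simp [κ, hn, hE, hS, c0, k1] at h
    · by_cases k2 : r = 2 ∧ k = 2
      · obtain ⟨rfl, k2⟩ := k2
        have hv' : v = 0 ∨ v = e 0 ∨ v = e 1 ∨ v = e 0 + e 1 := by
          have h22 : ∀ w : M, w + w = 0 := fun w => by
            rw [← two_smul (ZMod 2) w, show (2 : ZMod 2) = 0 from rfl, zero_smul]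
          let S : AddSubgroup M :=
            { carrier := {v | v = 0 ∨ v = e 0 ∨ v = e 1 ∨ v = e 0 + e 1}
              zero_mem' := Or.inl rfl
              add_mem' := by
                have a0 := h22 (e 0)
                have a1 := h22 (e 1)
                have b1 : e 0 + (e 0 + e 1) = e 1 := by rw [← add_assoc, a0, zero_add]
                have b2 : e 1 + (e 0 + e 1) = e 0 := by rw [add_comm (e 0), ← add_assoc, a1, zero_add]
                have b3 : e 0 + e 1 + e 0 = e 1 := by rw [add_comm, b1]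
                have b4 : e 0 + e 1 + e 1 = e 0 := by rw [add_comm, b2]
                rintro a b (rfl | rfl | rfl | rfl) (rfl | rfl | rfl | rfl) <;>
                  simp [a0, a1, b1, b2, b3, b4, h22, add_comm (e 1) (e 0)]
              neg_mem' := by
                intro a ha
                rwa [neg_eq_of_add_eq_zero_left (h22 a)] }
          refine hspan S (fun i hi => ?_) v
          have : i = 0 ∨ i = 1 := by omega
          rcases this with rfl | rfl
          · exact Or.inr (Or.inl rfl)
          · exact Or.inr (Or.inr (Or.inl rfl))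
        rcases hv' with rfl | rfl | rfl | rfl
        · exact hv rfl
        · exact hn rfl
        · rw [hκE 1 (by omega) (by omega)] at h
          simp [c0, k2] at h
        · have := hκS 0 (by omega)
          rw [zero_add] at this
          rw [this] at h
          simp [c0, cS, k2] at h
      · exact hκ2 v hn (by rw [h]; simp only [c0, if_neg k1, if_neg k2])
  have hA : ∀ v, v ≠ e 0 → κ v = 0 → isE v ∨ (r ≠ 2 ∧ isS v) := by
    intro v hv h
    by_cases hE : isE v
    · exact Or.inl hE
    · by_cases hS : isS v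
      · refine Or.inr ⟨fun hr => ?_, hS⟩
        simp [κ, hv, hE, hS, cS, hr] at h
      · simp [κ, hv, hE, hS] at h
  have hB : ∀ v, v ≠ e 0 → κ v = cS → isE v ∨ isS v := by
    intro v hv h
    by_contra hn
    rw [not_or] at hn
    simp only [κ, if_neg hv, if_neg hn.1, if_neg hn.2, cS] at h
    split_ifs at h <;> exact absurd h (by decide)
  refine ⟨κ, fun hr v => ?_, fun α hα hκ => ?_, fun v hv h => ?_, fun hr S h1 h3 => ?_⟩
  · simp only [κ, c0, cS, if_neg hr]
    split_ifs <;> decide
  · have h0 : 0 < k → α (e 0) = e 0 := fun h0 =>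
      hc0 _ (fun h => hene 0 h0 (hα (by rw [h, map_zero]))) (by rw [hκ _ (hene 0 h0), hκ0])
    have key : ∀ n, ∀ i, i ≤ n → i < k → α (e i) = e i := by
      intro n
      induction n with
      | zero => intro i hi hk'; obtain rfl : i = 0 := by omega
                exact h0 hk'
      | succ n ih =>
        intro i hi hk'
        by_cases hin : i ≤ n
        · exact ih i hin hk'
        obtain rfl : i = n + 1 := by omega
        have hn := ih n le_rfl (by omega)
        have hne : ∀ j, j ≤ n → α (e (n + 1)) ≠ e j := by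
          intro j hj h
          rw [← ih j hj (by omega)] at h
          have := heinj _ _ hk' (by omega) (hα h)
          omega
        have hs0 : e n + e (n + 1) ≠ 0 := by
          intro h
          have := congrArg (co n) h
          simp [hco _ _ hk', hco _ n (by omega)] at this
        have a1 := hκ _ (hene _ hk')
        rw [hκE _ (by omega) hk'] at a1
        have a2 := hκ _ hs0
        rw [hκS _ hk', map_add, hn] at a2
        have a3 : e n + α (e (n + 1)) ≠ e 0 := by
          intro h
          rw [← hn, ← map_add, ← h0 (by omega)] at h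
          exact hES _ _ _ (by omega) hk' (by omega) (hα h)
        rcases hA _ (hne 0 (by omega)) a1 with ⟨j, hj, h⟩ | ⟨hr, l, hl, h⟩
        · rw [h] at a2 a3
          rcases hB _ a3 a2 with ⟨l, hl, h'⟩ | ⟨l, hl, h'⟩
          · exact absurd h' (hES _ _ _ (by omega) hj hl)
          · rcases hSS _ _ _ (by omega) hj hl h' with h'' | h''
            · rw [h, h'']
            · exact absurd h (hne j (by omega))
        · exfalso
          rw [h] at a2 a3
          rcases hB _ a3 a2 with ⟨l', hl', h'⟩ | ⟨l', hl', h'⟩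
          · have := congrArg s h'
            simp only [map_add, hs n (by omega), hs l (by omega), hs _ hl, hs _ hl'] at this
            exact h2 hr (by linear_combination this)
          · have := congrArg s h'
            simp only [map_add, hs n (by omega), hs l (by omega), hs _ hl, hs _ hl',
              hs l' (by omega)] at this
            exact h10 (by linear_combination this)
    intro v
    exact hspan (α.eqLocus (AddMonoidHom.id M)) (fun i hi => key i i le_rfl hi) v
  · have hv0 : v = e 0 := by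
      by_contra hn
      exact hκ2 v hn h
    subst hv0
    rw [hκ0] at h
    have k0 : 0 < k := by
      by_contra hn
      exact hv (by simp [e, hn])
    have k1 : k ≠ 1 := fun k1 => by simp [c0, k1] at h
    have k2 : ¬ (r = 2 ∧ k = 2) := fun k2 => by simp [c0, k1, k2] at h
    have c00 := hco 0 0 k0
    have c01 := hco 0 1 (by omega)
    have c10 := hco 1 0 k0
    have c11 := hco 1 1 (by omega)
    simp only [if_true, one_ne_zero, zero_ne_one, if_false] at c00 c01 c10 c11
    have z0 : ∀ w, co 0 w ≠ 0 ∨ co 1 w ≠ 0 → w ≠ 0 := by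
      rintro w (hw | hw) rfl <;> simp at hw
    have z1 : ∀ w, co 0 w ≠ 1 ∨ co 1 w ≠ 0 → κ w ≠ 2 := by
      rintro w hw
      refine hκ2 w ?_
      rintro rfl
      rcases hw with hw | hw
      · exact hw c00
      · exact hw c10
    by_cases hr : r = 2
    · have k3 : 2 < k := by omega
      have c02 := hco 0 2 k3
      have c12 := hco 1 2 k3
      have c22 := hco 2 2 k3
      have c20 := hco 2 0 k0
      simp only [if_true, OfNat.zero_ne_ofNat, OfNat.one_ne_ofNat, OfNat.ofNat_ne_zero,
        if_false] at c02 c12 c22 c20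
      refine ⟨e 1, e 2, hene 1 (by omega), hene 2 k3, z0 _ ?_, z0 _ ?_, z0 _ ?_, z0 _ ?_, z1 _ ?_,
        z1 _ ?_, z1 _ ?_, z1 _ ?_, hκ2 _ ?_, z1 _ ?_⟩
      all_goals try simp [c00, c01, c10, c11, c02, c12]
      exact hene 2 k3
    · have h2' : (1 : ZMod r) + 1 ≠ 0 := by rw [one_add_one_eq_two]; exact h2 hr
      refine ⟨e 1, e 1, hene 1 (by omega), hene 1 (by omega), z0 _ ?_, z0 _ ?_, z0 _ ?_, z0 _ ?_,
        z1 _ ?_, z1 _ ?_, z1 _ ?_, z1 _ ?_, z1 _ ?_, z1 _ ?_⟩
      all_goals simp [c00, c01, c10, c11, h2']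
  · refine hspan S fun i hi => ?_
    rcases Nat.eq_zero_or_pos i with rfl | h0
    · by_cases k1 : k = 1
      · exact h1 _ (hene 0 hi) (by rw [hκ0]; simp [c0, k1])
      · have hs0 : e 0 + e 1 ≠ 0 := by
          intro h
          have := congrArg (co 0) h
          simp [hco _ _ hi, hco _ 1 (by omega)] at this
        refine h3 (e 0) (e 0 + e 1) (hene 0 hi) hs0 ?_ ?_
        · have := hκS 0 (by omega)
          rw [zero_add] at this
          rw [hκ0, this]
          simp only [c0, cS, if_neg k1, if_pos hr]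
          split_ifs <;> decide
        · rw [neg_add_cancel_left]
          exact h1 _ (hene 1 (by omega)) (hκE 1 (by omega) (by omega))
    · exact h1 _ (hene i hi) (hκE i h0 hi)

theorem exists_col_prime (Ω : Type*) [CommGroup Ω] [Finite Ω] (r : ℕ) (hr : r.Prime) :
    ∃ κ : Ω → Fin 4, (r ≠ 2 → ∀ v, κ v ≠ 1) ∧
      (∀ α : Ω →* Ω, Function.Injective α → (∀ v, orderOf v = r → κ (α v) = κ v) →
        ∀ v, orderOf v = r → α v = v) ∧
      (∀ v, orderOf v = r → κ v = 2 → ∃ b c : Ω, ∀ d ∈ [b, c, b * c, v * b, v * c, v * (b * c)],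
        orderOf d = r ∧ κ d ≠ 2) ∧
      (r = 2 → ∀ S : Subgroup Ω, (∀ v, orderOf v = r → κ v = 0 → v ∈ S) →
        (∀ v w, orderOf v = r → orderOf w = r → κ v ≠ κ w → v⁻¹ * w ∈ S → v ∈ S) →
        ∀ v, orderOf v = r → v ∈ S) := by
  classical
  haveI := Fact.mk hr
  let E : Subgroup Ω := (powMonoidHom r : Ω →* Ω).ker
  have hE : ∀ v, v ∈ E ↔ v ^ r = 1 := fun v => by simp [E, MonoidHom.mem_ker]
  letI : Module (ZMod r) (Additive E) := AddCommGroup.zmodModule (fun x => by
    apply Additive.toMul.injective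
    apply Subtype.ext
    simpa using (hE _).1 x.toMul.2)
  obtain ⟨κ, h1, h2, h3, h4⟩ := exists_col_vec r (Additive E)
  have hord : ∀ x : Additive E, x ≠ 0 → orderOf (x.toMul : Ω) = r := by
    intro x hx
    refine orderOf_eq_prime ((hE _).1 x.toMul.2) fun h => hx ?_
    apply Additive.toMul.injective
    exact Subtype.ext h
  have hmem : ∀ v, orderOf v = r → v ∈ E := fun v hv => (hE v).2 (hv ▸ pow_orderOf_eq_one v)
  have hne : ∀ v (hv : orderOf v = r), Additive.ofMul (⟨v, hmem v hv⟩ : E) ≠ 0 := by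
    intro v hv h
    have : v = 1 := congrArg (fun x : Additive E => (x.toMul : Ω)) h
    rw [this, orderOf_one] at hv
    exact hr.one_lt.ne hv
  let κ' : Ω → Fin 4 := fun v => if h : v ∈ E then κ (Additive.ofMul ⟨v, h⟩) else 0
  have hκ : ∀ x : Additive E, κ' (x.toMul : Ω) = κ x := fun x => by
    simp only [κ', dif_pos x.toMul.2]
    rfl
  refine ⟨κ', fun h v => ?_, fun α hα hh v hv => ?_, fun v hv hh => ?_, fun h S s1 s2 v hv => ?_⟩
  · simp only [κ']
    split_ifs
    · exact h1 h _
    · decide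
  · let β : E →* E := (α.comp E.subtype).codRestrict E (fun x => by
      rw [hE]
      simp [← map_pow, (hE _).1 x.2])
    have := h2 (MonoidHom.toAdditive β) (fun a b hab => by
      apply Additive.toMul.injective
      apply Subtype.ext
      exact hα (congrArg (fun x : Additive E => (x.toMul : Ω)) hab)) (fun x hx => by
        rw [← hκ, ← hκ]
        exact hh _ (hord x hx)) (Additive.ofMul ⟨v, hmem v hv⟩)
    exact congrArg (fun x : Additive E => (x.toMul : Ω)) this
  · obtain ⟨b, c, a1, a2, a3, a4, a5, a6, b1, b2, b3, b4, b5, b6⟩ :=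
      h3 _ (hne v hv) (by rw [← hκ]; exact hh)
    refine ⟨b.toMul, c.toMul, fun d hd => ?_⟩
    simp only [List.mem_cons, List.not_mem_nil, or_false] at hd
    rcases hd with rfl | rfl | rfl | rfl | rfl | rfl
    · exact ⟨hord _ a1, by rw [hκ]; exact b1⟩
    · exact ⟨hord _ a2, by rw [hκ]; exact b2⟩
    · exact ⟨hord _ a3, (hκ _).trans_ne b3⟩
    · exact ⟨hord _ a4, (hκ _).trans_ne b4⟩
    · exact ⟨hord _ a5, (hκ _).trans_ne b5⟩
    · exact ⟨hord _ a6, (hκ _).trans_ne b6⟩
  · exact h4 h (Subgroup.toAddSubgroup (S.comap E.subtype))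
      (fun x hx h0 => s1 _ (hord x hx) ((hκ x).trans h0))
      (fun x y hx hy h0 h5 => s2 _ _ (hord x hx) (hord y hy)
        (fun h6 => h0 ((hκ x).symm.trans (h6.trans (hκ y)))) h5)
      (Additive.ofMul ⟨v, hmem v hv⟩)

/-- colouring of the elements of prime order of a finite abelian group -/
theorem exists_col (Ω : Type*) [CommGroup Ω] [Finite Ω] :
    ∃ κ : Ω → Fin 4, (∀ v, orderOf v ≠ 2 → κ v ≠ 1) ∧
      (∀ α : Ω →* Ω, Function.Injective α → (∀ v, (orderOf v).Prime → κ (α v) = κ v) →
        ∀ v, (orderOf v).Prime → α v = v) ∧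
      (∀ v, (orderOf v).Prime → κ v = 2 →
        ∃ b c : Ω, ∀ d ∈ [b, c, b * c, v * b, v * c, v * (b * c)],
        (orderOf d).Prime ∧ κ d ≠ 2) ∧
      (∀ S : Subgroup Ω, (∀ v, orderOf v = 2 → κ v = 0 → v ∈ S) →
        (∀ v w, orderOf v = 2 → orderOf w = 2 → κ v ≠ κ w → v⁻¹ * w ∈ S → v ∈ S) →
        ∀ v, orderOf v = 2 → v ∈ S) := by
  classical
  choose κ h1 h2 h3 h4 using exists_col_prime Ω
  let κ' : Ω → Fin 4 := fun v => if h : (orderOf v).Prime then κ _ h v else 0
  have hκ : ∀ r (hr : r.Prime) v, orderOf v = r → κ' v = κ r hr v := by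
    rintro r hr v rfl
    simp only [κ', dif_pos hr]
  refine ⟨κ', fun v hv => ?_, fun α hα hh v hv => ?_, fun v hv hh => ?_, fun S s1 s2 v hv => ?_⟩
  · simp only [κ']
    split_ifs with h
    · exact h1 _ h hv v
    · decide
  · refine h2 _ hv α hα (fun w hw => ?_) v rfl
    rw [← hκ _ hv w hw, ← hκ _ hv (α w) (by rw [orderOf_injective α hα, hw])]
    exact hh w (hw ▸ hv)
  · obtain ⟨b, c, h⟩ := h3 _ hv v rfl (by rw [← hκ _ hv v rfl]; exact hh)
    refine ⟨b, c, fun d hd => ⟨(h d hd).1 ▸ hv, ?_⟩⟩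
    rw [hκ _ hv d (h d hd).1]
    exact (h d hd).2
  · refine h4 2 Nat.prime_two rfl S (fun w hw h => s1 w hw ?_) (fun w w' hw hw' h => s2 w w' hw hw' ?_)
      v hv
    · rw [hκ _ Nat.prime_two w hw]; exact h
    · rw [hκ _ Nat.prime_two w hw, hκ _ Nat.prime_two w' hw']; exact h

end Cfsg.Agent.H11
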