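import Mathlib

set_option autoImplicit false

namespace Cfsg.Agent.H11

universe u

/-- `V` has no invariant additive subgroup besides `⊥` and `⊤`. -/
def IrrMod (G V : Type*) [Group G] [AddCommGroup V] [DistribMulAction G V] : Prop :=
  ∀ U : AddSubgroup V, (∀ g : G, ∀ v ∈ U, g • v ∈ U) → U = ⊥ ∨ U = ⊤

/-- Base size two for irreducible modules of solvable groups in coprime action
(no faithfulness: whoever fixes both vectors acts trivially). -/
def Base2Mod : Prop :=
  ∀ (G V : Type u) [Group G] [Finite G] [AddCommGroup V] [Finite V] [DistribMulAction G V],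
    Group.IsSolvable G → (Nat.card G).Coprime (Nat.card V) → IrrMod G V →
    ∃ x y : V, ∀ g : G, g • x = x → g • y = y → ∀ w : V, g • w = w

end Cfsg.Agent.H11
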