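import Cfsg.Agent.H11.BaseDefs2

set_option autoImplicit false

namespace Cfsg.Agent.H11

theorem index_ker_le_index_flip {A C K : Type*} [Group A] [Group C] [Finite C] [Field K]
    (f : A →* (C →* Kˣ)) : f.ker.index ≤ f.flip.ker.index := by
  classical
  rw [Subgroup.index_ker]
  let Q := C ⧸ f.flip.ker
  let φ : f.range → (Q →* K) := fun χ => (Units.coeHom K).comp
    (QuotientGroup.lift f.flip.ker χ.1 (by
      obtain ⟨a, ha⟩ := χ.2
      intro c hc
      rw [← ha]
      exact DFunLike.congr_fun (MonoidHom.mem_ker.1 hc) a))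
  have hφ : Function.Injective φ := by
    intro χ ψ h
    apply Subtype.ext
    ext c
    exact DFunLike.congr_fun h (QuotientGroup.mk c)
  haveI : Fintype Q := Fintype.ofFinite Q
  have h1 := (linearIndependent_monoidHom Q K).comp φ hφ
  haveI : Finite f.range := h1.finite
  haveI : Fintype f.range := Fintype.ofFinite _
  have h2 := h1.fintype_card_le_finrank
  rw [Module.finrank_fintype_fun_eq_card] at h2
  rw [Nat.card_eq_fintype_card]
  refine h2.trans (le_of_eq ?_)
  rw [← Nat.card_eq_fintype_card]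
  rfl

theorem isSquare_mul_cyc {A : Type*} [CommGroup A] [IsCyclic A] [Finite A] {a b : A}
    (ha : ¬ IsSquare a) (hb : ¬ IsSquare b) : IsSquare (a * b) := by
  obtain ⟨γ, hγ⟩ := IsCyclic.exists_monoid_generator (α := A)
  obtain ⟨i, rfl⟩ := hγ a
  obtain ⟨j, rfl⟩ := hγ b
  have h : ∀ n : ℕ, Even n → IsSquare (γ ^ n) := fun n hn => hn.isSquare_pow γ
  have hi : Odd i := Nat.not_even_iff_odd.1 fun hn => ha (h i hn)
  have hj : Odd j := Nat.not_even_iff_odd.1 fun hn => hb (h j hn)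
  simp only [← pow_add]
  exact h _ (hi.add_odd hj)

theorem eq_of_sq_eq_one_cyclic {A : Type*} [Group A] [IsCyclic A] [Finite A] {a b : A}
    (ha : a ^ 2 = 1) (hb : b ^ 2 = 1) (ha1 : a ≠ 1) (hb1 : b ≠ 1) : a = b := by
  classical
  haveI := Fintype.ofFinite A
  by_contra hab
  have h := IsCyclic.card_pow_eq_one_le (α := A) (n := 2) (by norm_num)
  have h3 : ({1, a, b} : Finset A) ⊆ Finset.univ.filter (fun x => x ^ 2 = 1) := by
    intro x hx
    simp only [Finset.mem_insert, Finset.mem_singleton] at hx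
    rcases hx with rfl | rfl | rfl <;> simp [ha, hb]
  have := Finset.card_le_card h3
  rw [Finset.card_eq_three.2 ⟨1, a, b, ha1.symm, hb1.symm, hab, rfl⟩] at this
  omega

namespace Heis

variable {K B V G : Type*} [Field K] [Group B] [AddCommGroup V] [Module K V]
  [DistribMulAction B V] [Group G] [DistribMulAction G V] (H : Heis K B V G)

theorem unit_eq {k k' : Kˣ} {v : V} (hv : v ≠ 0) (h : (k : K) • v = (k' : K) • v) : k = k' :=
  Units.ext (smul_left_injective K hv h)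

include H in
theorem ext_smul {a b : B} (h : ∀ v : V, a • v = b • v) : a = b := by
  have := H.faith (b⁻¹ * a) fun v => by rw [mul_smul, h, inv_smul_smul]
  rw [inv_mul_eq_one] at this
  exact this.symm

theorem sc_inj : Function.Injective H.sc := by
  obtain ⟨v, hv⟩ := H.nt
  intro k k' h
  exact unit_eq hv (by rw [← H.sc_smul, h, H.sc_smul])

theorem sc_comm (k : Kˣ) (b : B) : H.sc k * b = b * H.sc k :=
  H.ext_smul fun v => by rw [mul_smul, mul_smul, H.sc_smul, H.sc_smul, H.lin]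

/-- the commutator scalar -/
noncomputable def cm (b c : B) : Kˣ := (H.comm b c).choose

theorem cm_spec (b c : B) : b * c = H.sc (H.cm b c) * (c * b) := (H.comm b c).choose_spec

theorem cm_eq {b c : B} {k : Kˣ} (h : b * c = H.sc k * (c * b)) : H.cm b c = k :=
  H.sc_inj (mul_right_cancel ((H.cm_spec b c).symm.trans h))

theorem cm_mul_left (a b c : B) : H.cm (a * b) c = H.cm a c * H.cm b c := by
  apply H.cm_eq
  rw [mul_assoc, H.cm_spec b c, ← mul_assoc, ← H.sc_comm, mul_assoc, ← mul_assoc a, H.cm_spec a c,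
    mul_comm (H.cm a c), map_mul]
  simp only [mul_assoc]

theorem cm_mul_right (a b c : B) : H.cm a (b * c) = H.cm a b * H.cm a c := by
  apply H.cm_eq
  rw [← mul_assoc, H.cm_spec a b, mul_assoc, mul_assoc b, H.cm_spec a c, ← mul_assoc b,
    ← H.sc_comm, map_mul]
  simp only [mul_assoc]

/-- the commutator pairing -/
noncomputable def cmH : B →* (B →* Kˣ) :=
  MonoidHom.mk' (fun a => MonoidHom.mk' (fun b => H.cm a b) (H.cm_mul_right a))
    (fun a b => MonoidHom.ext fun c => H.cm_mul_left a b c)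

theorem cmH_apply (a b : B) : H.cmH a b = H.cm a b := rfl

theorem cm_pow_left (a b : B) (n : ℕ) : H.cm (a ^ n) b = H.cm a b ^ n := by
  rw [← cmH_apply, map_pow]; rfl

theorem cm_pow_right (a b : B) (n : ℕ) : H.cm a (b ^ n) = H.cm a b ^ n := map_pow (H.cmH a) b n

theorem cm_inv_left (a b : B) : H.cm a⁻¹ b = (H.cm a b)⁻¹ := by
  rw [← cmH_apply, map_inv]; rfl

theorem cm_inv_right (a b : B) : H.cm a b⁻¹ = (H.cm a b)⁻¹ := map_inv (H.cmH a) b

theorem cm_eq_one_iff {a b : B} : H.cm a b = 1 ↔ a * b = b * a :=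
  ⟨fun h => by rw [H.cm_spec, h, map_one, one_mul], fun h => H.cm_eq (by rw [map_one, one_mul, h])⟩

theorem cm_self (a : B) : H.cm a a = 1 := H.cm_eq_one_iff.2 rfl

theorem cm_swap (a b : B) : H.cm b a = (H.cm a b)⁻¹ := by
  apply H.cm_eq
  rw [H.cm_spec a b, map_inv, inv_mul_cancel_left]

theorem cm_sc_left (k : Kˣ) (b : B) : H.cm (H.sc k) b = 1 := H.cm_eq_one_iff.2 (H.sc_comm k b)

theorem cm_sc_right (k : Kˣ) (b : B) : H.cm b (H.sc k) = 1 :=
  H.cm_eq_one_iff.2 (H.sc_comm k b).symm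

theorem cm_smul (a b : B) (v : V) : a • b • v = (H.cm a b : K) • b • a • v := by
  rw [← mul_smul, H.cm_spec, mul_smul, H.sc_smul, mul_smul]

theorem mul_pow' (a b : B) (n : ℕ) :
    (a * b) ^ n = H.sc (H.cm b a ^ n.choose 2) * (a ^ n * b ^ n) := by
  induction n with
  | zero => simp
  | succ n ih =>
    rw [pow_succ, ih, Nat.choose_succ_succ', Nat.choose_one_right, pow_add, map_mul, pow_succ a,
      pow_succ b, ← H.cm_pow_left b a n]
    have := H.cm_spec (b ^ n) a
    calc H.sc (H.cm b a ^ n.choose 2) * (a ^ n * b ^ n) * (a * b)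
        = H.sc (H.cm b a ^ n.choose 2) * (a ^ n * (b ^ n * a) * b) := by simp only [mul_assoc]
      _ = _ := by
        rw [this, ← mul_assoc (a ^ n), ← H.sc_comm, ← map_mul, mul_comm (H.cm (b ^ n) a), map_mul]
        simp only [mul_assoc]

theorem exists_alpha_sc (g : G) (k : Kˣ) : ∃ k', H.α g (H.sc k) = H.sc k' := by
  refine H.cen _ fun c => ?_
  obtain ⟨c, rfl⟩ := (H.α g).surjective c
  rw [← map_mul, ← map_mul, H.sc_comm]

theorem alpha_inv (g : G) (b : B) : H.α g⁻¹ (H.α g b) = b := by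
  rw [← MulAut.mul_apply, ← map_mul, inv_mul_cancel, map_one, MulAut.one_apply]

theorem alpha_inv' (g : G) (b : B) : H.α g (H.α g⁻¹ b) = b := by
  rw [← MulAut.mul_apply, ← map_mul, mul_inv_cancel, map_one, MulAut.one_apply]

theorem normal_of_sc {S : Subgroup B} (hS : ∀ k, H.sc k ∈ S) : S.Normal :=
  ⟨fun n hn g => by
    rw [H.cm_spec g n, mul_assoc, mul_assoc, mul_inv_cancel, mul_one]
    exact S.mul_mem (hS _) hn⟩

theorem mem_cent {X : Subgroup B} {p : B} :
    p ∈ Subgroup.centralizer (X : Set B) ↔ ∀ t ∈ X, H.cm t p = 1 := by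
  simp only [Subgroup.mem_centralizer_iff, H.cm_eq_one_iff, SetLike.mem_coe]

theorem sc_mem_cent (X : Subgroup B) (k : Kˣ) : H.sc k ∈ Subgroup.centralizer (X : Set B) :=
  H.mem_cent.2 fun t _ => H.cm_sc_right k t

/-- double centraliser -/
theorem cent_cent [Finite B] {X : Subgroup B} (hX : ∀ k, H.sc k ∈ X) :
    Subgroup.centralizer (Subgroup.centralizer (X : Set B) : Set B) = X := by
  set P := Subgroup.centralizer (X : Set B) with hP
  set X' := Subgroup.centralizer (P : Set B) with hX'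
  have hle : X ≤ X' := fun t ht => Subgroup.mem_centralizer_iff.2 fun p hp =>
    (Subgroup.mem_centralizer_iff.1 hp t ht).symm
  have hZ : ∀ b, b ∈ H.sc.range ↔ H.cmH b = 1 := by
    intro b
    constructor
    · rintro ⟨k, rfl⟩
      exact MonoidHom.ext fun c => H.cm_sc_left k c
    · intro h
      obtain ⟨k, hk⟩ := H.cen b fun c => H.cm_eq_one_iff.1 (DFunLike.congr_fun h c)
      exact ⟨k, hk.symm⟩
  have hk1 : ∀ Y : Subgroup B, (H.cmH.comp Y.subtype).ker = H.sc.range.subgroupOf Y := by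
    intro Y
    ext y
    rw [MonoidHom.mem_ker, Subgroup.mem_subgroupOf, hZ]
    rfl
  have hk2 : ∀ Y : Subgroup B,
      (H.cmH.comp Y.subtype).flip.ker = Subgroup.centralizer (Y : Set B) := by
    intro Y
    ext b
    rw [MonoidHom.mem_ker, H.mem_cent]
    exact ⟨fun h t ht => DFunLike.congr_fun h ⟨t, ht⟩, fun h => MonoidHom.ext fun t => h t t.2⟩
  have h1 := index_ker_le_index_flip (H.cmH.comp X.subtype).flip
  rw [hk2, show (H.cmH.comp X.subtype).flip.flip = H.cmH.comp X.subtype from rfl, hk1] at h1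
  have h2 := index_ker_le_index_flip (H.cmH.comp X'.subtype)
  rw [hk2, hk1] at h2
  have h3 : (Subgroup.centralizer (X' : Set B)).index ≤ P.index :=
    Subgroup.index_antitone fun p hp => Subgroup.mem_centralizer_iff.2 fun t ht =>
      (Subgroup.mem_centralizer_iff.1 ht p hp).symm
  have h4 := Subgroup.relIndex_mul_relIndex H.sc.range X X' (by rintro _ ⟨k, rfl⟩; exact hX k) hle
  have h5 : H.sc.range.relIndex X' ≤ H.sc.range.relIndex X := h2.trans (h3.trans h1)
  have h6 : H.sc.range.relIndex X ≠ 0 := Subgroup.index_ne_zero_of_finite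
  have h7 : X.relIndex X' ≠ 0 := Subgroup.index_ne_zero_of_finite
  have h8 : X.relIndex X' = 1 := by
    rw [← h4] at h5
    by_contra h
    have : 2 ≤ X.relIndex X' := by omega
    have := Nat.mul_le_mul_left (H.sc.range.relIndex X) this
    omega
  exact le_antisymm (Subgroup.relIndex_eq_one.1 h8) hle

theorem mem_of_cm [Finite B] {X : Subgroup B} (hX : ∀ k, H.sc k ∈ X) {b : B}
    (h : ∀ p ∈ Subgroup.centralizer (X : Set B), H.cm p b = 1) : b ∈ X := by
  rw [← H.cent_cent hX]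
  exact H.mem_cent.2 h

theorem exists_sqf [Finite B] : ∃ m, Squarefree m ∧ ∀ b : B, ∃ k, b ^ m = H.sc k := by
  classical
  have hex : ∃ m, 0 < m ∧ ∀ b : B, ∃ k, b ^ m = H.sc k :=
    ⟨Nat.card B, Nat.card_pos, fun b => ⟨1, by rw [pow_card_eq_one', map_one]⟩⟩
  obtain ⟨h0, hm⟩ := Nat.find_spec hex
  refine ⟨Nat.find hex, ?_, hm⟩
  rw [Nat.squarefree_iff_prime_squarefree]
  rintro r hr ⟨t, ht⟩
  set n := r * t with hn
  have hn0 : 0 < n := Nat.pos_of_ne_zero fun h => by
    rw [mul_assoc, ← hn, h, mul_zero] at ht; omega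
  have hlt : n < Nat.find hex := by
    rw [ht, mul_assoc, ← hn]
    exact lt_mul_of_one_lt_left hn0 hr.one_lt
  refine Nat.find_min hex hlt ⟨hn0, ?_⟩
  let D : Subgroup B :=
    { carrier := {d | ∃ b k, d = H.sc k * b ^ n}
      one_mem' := ⟨1, 1, by simp⟩
      mul_mem' := by
        rintro _ _ ⟨a, k, rfl⟩ ⟨b, l, rfl⟩
        refine ⟨a * b, k * l * (H.cm b a ^ n.choose 2)⁻¹, ?_⟩
        rw [H.mul_pow', map_mul, map_mul, map_inv, mul_assoc, ← mul_assoc (a ^ n), ← H.sc_comm]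
        simp only [mul_assoc, inv_mul_cancel_left]
      inv_mem' := by
        rintro _ ⟨a, k, rfl⟩
        exact ⟨a⁻¹, k⁻¹, by rw [mul_inv_rev, ← map_inv, ← H.sc_comm, inv_pow]⟩ }
  have hcyc := H.cyc D (by
    rintro g _ ⟨a, k, rfl⟩
    obtain ⟨k', hk'⟩ := H.exists_alpha_sc g k
    exact ⟨H.α g a, k', by rw [map_mul, map_pow, hk']⟩) (by
    rintro _ ⟨a, k, rfl⟩ _ ⟨b, l, rfl⟩
    obtain ⟨u, hu⟩ := hm a
    rw [← H.cm_eq_one_iff, H.cm_mul_left, H.cm_sc_left, H.cm_mul_right, H.cm_sc_right, one_mul,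
      one_mul, H.cm_pow_right, ← H.cm_pow_left, ← pow_mul,
      show n * n = Nat.find hex * t by rw [ht, hn]; ring, pow_mul, hu, ← map_pow, H.cm_sc_left])
  obtain ⟨⟨d, b, k, hd⟩, hgen⟩ := IsCyclic.exists_monoid_generator (α := D)
  have hpow : ∀ c : B, ∃ j : ℕ, c ^ n = d ^ j := by
    intro c
    obtain ⟨j, hj⟩ := hgen ⟨c ^ n, c, 1, by simp⟩
    exact ⟨j, (congrArg Subtype.val hj).symm⟩
  obtain ⟨u, hu⟩ := H.cen (b ^ n) fun c => by
    obtain ⟨j, hj⟩ := hpow c
    rw [← H.cm_eq_one_iff, H.cm_pow_left, ← H.cm_pow_right, hj, H.cm_pow_right, hd,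
      H.cm_mul_right, H.cm_sc_right, H.cm_pow_right, H.cm_self]
    simp
  intro c
  obtain ⟨j, hj⟩ := hpow c
  exact ⟨(k * u) ^ j, by rw [hj, hd, hu, map_pow, map_mul]⟩

theorem cm_eq_one_or {a b : B} (h : H.cm a b ^ 2 = 1) : H.cm a b = 1 ∨ H.cm a b = -1 := by
  have : (H.cm a b : K) ^ 2 = 1 := by rw [← Units.val_pow_eq_pow_val, h, Units.val_one]
  rcases sq_eq_one_iff.1 this with h | h
  · exact Or.inl (Units.ext h)
  · exact Or.inr (Units.ext h)

theorem isSquare_of_sq [Finite B] [Finite K] (h2 : (2 : K) ≠ 0) (hi : IsSquare (-1 : Kˣ))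
    (hsq : ∀ b : B, ∃ k, b ^ 2 = H.sc k) (b : B) : ∃ θ : Kˣ, b ^ 2 = H.sc (θ ^ 2) := by
  have hcm : ∀ a b : B, ∃ θ : Kˣ, H.cm a b = θ ^ 2 := by
    intro a b
    obtain ⟨k, hk⟩ := hsq a
    rcases H.cm_eq_one_or (a := a) (b := b) (by rw [← H.cm_pow_left, hk, H.cm_sc_left]) with h | h
    · exact ⟨1, by rw [h, one_pow]⟩
    · obtain ⟨i, hi⟩ := hi
      exact ⟨i, by rw [h, hi, sq]⟩
  have hmul : ∀ (a b : B) (k l : Kˣ), a ^ 2 = H.sc k → b ^ 2 = H.sc l →
      (a * b) ^ 2 = H.sc (H.cm b a * (k * l)) := by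
    intro a b k l ha hb
    rw [H.mul_pow', ha, hb, map_mul, map_mul]
    simp
  let B0 : Subgroup B :=
    { carrier := {b | ∃ θ : Kˣ, b ^ 2 = H.sc (θ ^ 2)}
      one_mem' := ⟨1, by simp⟩
      mul_mem' := by
        rintro a b ⟨k, hk⟩ ⟨l, hl⟩
        obtain ⟨θ, hθ⟩ := hcm b a
        exact ⟨θ * (k * l), by rw [hmul a b _ _ hk hl, hθ, mul_pow, mul_pow]⟩
      inv_mem' := by
        rintro a ⟨k, hk⟩
        exact ⟨k⁻¹, by rw [inv_pow, hk, inv_pow, map_inv]⟩ }
  have hZ : ∀ k, H.sc k ∈ B0 := fun k => ⟨k, by rw [map_pow]⟩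
  have hinv : ∀ g, ∀ a ∈ B0, H.α g a ∈ B0 := by
    rintro g a ⟨k, hk⟩
    obtain ⟨k', hk'⟩ := H.exists_alpha_sc g k
    exact ⟨k', by rw [← map_pow, hk, map_pow, map_pow, hk', map_pow]⟩
  set D := Subgroup.centralizer (B0 : Set B) with hD
  have hDle : D ≤ B0 := by
    intro d hd
    by_contra hn
    obtain ⟨k, hk⟩ := H.cen d fun c => by
      by_cases hc : c ∈ B0
      · exact (Subgroup.mem_centralizer_iff.1 hd c hc).symm
      · have : c * d ∈ B0 := by
          obtain ⟨k, hk⟩ := hsq c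
          obtain ⟨l, hl⟩ := hsq d
          obtain ⟨θ, hθ⟩ := hcm d c
          obtain ⟨η, hη⟩ := isSquare_mul_cyc (a := k) (b := l)
            (fun ⟨s, hs⟩ => hc ⟨s, by rw [hk, hs, sq]⟩) (fun ⟨s, hs⟩ => hn ⟨s, by rw [hl, hs, sq]⟩)
          exact ⟨θ * η, by rw [hmul c d _ _ hk hl, hθ, hη, mul_pow, sq η]⟩
        have h := H.mem_cent.1 hd _ this
        rw [H.cm_mul_left, H.cm_self, mul_one, H.cm_eq_one_iff] at h
        exact h.symm
    exact hn (hk ▸ hZ k)
  haveI := H.cyc D (by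
    intro g d hd
    refine Subgroup.mem_centralizer_iff.2 fun t ht => ?_
    rw [← H.alpha_inv' g t, ← map_mul, ← map_mul,
      Subgroup.mem_centralizer_iff.1 hd _ (hinv g⁻¹ t ht)])
    (fun a ha b hb => Subgroup.mem_centralizer_iff.1 hb a (hDle ha))
  have hDZ : ∀ d ∈ D, ∃ k, d = H.sc k := by
    intro d hd
    obtain ⟨θ, hθ⟩ := hDle hd
    have hm : H.sc θ⁻¹ * d ∈ D := D.mul_mem (H.sc_mem_cent _ _) hd
    by_cases h1 : H.sc θ⁻¹ * d = 1
    · exact ⟨θ, by rw [map_inv, inv_mul_eq_one] at h1; exact h1.symm⟩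
    · have := eq_of_sq_eq_one_cyclic (A := D) (a := ⟨_, hm⟩) (b := ⟨H.sc (-1), H.sc_mem_cent _ _⟩)
        (Subtype.ext (by
          show (H.sc θ⁻¹ * d) ^ 2 = 1
          rw [hmul _ _ (θ⁻¹ ^ 2) _ (map_pow _ _ _).symm hθ, H.cm_sc_right]
          simp))
        (Subtype.ext (by
          show (H.sc (-1)) ^ 2 = 1
          rw [← map_pow]
          simp))
        (fun h => h1 (congrArg Subtype.val h))
        (fun h => by
          have h' : H.sc (-1) = H.sc 1 := by rw [map_one]; exact congrArg Subtype.val h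
          have := congrArg Units.val (H.sc_inj h')
          simp only [Units.val_neg, Units.val_one] at this
          exact h2 (by linear_combination -this))
      have h' : H.sc θ⁻¹ * d = H.sc (-1) := congrArg Subtype.val this
      exact ⟨θ * -1, by rw [map_mul, ← h', map_inv, mul_inv_cancel_left]⟩
  refine H.mem_of_cm hZ fun p hp => ?_
  obtain ⟨k, rfl⟩ := hDZ p hp
  exact H.cm_sc_left k b

end Heis

end Cfsg.Agent.H11
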