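import Cfsg.Agent.H11.BaseHeis
import Cfsg.Agent.H11.BaseCol

set_option autoImplicit false

namespace Cfsg.Agent.H11

theorem exists_col' (Ω : Type*) [Group Ω] [Finite Ω] (hc : ∀ a b : Ω, a * b = b * a) :
    ∃ κ : Ω → Fin 4, (∀ v, orderOf v ≠ 2 → κ v ≠ 1) ∧
      (∀ α : Ω →* Ω, Function.Injective α → (∀ v, (orderOf v).Prime → κ (α v) = κ v) →
        ∀ v, (orderOf v).Prime → α v = v) ∧
      (∀ v, (orderOf v).Prime → κ v = 2 →
        ∃ b c : Ω, ∀ d ∈ [b, c, b * c, v * b, v * c, v * (b * c)],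
        (orderOf d).Prime ∧ κ d ≠ 2) ∧
      (∀ S : Subgroup Ω, (∀ v, orderOf v = 2 → κ v = 0 → v ∈ S) →
        (∀ v w, orderOf v = 2 → orderOf w = 2 → κ v ≠ κ w → v⁻¹ * w ∈ S → v ∈ S) →
        ∀ v, orderOf v = 2 → v ∈ S) := by
  letI : CommGroup Ω := { ‹Group Ω› with mul_comm := hc }
  exact exists_col Ω

namespace Heis

variable {K B V G : Type*} [Field K] [Group B] [AddCommGroup V] [Module K V]
  [DistribMulAction B V] [Group G] [DistribMulAction G V] (H : Heis K B V G)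

/-- elements of `B` having `x` as an eigenvector -/
def St (x : V) : Subgroup B where
  carrier := {b | ∃ k : Kˣ, b • x = (k : K) • x}
  one_mem' := ⟨1, by simp⟩
  mul_mem' := by
    rintro a b ⟨k, hk⟩ ⟨l, hl⟩
    exact ⟨l * k, by rw [mul_smul, hl, H.lin, hk, Units.val_mul, mul_smul]⟩
  inv_mem' := by
    rintro a ⟨k, hk⟩
    refine ⟨k⁻¹, ?_⟩
    rw [inv_smul_eq_iff, H.lin, hk, ← mul_smul, Units.inv_mul, one_smul]

theorem mem_St {x : V} {b : B} : b ∈ H.St x ↔ ∃ k : Kˣ, b • x = (k : K) • x := Iff.rfl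

theorem mem_St_of {x : V} (hx : x ≠ 0) {b : B} {k : K} (h : b • x = k • x) : b ∈ H.St x := by
  have hk : k ≠ 0 := by
    rintro rfl
    rw [zero_smul, smul_eq_zero_iff_eq] at h
    exact hx h
  exact ⟨Units.mk0 k hk, h⟩

theorem sc_mem_St (x : V) (k : Kˣ) : H.sc k ∈ H.St x := ⟨k, H.sc_smul k x⟩

theorem St_cm {x : V} (hx : x ≠ 0) {a b : B} (ha : a ∈ H.St x) (hb : b ∈ H.St x) :
    H.cm a b = 1 := by
  obtain ⟨k, hk⟩ := ha
  obtain ⟨l, hl⟩ := hb
  have h := H.cm_smul a b x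
  rw [hk, hl, H.lin, H.lin, hk, hl, smul_comm (l : K)] at h
  refine unit_eq (v := (k : K) • (l : K) • x) (by simp [hx]) ?_
  rw [← h, Units.val_one, one_smul]

/-- vectors with the same eigenvalues as `x` under `X` -/
def Eig (X : Subgroup B) (x : V) : Submodule K V where
  carrier := {v | ∀ b ∈ X, ∀ k : Kˣ, b • x = (k : K) • x → b • v = (k : K) • v}
  zero_mem' := fun b _ k _ => by simp
  add_mem' := fun ha hb b h k hk => by rw [smul_add, smul_add, ha b h k hk, hb b h k hk]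
  smul_mem' := fun c v hv b h k hk => by rw [H.lin, hv b h k hk, smul_comm]

theorem self_mem_Eig (X : Subgroup B) (x : V) : x ∈ H.Eig X x := fun _ _ _ h => h

theorem smul_mem_Eig {X : Subgroup B} {x v : V} {p : B}
    (hp : p ∈ Subgroup.centralizer (X : Set B)) (hv : v ∈ H.Eig X x) : p • v ∈ H.Eig X x := by
  intro b hb k hk
  rw [H.cm_smul, H.mem_cent.1 hp b hb, Units.val_one, one_smul, hv b hb k hk, H.lin]

theorem le_St_of_mem_Eig {X : Subgroup B} {x v : V} (hX : X ≤ H.St x) (hv : v ∈ H.Eig X x) :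
    X ≤ H.St v := fun b hb => by
  obtain ⟨k, hk⟩ := hX hb
  exact ⟨k, hv b hb k hk⟩

theorem Eig_eq {X : Subgroup B} {x v : V} (hX : X ≤ H.St x) (hv : v ∈ H.Eig X x) (h0 : v ≠ 0) :
    H.Eig X v = H.Eig X x := by
  ext w
  constructor
  · intro hw b hb k hk
    exact hw b hb k (hv b hb k hk)
  · intro hw b hb k hk
    obtain ⟨l, hl⟩ := hX hb
    obtain rfl : k = l := unit_eq h0 (by rw [← hk, hv b hb l hl])
    exact hw b hb k hl

theorem Eig_anti {X Y : Subgroup B} (h : Y ≤ X) (x : V) : H.Eig X x ≤ H.Eig Y x :=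
  fun _ hv b hb => hv b (h hb)

/-- centraliser of the eigen-stabiliser -/
def Pc (x : V) : Subgroup B := Subgroup.centralizer (H.St x : Set B)

instance Pc_normal (x : V) : (H.Pc x).Normal := H.normal_of_sc (H.sc_mem_cent _)

theorem St_le_Pc {x : V} (hx : x ≠ 0) : H.St x ≤ H.Pc x :=
  fun _ hb => H.mem_cent.2 fun _ ht => H.St_cm hx ht hb

theorem quot_comm (x : V) (a b : B ⧸ H.Pc x) : a * b = b * a := by
  obtain ⟨a, rfl⟩ := QuotientGroup.mk_surjective a
  obtain ⟨b, rfl⟩ := QuotientGroup.mk_surjective b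
  rw [← QuotientGroup.mk_mul, ← QuotientGroup.mk_mul, H.cm_spec a b, QuotientGroup.mk_mul,
    (QuotientGroup.eq_one_iff (N := H.Pc x) _).2 (H.sc_mem_cent _ _), one_mul]

theorem alpha_mem_St {x : V} {g : G} (hg : g • x = x) {b : B} (hb : b ∈ H.St x) :
    H.α g b ∈ H.St x := by
  obtain ⟨k, hk⟩ := hb
  obtain ⟨k', hk'⟩ := H.exists_alpha_sc g k
  refine ⟨k', ?_⟩
  rw [← H.sc_smul, ← hk', ← hg, ← H.compat, ← H.compat, hk, H.sc_smul]

theorem alpha_mem_Pc {x : V} {g : G} (hg : g • x = x) {p : B} (hp : p ∈ H.Pc x) :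
    H.α g p ∈ H.Pc x := by
  refine Subgroup.mem_centralizer_iff.2 fun t ht => ?_
  have hg' : g⁻¹ • x = x := by rw [inv_smul_eq_iff, hg]
  rw [← H.alpha_inv' g t, ← map_mul, ← map_mul,
    Subgroup.mem_centralizer_iff.1 hp _ (H.alpha_mem_St hg' ht)]

theorem g_mem_Eig {x : V} {g : G} (hg : g • x = x) {v : V} (hv : v ∈ H.Eig (H.St x) x) :
    g • v ∈ H.Eig (H.St x) x := by
  intro b hb k hk
  have hg' : g⁻¹ • x = x := by rw [inv_smul_eq_iff, hg]
  obtain ⟨k', hk'⟩ := H.exists_alpha_sc g⁻¹ k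
  have h1 : H.α g⁻¹ b • x = (k' : K) • x := by
    rw [← H.sc_smul, ← hk', ← hg', ← H.compat, ← H.compat, hk, H.sc_smul]
  have h2 := hv _ (H.alpha_mem_St hg' hb) k' h1
  rw [← H.alpha_inv' g b, ← H.compat, h2, ← H.sc_smul, ← hk', H.compat, H.alpha_inv', H.sc_smul]

/-- the induced action on `B / P` -/
def ab {x : V} {g : G} (hg : g • x = x) : B ⧸ H.Pc x →* B ⧸ H.Pc x :=
  QuotientGroup.map _ _ (H.α g).toMonoidHom fun _ hp => H.alpha_mem_Pc hg hp

theorem ab_mk {x : V} {g : G} (hg : g • x = x) (b : B) :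
    H.ab hg (b : B ⧸ H.Pc x) = (H.α g b : B) := rfl

theorem ab_inj {x : V} {g : G} (hg : g • x = x) : Function.Injective (H.ab hg) := by
  rw [injective_iff_map_eq_one]
  intro a ha
  obtain ⟨a, rfl⟩ := QuotientGroup.mk_surjective a
  rw [ab_mk, QuotientGroup.eq_one_iff] at ha
  have hg' : g⁻¹ • x = x := by rw [inv_smul_eq_iff, hg]
  rw [QuotientGroup.eq_one_iff, ← H.alpha_inv g a]
  exact H.alpha_mem_Pc hg' ha

/-- `w` lies in the component of `ω` -/
def Cp (x : V) (ω : B ⧸ H.Pc x) (w : V) : Prop := (ω.out)⁻¹ • w ∈ H.Eig (H.St x) x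

theorem cp_iff {x : V} {ω : B ⧸ H.Pc x} {b : B} (hb : (b : B ⧸ H.Pc x) = ω) {w : V} :
    H.Cp x ω w ↔ b⁻¹ • w ∈ H.Eig (H.St x) x := by
  have h : b⁻¹ * ω.out ∈ H.Pc x := by rw [← QuotientGroup.eq, hb, QuotientGroup.out_eq']
  constructor
  · intro hw
    have := H.smul_mem_Eig h hw
    rwa [← mul_smul, mul_inv_cancel_right] at this
  · intro hw
    have := H.smul_mem_Eig ((H.Pc x).inv_mem h) hw
    rwa [← mul_smul, mul_inv_rev, inv_inv, mul_inv_cancel_right] at this

theorem cp_smul {x : V} {ω : B ⧸ H.Pc x} {b : B} (hb : (b : B ⧸ H.Pc x) = ω) {v : V}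
    (hv : v ∈ H.Eig (H.St x) x) : H.Cp x ω (b • v) := by
  rw [H.cp_iff hb, inv_smul_smul]; exact hv

theorem cp_zero (x : V) (ω : B ⧸ H.Pc x) : H.Cp x ω 0 := by
  rw [Cp, smul_zero]; exact zero_mem _

theorem cp_indep {x : V} (s : Finset (B ⧸ H.Pc x)) : ∀ f : B ⧸ H.Pc x → V,
    (∀ ω ∈ s, H.Cp x ω (f ω)) → ∑ ω ∈ s, f ω = 0 → ∀ ω ∈ s, f ω = 0 := by
  classical
  have hev : ∀ ω w, H.Cp x ω w → ∀ t ∈ H.St x, ∀ k : Kˣ, t • x = (k : K) • x →
      t • w = ((H.cm t ω.out * k : Kˣ) : K) • w := by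
    intro ω w hw t ht k hk
    conv_lhs => rw [← smul_inv_smul ω.out w]
    rw [H.cm_smul, hw t ht k hk, H.lin, smul_inv_smul, Units.val_mul, mul_smul]
  induction s using Finset.induction_on with
  | empty => simp
  | insert a s ha ih =>
    intro f hf h0
    rw [Finset.sum_insert ha] at h0
    have h1 : ∀ ω ∈ s, f ω = 0 := by
      intro ω hω
      have hne : ¬ (a.out⁻¹ * ω.out ∈ H.Pc x) := by
        rw [← QuotientGroup.eq, QuotientGroup.out_eq', QuotientGroup.out_eq']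
        rintro rfl
        exact ha hω
      have hne : ¬ ∀ t ∈ H.St x, H.cm t (a.out⁻¹ * ω.out) = 1 := fun h => hne (H.mem_cent.2 h)
      push Not at hne
      obtain ⟨t, ht, hne⟩ := hne
      obtain ⟨k, hk⟩ := id ht
      let c : B ⧸ H.Pc x → K := fun η => ((H.cm t η.out * k : Kˣ) : K) - (H.cm t a.out * k : Kˣ)
      have := ih (fun η => c η • f η) (fun η hη => by
        rw [Cp, H.lin]
        exact Submodule.smul_mem _ _ (hf η (Finset.mem_insert_of_mem hη))) (by
        have e1 := congrArg (fun v => t • v) h0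
        have e2 := congrArg (fun v => ((H.cm t a.out * k : Kˣ) : K) • v) h0
        simp only [smul_add, Finset.smul_sum, smul_zero] at e1 e2
        rw [hev a _ (hf a (Finset.mem_insert_self _ _)) t ht k hk, Finset.sum_congr rfl
          (fun η hη => hev η _ (hf η (Finset.mem_insert_of_mem hη)) t ht k hk)] at e1
        simp only [c, sub_smul, Finset.sum_sub_distrib]
        rw [eq_neg_of_add_eq_zero_right e1, eq_neg_of_add_eq_zero_right e2, sub_self]) ω hω
      rcases smul_eq_zero.1 this with h | h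
      · exfalso
        apply hne
        have := mul_right_cancel (Units.ext (sub_eq_zero.1 h))
        rw [H.cm_mul_right, H.cm_inv_right, this, inv_mul_cancel]
      · exact h
    rw [Finset.sum_eq_zero h1, add_zero] at h0
    intro ω hω
    rcases Finset.mem_insert.1 hω with rfl | hω
    · exact h0
    · exact h1 ω hω

theorem comp_eq {x : V} [Fintype (B ⧸ H.Pc x)] {g : G} (hg : g • x = x) (F : B ⧸ H.Pc x → V)
    (hF : ∀ ω, H.Cp x ω (F ω)) (h : g • ∑ ω, F ω = ∑ ω, F ω) (ω : B ⧸ H.Pc x) :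
    g • F ω = F (H.ab hg ω) := by
  let e : B ⧸ H.Pc x ≃ B ⧸ H.Pc x :=
    Equiv.ofBijective (H.ab hg) (Finite.injective_iff_bijective.1 (H.ab_inj hg))
  have := H.cp_indep Finset.univ (fun η => g • F (e.symm η) - F η) (fun η _ => by
    obtain ⟨η, rfl⟩ := e.surjective η
    rw [Equiv.symm_apply_apply, Cp, smul_sub]
    refine sub_mem ?_ (hF _)
    refine (H.cp_iff (b := H.α g η.out) ?_).2 ?_
    · rw [← ab_mk _ hg, QuotientGroup.out_eq']; rfl
    · rw [← map_inv, ← H.compat]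
      exact H.g_mem_Eig hg (hF η)) (by
    rw [Finset.sum_sub_distrib, ← Finset.smul_sum, Equiv.sum_comp e.symm F, h, sub_self])
    (e ω) (Finset.mem_univ _)
  simp only [Equiv.symm_apply_apply] at this
  exact sub_eq_zero.1 this

theorem gd_iff {x : V} {g : G} (hg : g • x = x) (b : B) :
    g • b • x = b • x ↔ (b⁻¹ * H.α g b) • x = x := by
  rw [H.compat, hg, mul_smul, inv_smul_eq_iff]

theorem fix_Eig {x v : V} {d : B} (hd : d • x = x) (hv : v ∈ H.Eig (H.St x) x) : d • v = v := by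
  have h : d • x = ((1 : Kˣ) : K) • x := by simp [hd]
  simpa using hv d ⟨1, h⟩ 1 h

theorem gd_mul_Pc {x : V} {g : G} (hg : g • x = x) {b p : B} (hb : g • b • x = b • x)
    (hp : p ∈ H.Pc x) (hp' : g • p • x = p • x) : g • (b * p) • x = (b * p) • x := by
  rw [mul_smul, H.compat, hp', ← mul_inv_cancel_left b (H.α g b), mul_smul,
    H.fix_Eig ((H.gd_iff hg b).1 hb) (H.smul_mem_Eig hp (H.self_mem_Eig _ _))]

include H in
theorem gd_quad {x : V} (hx : x ≠ 0) {g : G} {a b c : B}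
    (hb : g • b • x = b • x) (hc : g • c • x = c • x) (hbc : g • (b * c) • x = (b * c) • x)
    (hab : g • (a * b) • x = (a * b) • x) (hac : g • (a * c) • x = (a * c) • x)
    (habc : g • (a * (b * c)) • x = (a * (b * c)) • x) (hg : g • x = x) :
    g • a • x = a • x := by
  rw [H.gd_iff hg]
  set d := a⁻¹ * H.α g a with hd
  have key : ∀ e : B, g • e • x = e • x → g • (a * e) • x = (a * e) • x →
      (H.cm d e : K) • d • x = x := by
    intro e h1 h2
    rw [mul_smul, H.compat, h1, ← mul_inv_cancel_left a (H.α g a), mul_smul, ← hd,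
      smul_left_cancel_iff, H.cm_smul, ← H.lin, smul_left_cancel_iff] at h2
    exact h2
  have hdx : d • x ≠ 0 := by rwa [Ne, smul_eq_zero_iff_eq]
  have e1 := unit_eq hdx ((key b hb hab).trans (key c hc hac).symm)
  have e2 := unit_eq hdx ((key b hb hab).trans (key _ hbc habc).symm)
  rw [H.cm_mul_right, ← e1, left_eq_mul] at e2
  have := key b hb hab
  rwa [e2, Units.val_one, one_smul] at this

include H in
theorem gd_coprime {x : V} {g : G} (hg : g • x = x) {a b : B} {m n : ℕ} (hmn : m.Coprime n)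
    (ha : g • a • x = a • x) (hb : g • b • x = b • x) (hm : ∃ k, a ^ m = H.sc k)
    (hn : ∃ k, b ^ n = H.sc k) : g • (a * b) • x = (a * b) • x := by
  obtain ⟨k, hk⟩ := hm
  obtain ⟨l, hl⟩ := hn
  obtain ⟨k', hk'⟩ := H.exists_alpha_sc g k
  set d := a⁻¹ * H.α g a with hd
  have h1 : H.cm d b ^ n = 1 := by rw [← H.cm_pow_right, hl, H.cm_sc_right]
  have h2 : H.cm d b ^ m = 1 := by
    rw [hd, H.cm_mul_left, mul_pow, H.cm_inv_left, inv_pow, ← H.cm_pow_left, ← H.cm_pow_left,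
      ← map_pow, hk, hk', H.cm_sc_left, H.cm_sc_left, inv_one, one_mul]
  have h3 : H.cm d b = 1 := by
    rw [← orderOf_eq_one_iff]
    exact Nat.eq_one_of_dvd_coprimes hmn (orderOf_dvd_of_pow_eq_one h2)
      (orderOf_dvd_of_pow_eq_one h1)
  rw [mul_smul, H.compat, hb, ← mul_inv_cancel_left a (H.α g a), mul_smul, ← hd, H.cm_smul d, h3,
    Units.val_one, one_smul, (H.gd_iff hg a).1 ha]

theorem alpha_eq_one {x : V} (hx : x ≠ 0) {g : G} (h : ∀ b : B, g • b • x = b • x) :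
    H.α g = 1 := by
  have hg : g • x = x := by simpa using h 1
  ext b
  set d := b⁻¹ * H.α g b with hd
  have h1 : ∀ c : B, d • c • x = c • x := by
    intro c
    rw [hd, mul_smul, inv_smul_eq_iff, ← h c, ← H.compat, ← mul_smul b, h, mul_smul, h]
  have h2 : d • x = x := by simpa using h1 1
  obtain ⟨k, hk⟩ := H.cen d fun c => by
    rw [← H.cm_eq_one_iff]
    have := h1 c
    rw [H.cm_smul, h2] at this
    exact unit_eq (v := c • x) (by rwa [Ne, smul_eq_zero_iff_eq]) (by simpa using this)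
  rw [hk, H.sc_smul] at h2
  obtain rfl : k = 1 := unit_eq hx (by simpa using h2)
  rw [map_one, hd, inv_mul_eq_one] at hk
  exact hk.symm

theorem alpha_eq_one_of_prime [Finite B] {x : V} (hx : x ≠ 0) {g : G} (hg : g • x = x)
    (h1 : ∀ p ∈ H.Pc x, g • p • x = p • x)
    (h2 : ∀ ω : B ⧸ H.Pc x, (orderOf ω).Prime → ∃ b : B, (b : B ⧸ H.Pc x) = ω ∧ g • b • x = b • x) :
    H.α g = 1 := by
  obtain ⟨m, hm, hpow⟩ := H.exists_sqf
  refine H.alpha_eq_one hx fun b => ?_
  have key : ∀ n : ℕ, Squarefree n → ∀ b : B, (∃ k, b ^ n = H.sc k) → g • b • x = b • x := by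
    intro n
    induction n using Nat.recOnPosPrimePosCoprime with
    | prime_pow r j hr hj =>
      intro hs b ⟨k, hk⟩
      obtain rfl : j = 1 := by
        rcases (Nat.squarefree_pow_iff hr.ne_one hj.ne').1 hs with ⟨-, h⟩
        exact h
      rw [pow_one] at hk
      by_cases hb : b ∈ H.Pc x
      · exact h1 b hb
      · have : orderOf (b : B ⧸ H.Pc x) = r := by
          haveI := Fact.mk hr
          refine orderOf_eq_prime ?_ (by rwa [Ne, QuotientGroup.eq_one_iff])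
          rw [← QuotientGroup.mk_pow, hk, QuotientGroup.eq_one_iff]
          exact H.sc_mem_cent _ _
        obtain ⟨c, hc, hc'⟩ := h2 b (this ▸ hr)
        rw [QuotientGroup.eq] at hc
        have := H.gd_mul_Pc hg hc' hc (h1 _ hc)
        rwa [mul_inv_cancel_left] at this
    | zero => intro hs; exact absurd hs not_squarefree_zero
    | one =>
      intro _ b ⟨k, hk⟩
      rw [pow_one] at hk
      exact h1 b (hk ▸ H.sc_mem_cent _ _)
    | coprime s t hs ht hst ihs iht =>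
      intro hsq b ⟨k, hk⟩
      obtain ⟨u, v, huv⟩ := Nat.isCoprime_iff_coprime.2 hst
      have e1 : (b ^ (v * t)) ^ s = H.sc (k ^ v) := by
        rw [map_zpow, ← hk, ← zpow_natCast, ← zpow_natCast, ← zpow_mul, ← zpow_mul]
        congr 1; push_cast; ring
      have e2 : (b ^ (u * s)) ^ t = H.sc (k ^ u) := by
        rw [map_zpow, ← hk, ← zpow_natCast, ← zpow_natCast, ← zpow_mul, ← zpow_mul]
        congr 1; push_cast; ring
      have := H.gd_coprime hg hst (ihs hsq.of_mul_left _ ⟨_, e1⟩) (iht hsq.of_mul_right _ ⟨_, e2⟩)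
        ⟨_, e1⟩ ⟨_, e2⟩
      rwa [← zpow_add, add_comm, huv, zpow_one] at this
  exact key m hm b (hpow b)

end Heis

end Cfsg.Agent.H11
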