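import Cfsg.Agent.H11.BaseHeis2

set_option autoImplicit false

namespace Cfsg.Agent.H11

open Polynomial in
theorem exists_sq_comb {K : Type*} [Field K] [Finite K] (h2 : (2 : K) ≠ 0) {a b : K} (ha : a ≠ 0)
    (hb : b ≠ 0) (c : K) : ∃ s t : K, s ^ 2 * a + t ^ 2 * b = c := by
  haveI := Fintype.ofFinite K
  have hc : Fintype.card K % 2 = 1 := FiniteField.odd_card_of_char_ne_two fun h => by
    apply h2
    have := ringChar.spec K 2
    rw [h] at this
    exact_mod_cast this.2 dvd_rfl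
  obtain ⟨s, t, h⟩ := FiniteField.exists_root_sum_quadratic (f := C a * X ^ 2)
    (g := C b * X ^ 2 - C c) (degree_C_mul_X_pow 2 ha) (by
      rw [degree_sub_C (by rw [degree_C_mul_X_pow 2 hb]; norm_num), degree_C_mul_X_pow 2 hb]; rfl) hc
  simp only [eval_mul, eval_C, eval_pow, eval_X, eval_sub] at h
  exact ⟨s, t, by linear_combination h⟩

namespace Heis

variable {K B V G : Type*} [Field K] [Group B] [AddCommGroup V] [Module K V]
  [DistribMulAction B V] [Group G] [DistribMulAction G V] (H : Heis K B V G)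

/-- `x` has a maximal eigen-stabiliser -/
def Mx (x : V) : Prop := x ≠ 0 ∧ ∀ v, v ≠ 0 → H.St x ≤ H.St v → H.St v ≤ H.St x

theorem exists_mx [Finite B] : ∃ x, H.Mx x := by
  obtain ⟨v, hv⟩ := H.nt
  obtain ⟨_, ⟨x, hx, rfl⟩, h⟩ := (Set.toFinite (H.St '' {v | v ≠ 0})).exists_maximal
    ⟨_, v, hv, rfl⟩
  exact ⟨x, hx, fun w hw hle => h ⟨w, hw, rfl⟩ hle⟩

theorem Mx.St_eq {x v : V} (h : H.Mx x) (hv : v ∈ H.Eig (H.St x) x) (h0 : v ≠ 0) :
    H.St v = H.St x :=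
  le_antisymm (h.2 v h0 (H.le_St_of_mem_Eig le_rfl hv)) (H.le_St_of_mem_Eig le_rfl hv)

theorem Mx.of_Eig {x v : V} (h : H.Mx x) (hv : v ∈ H.Eig (H.St x) x) (h0 : v ≠ 0) : H.Mx v :=
  ⟨h0, fun w hw hle => by
    rw [Mx.St_eq H h hv h0] at hle ⊢
    exact h.2 w hw hle⟩

/-- the linear map of an element of `B` -/
def toLin (b : B) : Module.End K V where
  toFun v := b • v
  map_add' := smul_add b
  map_smul' := H.lin b

theorem toLin_pow (b : B) (n : ℕ) (v : V) : (H.toLin b ^ n) v = b ^ n • v := by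
  induction n with
  | zero => simp
  | succ n ih => rw [pow_succ', pow_succ', Module.End.mul_apply, ih, mul_smul]; rfl

open Polynomial in
theorem Mx.mem_of_pow {x : V} (h : H.Mx x) {c : B} (hc : c ∈ H.Pc x) {r : ℕ} (hr : 0 < r)
    {ζ θ : K} (hζ : IsPrimitiveRoot ζ r) (hθ : c ^ r • x = θ ^ r • x) : c ∈ H.St x := by
  have key : ∀ (a : ℕ → K) (n : ℕ), ∀ v ∈ H.Eig (H.St x) x, v ≠ 0 →
      aeval (H.toLin c) (∏ i ∈ Finset.range n, (X - C (a i))) v = 0 → c ∈ H.St x := by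
    intro a n
    induction n with
    | zero => intro v _ h0 h1; simp at h1; exact absurd h1 h0
    | succ n ih =>
      intro v hv h0 h1
      rw [Finset.prod_range_succ, map_mul, Module.End.mul_apply] at h1
      have e : aeval (H.toLin c) (X - C (a n)) v = c • v - a n • v := by
        simp [toLin]
      by_cases hw : c • v - a n • v = 0
      · rw [← Mx.St_eq H h hv h0]
        exact H.mem_St_of h0 (sub_eq_zero.1 hw)
      · exact ih _ (sub_mem (H.smul_mem_Eig hc hv) (Submodule.smul_mem _ _ hv)) hw (e ▸ h1)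
  refine key (fun i => ζ ^ i * θ) r x (H.self_mem_Eig _ _) h.1 ?_
  rw [← X_pow_sub_C_eq_prod hζ hr rfl]
  rw [map_sub, map_pow, aeval_X, aeval_C, LinearMap.sub_apply, H.toLin_pow, hθ,
    Module.algebraMap_end_apply, sub_self]

theorem Mx.cm_sq [Finite B] [Finite K] {x : V} (h : H.Mx x) {c d : B} (hc : c ∈ H.Pc x)
    (hd : d ∈ H.Pc x) : H.cm c d ^ 2 = 1 := by
  by_contra hne
  obtain ⟨m, hm, hpow⟩ := H.exists_sqf
  have hζm : orderOf (H.cm c d) ∣ m := by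
    obtain ⟨k, hk⟩ := hpow c
    exact orderOf_dvd_of_pow_eq_one (by rw [← H.cm_pow_left, hk, H.cm_sc_left])
  obtain ⟨r, hr, hr1⟩ := Nat.exists_prime_and_dvd (n := orderOf (H.cm c d ^ 2))
    (fun h => hne (orderOf_eq_one_iff.1 h))
  have hr2 : r ∣ orderOf (H.cm c d) := hr1.trans (orderOf_pow_dvd 2)
  have hr3 : r ≠ 2 := by
    rintro rfl
    rw [orderOf_pow_of_dvd two_ne_zero hr2, Nat.dvd_div_iff_mul_dvd hr2] at hr1
    exact Nat.prime_two.one_lt.ne' (Nat.isUnit_iff.1 (hm 2 (hr1.trans hζm)))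
  obtain ⟨t, rfl⟩ := hr2.trans hζm
  have hrt : ¬ r ∣ t := fun h =>
    hr.one_lt.ne' (Nat.isUnit_iff.1 (hm r (Nat.mul_dvd_mul_left r h)))
  obtain ⟨ν₁, h₁⟩ := hpow c
  obtain ⟨ν₂, h₂⟩ := hpow d
  rw [mul_comm, pow_mul] at h₁ h₂
  have hc' : c ^ t ∈ H.Pc x := (H.Pc x).pow_mem hc t
  have hd' : d ^ t ∈ H.Pc x := (H.Pc x).pow_mem hd t
  have hne1 : H.cm (c ^ t) (d ^ t) ≠ 1 := by
    intro h1
    rw [H.cm_pow_left, H.cm_pow_right, ← pow_mul] at h1
    exact hrt ((hr.dvd_mul.1 (hr2.trans (orderOf_dvd_of_pow_eq_one h1))).elim id id)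
  generalize c ^ t = c' at *
  generalize d ^ t = d' at *
  haveI := Fact.mk hr
  have hζr : H.cm c' d' ^ r = 1 := by rw [← H.cm_pow_left, h₁, H.cm_sc_left]
  have hζ : IsPrimitiveRoot (H.cm c' d' : K) r := by
    rw [IsPrimitiveRoot.coe_units_iff, ← orderOf_eq_prime hζr hne1]
    exact IsPrimitiveRoot.orderOf _
  obtain ⟨γ, hγ⟩ := IsCyclic.exists_monoid_generator (α := Kˣ)
  have key : ∀ e ∈ H.Pc x, ∀ w, e ^ r = H.sc (γ ^ w) → r ∣ w → e ∈ H.St x := by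
    rintro e he _ hw ⟨w, rfl⟩
    refine Mx.mem_of_pow H h he hr.pos (θ := (γ ^ w : Kˣ)) hζ ?_
    rw [hw, H.sc_smul, mul_comm, pow_mul, Units.val_pow_eq_pow_val]
  obtain ⟨s, rfl⟩ := hγ ν₁
  obtain ⟨u, rfl⟩ := hγ ν₂
  by_cases hu : r ∣ u
  · apply hne1
    rw [H.cm_swap, H.mem_cent.1 hc' _ (key _ hd' u h₂ hu), inv_one]
  · have hu' : (u : ZMod r) ≠ 0 := by rwa [Ne, ZMod.natCast_eq_zero_iff]
    set j := (-(s : ZMod r) / u).val with hj
    have hdv : r ∣ s + u * j := by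
      rw [← ZMod.natCast_eq_zero_iff]
      push_cast
      rw [hj, ZMod.natCast_zmod_val]
      field_simp
      ring
    obtain ⟨w, hw⟩ := hr.dvd_choose_self two_ne_zero (lt_of_le_of_ne hr.two_le hr3.symm)
    have := key _ ((H.Pc x).mul_mem hc' ((H.Pc x).pow_mem hd' j)) _ (by
      rw [H.mul_pow', hw, pow_mul, ← H.cm_pow_right, h₁, H.cm_sc_right, one_pow, map_one, one_mul,
        ← pow_mul, mul_comm j, pow_mul, h₂, ← map_pow, ← map_mul, ← pow_mul, ← pow_add]) hdv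
    have h3 := H.mem_cent.1 hd' _ this
    rw [H.cm_mul_left, H.cm_pow_left, H.cm_self, one_pow, mul_one] at h3
    exact hne1 h3

theorem Mx.sq_mem [Finite B] [Finite K] {x : V} (h : H.Mx x) {d : B} (hd : d ∈ H.Pc x) :
    d ^ 2 ∈ H.St x :=
  H.mem_of_cm (H.sc_mem_St x) fun p hp => by rw [H.cm_pow_right, Mx.cm_sq H h hp hd]

theorem Mx.mem_of_sq {x : V} (h2 : (2 : K) ≠ 0) (h : H.Mx x) {c : B} (hc : c ∈ H.Pc x) {k : Kˣ}
    (hk : c ^ 2 • x = (k : K) • x) (hs : IsSquare k) : c ∈ H.St x := by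
  obtain ⟨θ, rfl⟩ := hs
  refine Mx.mem_of_pow H h hc two_pos (ζ := -1) (θ := θ) ?_ (by rw [hk, sq, Units.val_mul])
  refine IsPrimitiveRoot.mk_of_lt _ two_pos (by simp) fun l h0 hl => ?_
  obtain rfl : l = 1 := by omega
  intro h'
  exact h2 (by linear_combination -h')

theorem two_ne_of_cm {a b : B} (h1 : H.cm a b ≠ 1) (h2 : H.cm a b ^ 2 = 1) :
    H.cm a b = -1 ∧ (2 : K) ≠ 0 := by
  rcases H.cm_eq_one_or h2 with h | h
  · exact absurd h h1
  · refine ⟨h, fun h' => h1 ?_⟩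
    rw [h]
    ext
    simp only [Units.val_neg, Units.val_one]
    linear_combination -h'

/-- structure of the centraliser of a maximal eigen-stabiliser -/
theorem exists_struct [Finite B] [Finite K] : ∃ x, H.Mx x ∧ (H.Pc x = H.St x ∨
    ∃ a ∈ H.Pc x, ∃ d ∈ H.Pc x, ∃ γ : Kˣ, (∀ k, ∃ n : ℕ, γ ^ n = k) ∧ (2 : K) ≠ 0 ∧
      a ^ 2 • x = (γ : K) • x ∧ H.cm a d = -1 ∧ d ∉ H.St x ∧ ¬ IsSquare (-1 : Kˣ) ∧
      (∃ s t : K, d • x = s • x + t • a • x) ∧
      ∀ p ∈ H.Pc x, p ∈ H.St x ∨ a⁻¹ * p ∈ H.St x ∨ d⁻¹ * p ∈ H.St x ∨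
        (a * d)⁻¹ * p ∈ H.St x) := by
  obtain ⟨x, h⟩ := H.exists_mx
  by_cases hP : H.Pc x = H.St x
  · exact ⟨x, h, Or.inl hP⟩
  obtain ⟨c, hc, hcn⟩ := SetLike.exists_of_lt (lt_of_le_of_ne (H.St_le_Pc h.1) (Ne.symm hP))
  obtain ⟨d, hd, hcd⟩ : ∃ d ∈ H.Pc x, H.cm d c ≠ 1 := by
    by_contra hn
    push Not at hn
    exact hcn (H.mem_of_cm (H.sc_mem_St x) hn)
  obtain ⟨hcd, h2⟩ := H.two_ne_of_cm hcd (Mx.cm_sq H h hd hc)
  have hm1 : (-1 : Kˣ) ≠ 1 := fun h' => by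
    have := congrArg Units.val h'
    simp only [Units.val_neg, Units.val_one] at this
    exact h2 (by linear_combination -this)
  obtain ⟨γ, hγ⟩ := IsCyclic.exists_monoid_generator (α := Kˣ)
  obtain ⟨ν, hν⟩ := Mx.sq_mem H h hc
  have hνs : ¬ IsSquare ν := fun hs => hcn (Mx.mem_of_sq H h2 h hc hν hs)
  have hγs : ¬ IsSquare γ := fun hs => by
    obtain ⟨n, rfl⟩ := hγ ν
    exact hνs (hs.pow n)
  obtain ⟨θ, hθ⟩ := isSquare_mul_cyc hγs (b := ν⁻¹) (by rwa [isSquare_inv])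
  set a := H.sc θ * c with ha
  have haP : a ∈ H.Pc x := (H.Pc x).mul_mem (H.sc_mem_cent _ _) hc
  have ha2 : ∀ v ∈ H.Eig (H.St x) x, a ^ 2 • v = (γ : K) • v := by
    refine fun v hv => hv _ (Mx.sq_mem H h haP) γ ?_
    rw [ha, H.mul_pow', H.cm_sc_right, one_pow, map_one, one_mul, mul_smul, hν, ← map_pow,
      H.sc_smul, ← mul_smul, ← Units.val_mul, sq, ← hθ, inv_mul_cancel_right]
  have had : H.cm a d = -1 := by
    rw [ha, H.cm_mul_left, H.cm_sc_left, one_mul, H.cm_swap, hcd, inv_neg_one]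
  have hda : H.cm d a = -1 := by rw [H.cm_swap, had, inv_neg_one]
  have han : a ∉ H.St x := fun h' => hm1 (had ▸ H.mem_cent.1 hd _ h')
  have hdn : d ∉ H.St x := fun h' => hm1 (hda ▸ H.mem_cent.1 haP _ h')
  obtain ⟨μ, hμ⟩ := Mx.sq_mem H h hd
  have hμs : ¬ IsSquare μ := fun hs => hdn (Mx.mem_of_sq H h2 h hd hμ hs)
  have hi : ¬ IsSquare (-1 : Kˣ) := by
    intro hs
    have : a * d ∈ H.St x := by
      refine Mx.mem_of_sq H h2 h ((H.Pc x).mul_mem haP hd) (k := -1 * (γ * μ)) ?_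
        (hs.mul (isSquare_mul_cyc hγs hμs))
      rw [H.mul_pow', hda, mul_smul, mul_smul, hμ, H.lin, ha2 x (H.self_mem_Eig _ _), H.sc_smul]
      simp [mul_smul, smul_comm (μ : K) (γ : K)]
    have := H.mem_cent.1 hd _ this
    rw [H.cm_mul_left, H.cm_self, mul_one, had] at this
    exact hm1 this
  obtain ⟨s, t, hst⟩ := exists_sq_comb h2 γ.ne_zero μ.ne_zero 1
  obtain ⟨y, hy, hy0, s, t, hN⟩ : ∃ y ∈ H.Eig (H.St x) x, y ≠ 0 ∧
      ∃ s t : K, s • a • y + t • d • y = y := by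
    by_cases h0 : x + (s • a • x + t • d • x) = 0
    · refine ⟨x, H.self_mem_Eig _ _, h.1, -s, -t, ?_⟩
      rw [neg_smul, neg_smul, ← neg_add, neg_eq_of_add_eq_zero_left h0]
    · refine ⟨_, add_mem (H.self_mem_Eig _ _) (add_mem (Submodule.smul_mem _ _
        (H.smul_mem_Eig haP (H.self_mem_Eig _ _))) (Submodule.smul_mem _ _
        (H.smul_mem_Eig hd (H.self_mem_Eig _ _)))), h0, s, t, ?_⟩
      have e1 : a • a • x = (γ : K) • x := by rw [← mul_smul, ← sq, ha2 x (H.self_mem_Eig _ _)]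
      have e2 : d • d • x = (μ : K) • x := by rw [← mul_smul, ← sq, hμ]
      have e3 : d • a • x = -(a • d • x) := by rw [H.cm_smul, hda]; simp
      simp only [smul_add, H.lin, e1, e2, e3]
      generalize a • d • x = w1
      generalize a • x = w2
      generalize d • x = w3
      linear_combination (norm := module) hst • x
  have hSt := Mx.St_eq H h hy hy0
  have hPc : H.Pc y = H.Pc x := by rw [Pc, hSt]; rfl
  refine ⟨y, Mx.of_Eig H h hy hy0, Or.inr ⟨a, hPc ▸ haP, d, hPc ▸ hd, γ, hγ, h2, ha2 y hy, had,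
    hSt ▸ hdn, hi, ?_, ?_⟩⟩
  · have ht : t ≠ 0 := by
      rintro rfl
      rw [zero_smul, add_zero] at hN
      have hs : s ≠ 0 := by
        rintro rfl
        rw [zero_smul] at hN
        exact hy0 hN.symm
      exact han (hSt ▸ H.mem_St_of hy0 (k := s⁻¹) (by rw [eq_inv_smul_iff₀ hs, hN]))
    refine ⟨t⁻¹, -(t⁻¹ * s), ?_⟩
    rw [← inv_smul_smul₀ ht (d • y), eq_sub_of_add_eq' hN]
    generalize a • y = w
    module
  · rw [hPc, hSt]
    have key : ∀ p ∈ H.Pc x, H.cm p a = 1 → H.cm p d = 1 → p ∈ H.St x := by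
      intro p hp h1 h3
      by_contra hn
      obtain ⟨η, hη⟩ := Mx.sq_mem H h hp
      have hηs : ¬ IsSquare η := fun hs => hn (Mx.mem_of_sq H h2 h hp hη hs)
      have : a * p ∈ H.St x := by
        refine Mx.mem_of_sq H h2 h ((H.Pc x).mul_mem haP hp) (k := γ * η) ?_
          (isSquare_mul_cyc hγs hηs)
        rw [H.mul_pow', h1, one_pow, map_one, one_mul, mul_smul, hη, H.lin,
          ha2 x (H.self_mem_Eig _ _), ← mul_smul, mul_comm, Units.val_mul]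
      have := H.mem_cent.1 hd _ this
      rw [H.cm_mul_left, h3, mul_one, had] at this
      exact hm1 this
    intro p hp
    rcases H.cm_eq_one_or (Mx.cm_sq H h hp haP) with h1 | h1 <;>
      rcases H.cm_eq_one_or (Mx.cm_sq H h hp hd) with h3 | h3
    · exact Or.inl (key p hp h1 h3)
    · refine Or.inr (Or.inl (key _ ((H.Pc x).mul_mem ((H.Pc x).inv_mem haP) hp) ?_ ?_)) <;>
        simp [H.cm_mul_left, H.cm_inv_left, H.cm_self, h1, h3, had]
    · refine Or.inr (Or.inr (Or.inl (key _ ((H.Pc x).mul_mem ((H.Pc x).inv_mem hd) hp) ?_ ?_))) <;>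
        simp [H.cm_mul_left, H.cm_inv_left, H.cm_self, h1, h3, hda]
    · refine Or.inr (Or.inr (Or.inr (key _ ((H.Pc x).mul_mem ((H.Pc x).inv_mem
        ((H.Pc x).mul_mem haP hd)) hp) ?_ ?_))) <;>
        simp [H.cm_mul_left, H.cm_inv_left, H.cm_self, h1, h3, had, hda]

end Heis

end Cfsg.Agent.H11
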