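import Cfsg.Agent.H11.BaseHeis3

set_option autoImplicit false

namespace Cfsg.Agent.H11

namespace Heis

variable {K B V G : Type*} [Field K] [Group B] [AddCommGroup V] [Module K V]
  [DistribMulAction B V] [Group G] [DistribMulAction G V] (H : Heis K B V G)

theorem gd_pow {x : V} {g : G} (hg : g • x = x) {a : B} (ha : a ∈ H.Pc x)
    (h : g • a • x = a • x) (n : ℕ) : g • a ^ n • x = a ^ n • x := by
  induction n with
  | zero => simpa using hg
  | succ n ih => rw [pow_succ]; exact H.gd_mul_Pc hg ih ha h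

include H in
theorem pow_smul_eq {x : V} {a : B} {k : K} (h : a • x = k • x) (n : ℕ) :
    a ^ n • x = k ^ n • x := by
  induction n with
  | zero => simp
  | succ n ih => rw [pow_succ', mul_smul, ih, H.lin, h, ← mul_smul, pow_succ]

include H in
theorem fix_comb {x : V} {g : G} (hg : g • x = x) {a : B} (h : g • a • x = a • x)
    (hk : ∀ k : Kˣ, g • (k : K) • x = (k : K) • x) (s t : K) :
    g • (s • x + t • a • x) = s • x + t • a • x := by
  have h1 : ∀ b : B, g • b • x = b • x → ∀ t : K, g • t • b • x = t • b • x := by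
    intro b hb t
    rcases eq_or_ne t 0 with rfl | ht
    · simp
    · have := H.gd_mul_Pc hg hb (H.sc_mem_cent _ (Units.mk0 t ht)) (by rw [H.sc_smul, hk])
      rwa [mul_smul, H.sc_smul, H.lin] at this
  have h2 := h1 1 (by simpa using hg) s
  rw [one_smul] at h2
  rw [smul_add, h2, h1 a h t]

theorem exists_y0 [Finite B] [Finite K] : ∃ x, x ≠ 0 ∧ ∃ a ∈ H.Pc x, ∀ g : G, g • x = x →
    g • a • x = a • x → ∀ p ∈ H.Pc x, g • p • x = p • x := by
  obtain ⟨x, h, hP | ⟨a, ha, d, hd, γ, hγ, h2, ha2, -, -, -, ⟨s, t, hst⟩, hP⟩⟩ := H.exists_struct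
  · obtain ⟨γ, hγ⟩ := IsCyclic.exists_monoid_generator (α := Kˣ)
    refine ⟨x, h.1, H.sc γ, H.sc_mem_cent _ _, fun g hg hga p hp => ?_⟩
    obtain ⟨k, hk⟩ := hP ▸ hp
    obtain ⟨n, rfl⟩ := hγ k
    have := H.gd_pow hg (H.sc_mem_cent _ _) hga n
    rwa [← map_pow, H.sc_smul, ← hk] at this
  · refine ⟨x, h.1, a, ha, fun g hg hga p hp => ?_⟩
    have hk : ∀ k : Kˣ, g • (k : K) • x = (k : K) • x := by
      intro k
      obtain ⟨n, rfl⟩ := hγ k
      have := H.gd_pow hg ha hga (2 * n)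
      rwa [pow_mul, H.pow_smul_eq ha2, ← Units.val_pow_eq_pow_val] at this
    have key := H.fix_comb hg hga hk
    rcases hP p hp with ⟨k, hk⟩ | ⟨k, hk⟩ | ⟨k, hk⟩ | ⟨k, hk⟩
    · simpa [hk] using key k 0
    · rw [mul_smul, inv_smul_eq_iff, H.lin] at hk
      simpa [hk] using key 0 k
    · rw [mul_smul, inv_smul_eq_iff, H.lin, hst, smul_add, smul_smul, smul_smul] at hk
      rw [hk, key]
    · rw [mul_smul, inv_smul_eq_iff, H.lin, mul_smul, hst, smul_add, H.lin, H.lin, ← mul_smul a a,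
        ← sq, ha2, smul_add, smul_smul, smul_smul, smul_smul, add_comm] at hk
      rw [hk, key]

theorem gd_rep {x : V} {g : G} (hg : g • x = x) (h1 : ∀ p ∈ H.Pc x, g • p • x = p • x) {b c : B}
    (h : (b : B ⧸ H.Pc x) = c) (hb : g • b • x = b • x) : g • c • x = c • x := by
  rw [QuotientGroup.eq] at h
  have := H.gd_mul_Pc hg hb h (h1 _ h)
  rwa [mul_inv_cancel_left] at this

theorem alpha_eq_one_of_col [Finite B] {x : V} (hx : x ≠ 0) {g : G} (hg : g • x = x)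
    (h1 : ∀ p ∈ H.Pc x, g • p • x = p • x) (κ : B ⧸ H.Pc x → Fin 4)
    (hκ : ∀ v, (orderOf v).Prime → κ v = 2 →
        ∃ b c : B ⧸ H.Pc x, ∀ d ∈ [b, c, b * c, v * b, v * c, v * (b * c)],
        (orderOf d).Prime ∧ κ d ≠ 2)
    (h2 : ∀ ω : B ⧸ H.Pc x, (orderOf ω).Prime → κ ω ≠ 2 →
      ∃ b : B, (b : B ⧸ H.Pc x) = ω ∧ g • b • x = b • x) : H.α g = 1 := by
  refine H.alpha_eq_one_of_prime hx hg h1 fun ω hω => ?_
  by_cases h : κ ω = 2
  · obtain ⟨b, c, hbc⟩ := hκ ω hω h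
    obtain ⟨a, rfl⟩ := QuotientGroup.mk_surjective ω
    obtain ⟨b, rfl⟩ := QuotientGroup.mk_surjective b
    obtain ⟨c, rfl⟩ := QuotientGroup.mk_surjective c
    have key : ∀ d : B, (d : B ⧸ H.Pc x) ∈ [(b : B ⧸ H.Pc x), c, b * c, a * b, a * c, a * (b * c)] →
        g • d • x = d • x := by
      intro d hd
      obtain ⟨e, he, he'⟩ := h2 _ (hbc _ hd).1 (hbc _ hd).2
      exact H.gd_rep hg h1 he he'
    exact ⟨a, rfl, H.gd_quad hx (key b (by simp)) (key c (by simp)) (key _ (by simp))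
      (key _ (by simp)) (key _ (by simp)) (key _ (by simp)) hg⟩
  · exact h2 ω hω h

theorem base3 [Finite B] [Finite K] :
    ∃ x y z : V, ∀ g : G, g • x = x → g • y = y → g • z = z → H.α g = 1 := by
  classical
  obtain ⟨x, hx, a, ha, hy0⟩ := H.exists_y0
  obtain ⟨κ, -, k2, k3, -⟩ := exists_col' (B ⧸ H.Pc x) (H.quot_comm x)
  haveI := Fintype.ofFinite (B ⧸ H.Pc x)
  let F₁ : B ⧸ H.Pc x → V := fun ω => if ω = 1 then a • x else
    if (orderOf ω).Prime ∧ (κ ω = 0 ∨ κ ω = 3) then ω.out • x else 0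
  let F₂ : B ⧸ H.Pc x → V := fun ω =>
    if (orderOf ω).Prime ∧ (κ ω = 1 ∨ κ ω = 3) then ω.out • x else 0
  have hout : ∀ ω : B ⧸ H.Pc x, H.Cp x ω (ω.out • x) := fun ω =>
    H.cp_smul (QuotientGroup.out_eq' ω) (H.self_mem_Eig _ _)
  have hF₁ : ∀ ω, H.Cp x ω (F₁ ω) := by
    intro ω
    simp only [F₁]
    split_ifs with h
    · exact H.cp_smul (by rw [h, QuotientGroup.eq_one_iff]; exact ha) (H.self_mem_Eig _ _)
    · exact hout ω
    · exact H.cp_zero _ _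
  have hF₂ : ∀ ω, H.Cp x ω (F₂ ω) := by
    intro ω
    simp only [F₂]
    split_ifs with h
    · exact hout ω
    · exact H.cp_zero _ _
  have hne : ∀ ω : B ⧸ H.Pc x, (orderOf ω).Prime → ω ≠ 1 := by
    rintro _ h rfl
    rw [orderOf_one] at h
    exact Nat.not_prime_one h
  have h0 : ∀ ω : B ⧸ H.Pc x, ω.out • x ≠ 0 := fun ω => by rwa [Ne, smul_eq_zero_iff_eq]
  have e₁ : ∀ ω : B ⧸ H.Pc x, (orderOf ω).Prime → (F₁ ω ≠ 0 ↔ κ ω = 0 ∨ κ ω = 3) := by
    intro ω hω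
    by_cases h : κ ω = 0 ∨ κ ω = 3 <;> simp [F₁, hne ω hω, hω, h, h0]
  have e₂ : ∀ ω : B ⧸ H.Pc x, (orderOf ω).Prime → (F₂ ω ≠ 0 ↔ κ ω = 1 ∨ κ ω = 3) := by
    intro ω hω
    by_cases h : κ ω = 1 ∨ κ ω = 3 <;> simp [F₂, hω, h, h0]
  refine ⟨x, ∑ ω, F₁ ω, ∑ ω, F₂ ω, fun g hg g1 g2 => ?_⟩
  have c1 := H.comp_eq hg F₁ hF₁ g1
  have c2 := H.comp_eq hg F₂ hF₂ g2
  have h1 := hy0 g hg (by simpa [F₁] using c1 1)
  have hfix := k2 (H.ab hg) (H.ab_inj hg) fun ω hω => by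
    have hω' : (orderOf (H.ab hg ω)).Prime := by rwa [orderOf_injective _ (H.ab_inj hg)]
    have a1 := e₁ _ hω'
    have a2 := e₂ _ hω'
    rw [← c1, Ne, smul_eq_zero_iff_eq, ← Ne, e₁ _ hω] at a1
    rw [← c2, Ne, smul_eq_zero_iff_eq, ← Ne, e₂ _ hω] at a2
    revert a1 a2
    generalize κ ω = i
    generalize κ (H.ab hg ω) = j
    revert i j
    decide
  refine H.alpha_eq_one_of_col hx hg h1 κ k3 fun ω hω h2 => ⟨ω.out, QuotientGroup.out_eq' ω, ?_⟩
  have a1 := c1 ω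
  have a2 := c2 ω
  rw [hfix ω hω] at a1 a2
  by_cases h : κ ω = 0 ∨ κ ω = 3
  · simpa [F₁, hne ω hω, hω, h] using a1
  · have h' : κ ω = 1 ∨ κ ω = 3 := by
      revert h h2
      generalize κ ω = i
      revert i
      decide
    simpa [F₂, hω, h'] using a2

end Heis

theorem heisBase3 : HeisBase3 := fun _ _ _ _ _ _ _ _ _ _ _ _ _ H => H.base3

end Cfsg.Agent.H11
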