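import Cfsg.Agent.H11.BaseHeis5
import Cfsg.Agent.H11.BaseCert

set_option autoImplicit false

namespace Cfsg.Agent.H11

namespace Heis

open BC

variable {K B V G : Type*} [Field K] [Group B] [AddCommGroup V] [Module K V]
  [DistribMulAction B V] [Group G] [DistribMulAction G V] (H : Heis K B V G)

theorem neg_one_ne (h2 : (2 : K) ≠ 0) : (-1 : Kˣ) ≠ 1 := fun h' => by
  have := congrArg Units.val h'
  simp only [Units.val_neg, Units.val_one] at this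
  exact h2 (by linear_combination -this)

theorem cm_cases (hsq : ∀ b : B, ∃ k, b ^ 2 = H.sc k) (a b : B) :
    H.cm a b = 1 ∨ H.cm a b = -1 := by
  obtain ⟨k, hk⟩ := hsq a
  exact H.cm_eq_one_or (by rw [← H.cm_pow_left, hk, H.cm_sc_left])

/-- elements of `X` commuting with `b` -/
noncomputable def Rel (X : Subgroup B) (b : B) : Subgroup B := X ⊓ (H.cmH.flip b).ker

theorem mem_Rel {X : Subgroup B} {b t : B} : t ∈ H.Rel X b ↔ t ∈ X ∧ H.cm t b = 1 := Iff.rfl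

theorem cent_Rel (hsq : ∀ b : B, ∃ k, b ^ 2 = H.sc k) {X : Subgroup B} {a b : B} (ha : a ∈ X)
    (hab : H.cm a b = -1) {p : B} (hp : p ∈ Subgroup.centralizer (H.Rel X b : Set B)) :
    p ∈ Subgroup.centralizer (X : Set B) ∨ p * b⁻¹ ∈ Subgroup.centralizer (X : Set B) := by
  rw [H.mem_cent] at hp
  have key : ∀ t ∈ X, H.cm t b = -1 → H.cm t p = H.cm a p := by
    intro t ht h
    have := hp (t * a⁻¹) ⟨X.mul_mem ht (X.inv_mem ha), by
      show H.cm _ _ = 1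
      rw [H.cm_mul_left, H.cm_inv_left, h, hab, mul_inv_cancel]⟩
    rwa [H.cm_mul_left, H.cm_inv_left, mul_inv_eq_one] at this
  rcases H.cm_cases hsq a p with h | h
  · refine Or.inl (H.mem_cent.2 fun t ht => ?_)
    rcases H.cm_cases hsq t b with h' | h'
    · exact hp t ⟨ht, h'⟩
    · rw [key t ht h', h]
  · refine Or.inr (H.mem_cent.2 fun t ht => ?_)
    rw [H.cm_mul_right, H.cm_inv_right]
    rcases H.cm_cases hsq t b with h' | h'
    · rw [hp t ⟨ht, h'⟩, h', inv_one, mul_one]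
    · rw [key t ht h', h, h', mul_inv_cancel]

theorem exists_qubit [Finite B] [Finite K] (h2 : (2 : K) ≠ 0) (hsq : ∀ b : B, ∃ k, b ^ 2 = H.sc k)
    {x : V} (hx : x ≠ 0) {X : Subgroup B} (hZ : ∀ k, H.sc k ∈ X) (hX : X ≤ H.St x) {c : B}
    (hc : c ∉ Subgroup.centralizer (X : Set B)) :
    ∃ a ∈ X, ∃ b : B, a • x = x ∧ H.cm a b = -1 ∧ b * b = 1 ∧ b * c⁻¹ ∈ X := by
  rw [H.mem_cent] at hc
  push Not at hc
  obtain ⟨a, ha, hac⟩ := hc
  have hac := (H.cm_cases hsq a c).resolve_left hac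
  obtain ⟨k, hk⟩ := hX ha
  obtain ⟨a, ha, hax, hac⟩ : ∃ a ∈ X, a • x = x ∧ H.cm a c = -1 :=
    ⟨H.sc k⁻¹ * a, X.mul_mem (hZ _) ha, by
      rw [mul_smul, hk, H.sc_smul, ← mul_smul, Units.inv_mul, one_smul],
      by rw [H.cm_mul_left, H.cm_sc_left, one_mul, hac]⟩
  have ha2 : a ^ 2 = 1 := by
    obtain ⟨l, hl⟩ := hsq a
    have : (l : K) • x = ((1 : Kˣ) : K) • x := by
      rw [← H.sc_smul, ← hl, sq, mul_smul, hax, hax, Units.val_one, one_smul]
    rw [hl, unit_eq hx this, map_one]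
  have key : ∀ c' : B, c' * c⁻¹ ∈ X → H.cm a c' = -1 → (∃ θ : Kˣ, c' ^ 2 = H.sc (θ ^ 2)) →
      ∃ a ∈ X, ∃ b : B, a • x = x ∧ H.cm a b = -1 ∧ b * b = 1 ∧ b * c⁻¹ ∈ X := by
    rintro c' h1 h3 ⟨θ, hθ⟩
    refine ⟨a, ha, H.sc θ⁻¹ * c', hax, by rw [H.cm_mul_right, H.cm_sc_right, one_mul, h3], ?_,
      by rw [mul_assoc]; exact X.mul_mem (hZ _) h1⟩
    rw [← sq, H.mul_pow', H.cm_sc_right, one_pow, map_one, one_mul, hθ, ← map_pow, ← map_mul]
    simp
  by_cases hi : IsSquare (-1 : Kˣ)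
  · exact key c (by simp [X.one_mem]) hac (H.isSquare_of_sq h2 hi hsq c)
  · obtain ⟨l, hl⟩ := hsq c
    by_cases hs : IsSquare l
    · obtain ⟨θ, rfl⟩ := hs
      exact key c (by simp [X.one_mem]) hac ⟨θ, by rw [hl, sq]⟩
    · obtain ⟨θ, hθ⟩ := isSquare_mul_cyc hi hs
      refine key (a * c) (by simpa using ha) (by rw [H.cm_mul_right, H.cm_self, one_mul, hac])
        ⟨θ, ?_⟩
      rw [H.mul_pow', ha2, hl, H.cm_swap, hac, one_mul, ← map_mul, sq θ, ← hθ]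
      simp

/-- a finite model of the action of the centraliser of `X` -/
structure Mod (x : V) (X : Subgroup B) {W P : Type*} [AddCommGroup W] (act : P → W → W) where
  Φ : W →+ V
  inj : Function.Injective Φ
  hZ : ∀ k, H.sc k ∈ X
  hX : X ≤ H.St x
  eig : ∀ w, Φ w ∈ H.Eig X x
  rep : ∀ p ∈ Subgroup.centralizer (X : Set B), ∃ π, ∀ w, p • Φ w = Φ (act π w)
  real : ∀ π, ∃ p ∈ Subgroup.centralizer (X : Set B), ∀ w, p • Φ w = Φ (act π w)

theorem Mod.dbl (h2 : (2 : K) ≠ 0) (hsq : ∀ b : B, ∃ k, b ^ 2 = H.sc k) {x : V} (hx : x ≠ 0)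
    {X : Subgroup B} {W P : Type*} [AddCommGroup W] {act : P → W → W} (M : H.Mod x X act)
    {a b : B} (ha : a ∈ X) (hax : a • x = x) (hab : H.cm a b = -1) (hb : b * b = 1) :
    Nonempty (H.Mod x (H.Rel X b) (act2 act)) := by
  let Φ' : W × W →+ V := M.Φ.coprod ((DistribMulAction.toAddMonoidHom V b).comp M.Φ)
  have hΦ : ∀ u v, Φ' (u, v) = M.Φ u + b • M.Φ v := fun _ _ => rfl
  have ha1 : ∀ w, a • M.Φ w = M.Φ w := fun w => by
    simpa using M.eig w a ha 1 (by simp [hax])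
  have hbc : b ∈ Subgroup.centralizer (H.Rel X b : Set B) := H.mem_cent.2 fun t ht => ht.2
  have hle : Subgroup.centralizer (X : Set B) ≤ Subgroup.centralizer (H.Rel X b : Set B) :=
    Subgroup.centralizer_le fun t ht => ht.1
  have haC : a ∈ Subgroup.centralizer (X : Set B) :=
    H.mem_cent.2 fun t ht => H.St_cm hx (M.hX ht) (M.hX ha)
  have hsw : ∀ u v, b • Φ' (u, v) = Φ' (v, u) := fun u v => by
    rw [hΦ, hΦ, smul_add, ← mul_smul, hb, one_smul, add_comm]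
  have key : ∀ p π, (∀ w, p • M.Φ w = M.Φ (act π w)) → ∀ e : Bool,
      H.cm p b = cond e (-1) 1 → (∀ w, p • Φ' w = Φ' (act2 act (π, e, false) w)) ∧
        ∀ w, (p * b) • Φ' w = Φ' (act2 act (π, e, true) w) := by
    intro p π hp e he
    have h1 : ∀ w, p • Φ' w = Φ' (act2 act (π, e, false) w) := by
      rintro ⟨u, v⟩
      rw [hΦ, smul_add, H.cm_smul, he, hp, hp]
      cases e <;> simp [act2, hΦ]
    refine ⟨h1, ?_⟩
    rintro ⟨u, v⟩
    rw [mul_smul, hsw, h1]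
    rfl
  refine ⟨⟨Φ', ?_, fun k => ⟨M.hZ k, H.cm_sc_left k b⟩, fun t ht => M.hX ht.1, ?_, ?_, ?_⟩⟩
  · rw [injective_iff_map_eq_zero]
    rintro ⟨u, v⟩ h
    have h1 := congrArg (fun w => a • w) h
    simp only [hΦ, smul_add, smul_zero, H.cm_smul a b, hab, ha1] at h h1
    have h3 : (2 : K) • M.Φ u = 0 := by
      simp only [Units.val_neg, Units.val_one, neg_smul, one_smul] at h1
      rw [two_smul]
      generalize b • M.Φ v = w at h h1
      linear_combination (norm := module) h + h1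
    have h4 : M.Φ u = 0 := (smul_eq_zero.1 h3).resolve_left h2
    rw [h4, zero_add, smul_eq_zero_iff_eq] at h
    rw [(injective_iff_map_eq_zero _).1 M.inj u h4, (injective_iff_map_eq_zero _).1 M.inj v h]
    rfl
  · rintro ⟨u, v⟩
    have hanti := H.Eig_anti (X := X) (Y := H.Rel X b) (fun t ht => ht.1) x
    exact add_mem (hanti (M.eig u)) (H.smul_mem_Eig hbc (hanti (M.eig v)))
  · have he : ∀ p, ∃ e : Bool, H.cm p b = cond e (-1) 1 := fun p => by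
      rcases H.cm_cases hsq p b with h | h
      · exact ⟨false, h⟩
      · exact ⟨true, h⟩
    intro p hp
    rcases H.cent_Rel hsq ha hab hp with h | h
    · obtain ⟨π, hπ⟩ := M.rep _ h
      obtain ⟨e, he⟩ := he p
      exact ⟨_, (key p π hπ e he).1⟩
    · obtain ⟨π, hπ⟩ := M.rep _ h
      obtain ⟨e, he⟩ := he (p * b⁻¹)
      have := (key _ π hπ e he).2
      rw [inv_mul_cancel_right] at this
      exact ⟨_, this⟩
  · rintro ⟨π, e, s⟩
    obtain ⟨p, hp, hπ, he⟩ : ∃ p ∈ Subgroup.centralizer (X : Set B),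
        (∀ w, p • M.Φ w = M.Φ (act π w)) ∧ H.cm p b = cond e (-1) 1 := by
      obtain ⟨p, hp, hπ⟩ := M.real π
      by_cases h : H.cm p b = cond e (-1) 1
      · exact ⟨p, hp, hπ, h⟩
      · refine ⟨p * a, Subgroup.mul_mem _ hp haC, fun w => by rw [mul_smul, ha1, hπ], ?_⟩
        rw [H.cm_mul_left, hab]
        rcases H.cm_cases hsq p b with h' | h' <;> cases e <;> simp_all
    cases s
    · exact ⟨p, hle hp, (key p π hπ e he).1⟩
    · exact ⟨p * b, Subgroup.mul_mem _ (hle hp) hbc, (key p π hπ e he).2⟩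

theorem Mod.dbl2 [Finite B] [Finite K] (h2 : (2 : K) ≠ 0) (hsq : ∀ b : B, ∃ k, b ^ 2 = H.sc k)
    {x : V} (hx : x ≠ 0) {W P : Type*} [AddCommGroup W] {act : P → W → W}
    (M : H.Mod x (H.St x) act)
    (h : ¬ ∀ ω η : B ⧸ H.Pc x, orderOf ω = 2 → orderOf η = 2 → ω = η) :
    ∃ X, Nonempty (H.Mod x X (act2 (act2 act))) := by
  push Not at h
  obtain ⟨ω, η, hω, hη, hne⟩ := h
  obtain ⟨c, rfl⟩ := QuotientGroup.mk_surjective ω
  obtain ⟨d, rfl⟩ := QuotientGroup.mk_surjective η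
  have hn : ∀ c : B, orderOf (c : B ⧸ H.Pc x) = 2 → c ∉ H.Pc x := by
    intro c hc h
    rw [(QuotientGroup.eq_one_iff c).2 h, orderOf_one] at hc
    omega
  obtain ⟨a, ha, b, hax, hab, hb, hbc⟩ := H.exists_qubit h2 hsq hx M.hZ M.hX (hn c hω)
  obtain ⟨M₁⟩ := Mod.dbl H h2 hsq hx M ha hax hab hb
  obtain ⟨a', ha', b', hax', hab', hb', -⟩ := H.exists_qubit h2 hsq hx M₁.hZ M₁.hX (c := d) (by
    intro hd
    rcases H.cent_Rel hsq ha hab hd with h | h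
    · exact hn d hη h
    · have h1 : (d : B ⧸ H.Pc x) = b := by
        rw [← mul_inv_eq_one, ← QuotientGroup.mk_inv, ← QuotientGroup.mk_mul,
          QuotientGroup.eq_one_iff]
        exact h
      have h3 : (b : B ⧸ H.Pc x) = c := by
        rw [← mul_inv_eq_one, ← QuotientGroup.mk_inv, ← QuotientGroup.mk_mul,
          QuotientGroup.eq_one_iff]
        exact H.St_le_Pc hx hbc
      exact hne (h1.trans h3).symm)
  exact ⟨_, Mod.dbl H h2 hsq hx M₁ ha' hax' hab' hb'⟩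

section
variable {H} {x₀ : V} {X : Subgroup B} {W P : Type*} [AddCommGroup W] {act : P → W → W}
  (M : H.Mod x₀ X act) {p : ℕ} {std : List W} {co : W → List ℕ} {x : W} {a : Fin 4 → W}

theorem Mod.ne0 {w : W} (hw : w ≠ 0) : M.Φ w ≠ 0 :=
  fun h => hw ((injective_iff_map_eq_zero _).1 M.inj w h)

theorem Mod.scal (hK : ∀ k : K, ∃ n ∈ List.range p, k = n) {q : B} {π : P}
    (hq : ∀ w, q • M.Φ w = M.Φ (act π w)) {w : W} (h : q ∈ H.St (M.Φ w)) :
    ∃ n ∈ List.range p, act π w = n • w := by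
  obtain ⟨k, hk⟩ := h
  obtain ⟨n, hn, hkn⟩ := hK k
  exact ⟨n, hn, M.inj (by rw [← hq, hk, hkn, map_nsmul, Nat.cast_smul_eq_nsmul])⟩

theorem Mod.St_eq [Finite B] (hK : ∀ k : K, ∃ n ∈ List.range p, k = n)
    (hC : Cols act p std x a) : H.St (M.Φ x) = X := by
  have hx : M.Φ x ≠ 0 := M.ne0 (hC.a0 ▸ hC.ne0 0)
  have hle : X ≤ H.St (M.Φ x) := H.le_St_of_mem_Eig M.hX (M.eig x)
  refine le_antisymm (fun b hb => ?_) hle
  obtain ⟨π, hπ⟩ := M.rep b (H.mem_cent.2 fun t ht => H.St_cm hx (hle ht) hb)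
  refine H.mem_of_cm M.hZ fun q hq => ?_
  obtain ⟨π', hπ'⟩ := M.rep q hq
  have h1 := H.cm_smul q b (M.Φ x)
  have h3 : q • b • M.Φ x = b • q • M.Φ x := by
    rw [hπ, hπ', hπ', hπ, hC.free π (M.scal hK hπ hb)]
  refine unit_eq (v := b • q • M.Φ x) (by rwa [Ne, smul_eq_zero_iff_eq, smul_eq_zero_iff_eq]) ?_
  rw [← h1, h3, Units.val_one, one_smul]

theorem Mod.exists_ind [Finite B] (hK : ∀ k : K, ∃ n ∈ List.range p, k = n) (hco : Coord std co)
    (hC : Cols act p std x a) {g : G} (hg : g • M.Φ x = M.Φ x) :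
    ∃ T : W →+ W, Nrm act x T ∧ ∀ w, g • M.Φ w = M.Φ (T w) := by
  have hP : ∀ π, ∃ π', ∀ w w', g • M.Φ w = M.Φ w' → g • M.Φ (act π w) = M.Φ (act π' w') := by
    intro π
    obtain ⟨q, hq, hπ⟩ := M.real π
    have := H.alpha_mem_Pc hg (p := q) (by rw [Pc, M.St_eq hK hC]; exact hq)
    rw [Pc, M.St_eq hK hC] at this
    obtain ⟨π', hπ'⟩ := M.rep _ this
    exact ⟨π', fun w w' h => by rw [← hπ, H.compat, h, hπ']⟩
  have hex : ∀ w, ∃ w', g • M.Φ w = M.Φ w' := by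
    let S : AddSubgroup W :=
      M.Φ.range.comap ((DistribMulAction.toAddMonoidHom V g).comp M.Φ)
    obtain ⟨l, cs, hl⟩ := hC.span
    intro w
    have : w ∈ S := by
      rw [← (hco w).1]
      refine comb_mem S _ _ fun e he => ?_
      rw [hl, List.mem_map] at he
      obtain ⟨c, -, rfl⟩ := he
      refine comb_mem S _ _ fun e he => ?_
      obtain ⟨π, -, rfl⟩ := List.mem_map.1 he
      obtain ⟨π', hπ'⟩ := hP π
      exact ⟨_, (hπ' x x hg).symm⟩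
    obtain ⟨w', hw'⟩ := this
    exact ⟨w', hw'.symm⟩
  choose T hT using hex
  refine ⟨AddMonoidHom.mk' T fun u v => M.inj ?_, ⟨M.inj ?_, fun π => ?_⟩, hT⟩
  · rw [← hT, map_add, map_add, smul_add, hT, hT]
  · exact (hT x).symm.trans hg
  · obtain ⟨π', hπ'⟩ := hP π
    exact ⟨π', fun w => M.inj ((hT _).symm.trans (hπ' w _ (hT w)))⟩

theorem Mod.base2 [Finite B] (hsq : ∀ b : B, ∃ k, b ^ 2 = H.sc k)
    (hK : ∀ k : K, ∃ n ∈ List.range p, k = n) (hC : Cols act p std x a) (y : W)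
    (hy : ∀ g : G, g • M.Φ x = M.Φ x → g • M.Φ y = M.Φ y → ∀ w, g • M.Φ w = M.Φ w) :
    ∃ x y : V, ∀ g : G, g • x = x → g • y = y → H.α g = 1 := by
  have hx : M.Φ x ≠ 0 := M.ne0 (hC.a0 ▸ hC.ne0 0)
  have hSt := M.St_eq hK hC
  have hPc : H.Pc (M.Φ x) = Subgroup.centralizer (X : Set B) := by rw [Pc, hSt]
  have hE : ∀ w, M.Φ w ∈ H.Eig (H.St (M.Φ x)) (M.Φ x) := fun w => by
    rw [hSt, H.Eig_eq M.hX (M.eig x) hx]
    exact M.eig w
  refine ⟨M.Φ x, H.base2_block hsq hx (fun c => M.Φ (a c)) (fun c => hE _)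
    (fun c => M.ne0 (hC.ne0 c)) (fun q _ h => by rwa [hC.a0] at h) (fun c c' q hq h => ?_)
    (fun c c' hc q hq h h' => ?_) (hE y) fun g h1 h2 => ⟨fun q hq => ?_, fun c => hy g h1 h2 _⟩⟩
  · obtain ⟨π, hπ⟩ := M.rep q (hPc ▸ hq)
    exact hC.ineq c c' π (M.inj (by rw [← hπ, h]))
  · obtain ⟨π, hπ⟩ := M.rep q (hPc ▸ hq)
    obtain ⟨n, -, hn⟩ := hC.dis c c' hc π (M.scal hK hπ h) (M.scal hK hπ h')
    exact H.mem_St_of hx (k := (n : K)) (by rw [hπ, hn, map_nsmul, Nat.cast_smul_eq_nsmul])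
  · obtain ⟨π, hπ⟩ := M.rep q (hPc ▸ hq)
    rw [hπ, hy g h1 h2]

theorem Mod.sol [Finite B] (hK : ∀ k : K, ∃ n ∈ List.range p, k = n) (hco : Coord std co)
    (hC : Cols act p std x a) {y : W} {Sol : List (List W)}
    (hS : ∀ T : W →+ W, Nrm act x T → T y = y → ∃ f ∈ Sol, ∀ w, T w = comb (co w) f)
    {g : G} (hg : g • M.Φ x = M.Φ x) (hy : g • M.Φ y = M.Φ y) :
    ∃ f ∈ Sol, ∀ w, g • M.Φ w = M.Φ (comb (co w) f) := by
  obtain ⟨T, hT, h⟩ := M.exists_ind hK hco hC hg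
  obtain ⟨f, hf, h'⟩ := hS T hT (M.inj (by rw [← h, hy]))
  exact ⟨f, hf, fun w => by rw [h, h']⟩

theorem Mod.alt [Finite B] (hK : ∀ k : K, ∃ n ∈ List.range p, k = n) (hco : Coord std co)
    (hC : Cols act p std x a) {y : W} {Sol : List (List W)}
    (hS : ∀ T : W →+ W, Nrm act x T → T y = y → ∃ f ∈ Sol, ∀ w, T w = comb (co w) f) :
    (∀ g : G, g • M.Φ x = M.Φ x → g • M.Φ y = M.Φ y → ∀ w, g • M.Φ w = M.Φ w) ∨
      ∃ f ∈ Sol, f ≠ std ∧ ∃ g : G, ∀ w, g • M.Φ w = M.Φ (comb (co w) f) := by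
  by_contra hn
  push Not at hn
  obtain ⟨⟨g, h1, h2, w, hw⟩, h⟩ := hn
  obtain ⟨f, hf, h'⟩ := M.sol hK hco hC hS h1 h2
  obtain ⟨w', hw'⟩ := h f hf (by
    rintro rfl
    exact hw (by rw [h', (hco w).1])) g
  exact hw' (h' w')

theorem Mod.not_bad [Finite G] (h3 : (Nat.card G).Coprime 3) {f f' : List W} {g g' : G}
    (h : ∀ w, g • M.Φ w = M.Φ (comb (co w) f)) (h' : ∀ w, g' • M.Φ w = M.Φ (comb (co w) f')) :
    ¬ Bad std co f f' := by
  rintro ⟨w, -, h1, h2⟩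
  have e : ∀ w, (g * g' * (g * g')) • M.Φ w = M.Φ (sqp co f f' w) := fun w => by
    simp only [mul_smul, h, h', sqp]
  generalize g * g' * (g * g') = c at e
  apply h2
  apply M.inj
  have h4 : c ^ 3 ∈ MulAction.stabilizer G (M.Φ w) := by
    rw [MulAction.mem_stabilizer_iff, pow_three, mul_smul, mul_smul, e, e, e, h1]
  obtain ⟨m, hm⟩ := exists_pow_eq_self_of_coprime (x := c) (n := 3)
    (Nat.Coprime.coprime_dvd_right (orderOf_dvd_natCard c) h3.symm)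
  rw [← e, ← hm]
  exact Subgroup.pow_mem _ h4 m

end

theorem mod_plus {p : ℕ} (e : ZMod p ≃+* K) {x : V} (hx : x ≠ 0) (hP : H.Pc x = H.St x)
    {P : Type*} (act : P → ZMod p → ZMod p) (h1 : ∀ π w, act π w = act π 1 * w)
    (h2 : ∀ π, act π 1 ≠ 0) (h3 : ∀ n, n ≠ 0 → ∃ π, act π 1 = n) :
    Nonempty (H.Mod x (H.St x) act) := by
  let Φ : ZMod p →+ V := AddMonoidHom.mk' (fun n => e n • x) fun a b => by rw [map_add, add_smul]
  have hΦ : ∀ n, Φ n = e n • x := fun _ => rfl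
  refine ⟨⟨Φ, fun a b h => e.injective (smul_left_injective K hx h), H.sc_mem_St x, le_rfl,
    fun w => Submodule.smul_mem _ _ (H.self_mem_Eig _ _), fun q hq => ?_, fun π => ?_⟩⟩
  · obtain ⟨k, hk⟩ := hP ▸ (show q ∈ H.Pc x from hq)
    obtain ⟨π, hπ⟩ := h3 (e.symm k) (by simp)
    refine ⟨π, fun w => ?_⟩
    rw [hΦ, hΦ, H.lin, hk, h1, hπ, map_mul, RingEquiv.apply_symm_apply, mul_comm, mul_smul]
  · refine ⟨H.sc (Units.mk0 (e (act π 1)) (by simpa using h2 π)), H.sc_mem_cent _ _, fun w => ?_⟩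
    rw [hΦ, hΦ, H.sc_smul, h1 π w, map_mul, mul_smul, Units.val_mk0]

end Heis

end Cfsg.Agent.H11
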