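import Cfsg.Agent.H11.FxInd

set_option autoImplicit false

/-! Gelfand-Kazhdan multiplicity one for the nonsplit torus of `GL₂(p)` in every characteristic. -/

namespace Cfsg.Agent.H11.Fx

open Module LinearMap

variable {K V : Type*} [Field K] [AddCommGroup V] [Module K V] {G : Type*} [Group G]

theorem Irr.range_orbit {ρ : Representation K G V} (hi : Irr ρ) {v : V} (hv : v ≠ 0) :
    range (Finsupp.linearCombination K fun g => ρ g v) = ⊤ := by
  rw [Finsupp.range_linearCombination]
  refine (hi _ fun g w hw => ?_).resolve_left fun e => hv ?_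
  · refine Submodule.span_induction (fun _ ⟨h, e⟩ => Submodule.subset_span ⟨g * h, by
      rw [← e]; simp⟩) (by simp) (fun a b _ _ ha hb => by rw [map_add]; exact add_mem ha hb)
      (fun c a _ ha => by rw [map_smul]; exact Submodule.smul_mem _ _ ha) hw
  · have : v ∈ Submodule.span K (Set.range fun g => ρ g v) := Submodule.subset_span ⟨1, by simp⟩
    rwa [e] at this

theorem Irr.eq_zero_of_forall {ρ : Representation K G V} (hi : Irr ρ) {l : V →ₗ[K] K}
    (hl : l ≠ 0) {y : V} (h : ∀ g, l (ρ g y) = 0) : y = 0 := by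
  let W : Submodule K V := ⨅ g, ker (l ∘ₗ ρ g)
  have hW : ∀ y, y ∈ W ↔ ∀ g, l (ρ g y) = 0 := fun y => by simp [W]
  rcases hi W (fun g w hw => (hW _).2 fun k => by
    have := (hW _).1 hw (k * g); simpa using this) with e | e
  · have := (hW y).2 h
    rwa [e] at this
  · exact absurd (LinearMap.ext fun v => by
      simpa using (hW v).1 (e ▸ Submodule.mem_top) 1) hl

variable [FiniteDimensional K V] [IsAlgClosed K]

theorem Irr.scalar [Nontrivial V] {ρ : Representation K G V} (hi : Irr ρ) {z : G}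
    (hz : ∀ g, g * z = z * g) : ∃ c : K, ρ z = algebraMap K _ c := by
  obtain ⟨c, hc⟩ := End.exists_eigenvalue (ρ z)
  refine ⟨c, LinearMap.ext fun v => ?_⟩
  have := (hi (End.eigenspace (ρ z) c) fun g w hw => by
    rw [End.mem_eigenspace_iff] at hw ⊢
    rw [← End.mul_apply, ← map_mul, ← hz, map_mul, End.mul_apply, hw, map_smul]).resolve_left hc
  exact End.mem_eigenspace_iff.1 (this ▸ Submodule.mem_top)

theorem Irr.gk {ρ : Representation K G V} (hi : Irr ρ) (σ : G → G)
    (hσ : ∀ g h, σ (g * h) = σ h * σ g) (hs : Function.Surjective σ) (s : G)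
    (hc : ∀ g, ∃ n : ℕ, σ g * s ^ n = s ^ n * g) (a : K) : nul (ρ s - algebraMap K _ a) ≤ 1 := by
  set E := ker (ρ s - algebraMap K (End K V) a) with hE
  have mE : ∀ v, v ∈ E ↔ ρ s v = a • v := fun v => by
    rw [hE, mem_ker, LinearMap.sub_apply, sub_eq_zero]; rfl
  by_cases h0 : E = ⊥
  · rw [nul, ← hE, h0, finrank_bot]; omega
  obtain ⟨v, hv, hv0⟩ := (Submodule.ne_bot_iff E).1 h0
  have : Nontrivial V := nontrivial_of_ne v 0 hv0
  have ha : a ≠ 0 := fun e => hv0 (((End.isUnit_iff _).1 (isUnit_rep ρ s)).1 (by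
    rw [(mE v).1 hv, e, zero_smul, map_zero]))
  obtain ⟨l, hl, hl'⟩ := Submodule.exists_le_ker_of_lt_top (range (ρ s - algebraMap K _ a))
    (lt_top_iff_ne_top.2 fun e => h0 (ker_eq_bot_iff_range_eq_top.2 e))
  have l1 : ∀ y, l (ρ s y) = a * l y := fun y => by
    have := hl' (mem_range_self _ y)
    rw [mem_ker, LinearMap.sub_apply, map_sub, sub_eq_zero] at this
    rw [this]
    exact map_smul l a y
  have ln : ∀ (n : ℕ) y, l (ρ (s ^ n) y) = a ^ n * l y := fun n => by
    induction n with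
    | zero => simp
    | succ n ih => intro y; rw [pow_succ', map_mul, End.mul_apply, l1, ih]; ring
  have vn : ∀ w ∈ E, ∀ n : ℕ, ρ (s ^ n) w = a ^ n • w := fun w hw n => by
    induction n with
    | zero => simp
    | succ n ih => rw [pow_succ', map_mul, End.mul_apply, ih, map_smul, (mE w).1 hw, smul_smul,
        pow_succ]
  have fσ : ∀ w ∈ E, ∀ g, l (ρ (σ g) w) = l (ρ g w) := fun w hw g => by
    obtain ⟨n, hn⟩ := hc g
    have := congrArg (fun k => l (ρ k w)) hn
    simp only [map_mul, End.mul_apply] at this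
    rw [vn w hw, ln, map_smul, map_smul, smul_eq_mul] at this
    exact mul_left_cancel₀ (pow_ne_zero n ha) this
  let π : V → (G →₀ K) →ₗ[K] V := fun w => Finsupp.linearCombination K fun g => ρ g w
  let Λ : (G →₀ K) →ₗ[K] (V →ₗ[K] K) := Finsupp.linearCombination K fun g => l ∘ₗ ρ (σ g)
  have key : ∀ w ∈ E, ∀ b h, l (ρ h (π w b)) = Λ b (ρ (σ h) w) := fun w hw b h => by
    induction b using Finsupp.induction_linear with
    | zero => simp
    | add b c hb hc => simp only [map_add, LinearMap.add_apply, hb, hc]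
    | single g c =>
      simp only [π, Λ, Finsupp.linearCombination_single, map_smul, LinearMap.smul_apply, LinearMap.comp_apply]
      rw [← End.mul_apply, ← map_mul, ← fσ w hw, hσ, map_mul, End.mul_apply]
  have k1 : ∀ w ∈ E, ∀ b, Λ b = 0 → π w b = 0 := fun w hw b h =>
    hi.eq_zero_of_forall hl fun g => by rw [key w hw, h, LinearMap.zero_apply]
  have k2 : ∀ w ∈ E, w ≠ 0 → ∀ b, π w b = 0 → Λ b = 0 := fun w hw hw0 b h => by
    have e := hi.range_orbit hw0
    rw [Finsupp.range_linearCombination] at e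
    refine ext_on_range e fun g => ?_
    obtain ⟨g, rfl⟩ := hs g
    rw [← key w hw, h, map_zero, map_zero, LinearMap.zero_apply]
  obtain ⟨r, hr⟩ := (π v).exists_rightInverse_of_surjective (hi.range_orbit hv0)
  refine finrank_le_one (⟨v, hv⟩ : E) fun ⟨w, hw⟩ => ?_
  obtain ⟨c, hc⟩ := End.exists_eigenvalue (π w ∘ₗ r : End K V)
  obtain ⟨y, hy, hy0⟩ := hc.exists_hasEigenvector
  refine ⟨c, Subtype.ext ?_⟩
  by_contra hne
  have hm : w - c • v ∈ E := sub_mem hw (Submodule.smul_mem _ _ hv)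
  have e1 : π v (r y) = y := congr($hr y)
  have e2 : π (w - c • v) (r y) = 0 := by
    have : π (w - c • v) = π w - c • π v := by
      ext g; simp [π]
    rw [this, LinearMap.sub_apply, LinearMap.smul_apply, e1, sub_eq_zero]
    exact End.mem_eigenspace_iff.1 hy
  exact hy0 (e1 ▸ k1 v hv _ (k2 _ hm (sub_ne_zero.2 fun e => hne e.symm) _ e2))

section Torus

open Matrix QuadraticAlgebra

variable (p : ℕ) [hp : Fact p.Prime]

/-- an element of order three -/
def x3 (R : Type*) [CommRing R] : SpecialLinearGroup (Fin 2) R :=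
  ⟨!![0, -1; 1, -1], by simp [det_fin_two]⟩

theorem x3_val (R : Type*) [CommRing R] : (x3 R).1 = !![0, -1; 1, -1] := rfl

theorem x3_pow (R : Type*) [CommRing R] : x3 R ^ 3 = 1 := by
  ext i j
  fin_cases i <;> fin_cases j <;> simp [x3_val, pow_succ, Matrix.mul_apply, Fin.sum_univ_two]

theorem x3_ne_one (R : Type*) [CommRing R] [Nontrivial R] : x3 R ≠ 1 := fun e => by
  simpa [x3] using congrArg (fun g : SpecialLinearGroup (Fin 2) R => g 1 0) e

theorem no_root (h3 : p % 3 = 2) (r : ZMod p) : r ^ 2 ≠ -1 + (-1) * r := fun e => by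
  have h1 : r ^ 3 = 1 := by linear_combination (r - 1) * e
  have h2 : r ≠ 1 := fun e' => by
    have : ((3 : ℕ) : ZMod p) = 0 := by rw [e'] at e; push_cast; linear_combination e
    rw [ZMod.natCast_eq_zero_iff, Nat.prime_dvd_prime_iff_eq hp.out Nat.prime_three] at this
    omega
  have h0 : r ≠ 0 := fun e' => by simp [e'] at h1
  have := orderOf_dvd_of_pow_eq_one (ZMod.pow_card_sub_one_eq_one h0)
  rw [orderOf_eq_prime (hp := ⟨Nat.prime_three⟩) h1 h2] at this
  have := hp.out.two_le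
  omega

/-- the regular representation of `F[ω]` -/
def regM (F : Type*) [CommRing F] : QuadraticAlgebra F (-1) (-1) →* Matrix (Fin 2) (Fin 2) F where
  toFun z := !![z.re, -z.im; z.im, z.re - z.im]
  map_one' := by ext i j; fin_cases i <;> fin_cases j <;> simp
  map_mul' z w := by
    ext i j; fin_cases i <;> fin_cases j <;> simp [Matrix.mul_apply, Fin.sum_univ_two] <;> ring

local notation "E" p => QuadraticAlgebra (ZMod p) (-1) (-1)

theorem exists_torus (h3 : p % 3 = 2) : ∃ s : GL (Fin 2) (ZMod p),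
    (∀ α β : ZMod p, α ≠ 0 ∨ β ≠ 0 → ∃ n : ℕ, (s ^ n).val = !![α, -β; β, α - β]) ∧
    ∃ j : ℕ, ∀ g, g * (s ^ ((p + 1) / 3) * (x3 (ZMod p)).toGL ^ j) =
      (s ^ ((p + 1) / 3) * (x3 (ZMod p)).toGL ^ j) * g := by
  have : Fact (∀ r : ZMod p, r ^ 2 ≠ -1 + (-1) * r) := ⟨no_root p h3⟩
  have : Fintype (E p) := Fintype.ofEquiv _ (equivProd (-1 : ZMod p) (-1)).symm
  have hE : Fintype.card (E p) = p * p := by
    rw [Fintype.card_congr (equivProd (-1 : ZMod p) (-1)), Fintype.card_prod, ZMod.card]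
  have : CharP (E p) p := charP_of_injective_algebraMap (algebraMap (ZMod p) (E p)).injective p
  obtain ⟨γ, hγ⟩ := IsCyclic.exists_monoid_generator (α := (E p)ˣ)
  have w2 : (ω : (E p)) ^ 2 = -1 - ω := by ext <;> simp [pow_two]
  have w3 : (ω : (E p)) ^ 3 = 1 := by linear_combination (ω - 1) * w2
  have w0 : (ω : (E p)) ≠ 0 := fun e => by simp [e] at w3
  refine ⟨Units.map (regM _) γ, fun α β h => ?_, ?_⟩
  · have h0 : (⟨α, β⟩ : (E p)) ≠ 0 := fun e => by
      rcases h with h | h
      exacts [h (congrArg re e), h (congrArg im e)]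
    obtain ⟨n, hn⟩ := hγ (Units.mk0 _ h0)
    exact ⟨n, by rw [← map_pow]; simp only at hn; rw [hn]; rfl⟩
  obtain ⟨m, hm⟩ : ∃ m, p = 3 * m + 2 := ⟨p / 3, by omega⟩
  set δ : (E p) := (γ : (E p)) ^ ((p + 1) / 3) with hδ
  have d3 : (δ ^ (p - 1)) ^ 3 = 1 := by
    rw [hδ, ← pow_mul, ← pow_mul, ← FiniteField.pow_card_sub_one_eq_one (γ : (E p)) γ.ne_zero, hE]
    congr 1
    have a : (p + 1) / 3 = m + 1 := by omega
    have b : p - 1 = 3 * m + 1 := by omega
    rw [a, b, hm]
    refine Nat.eq_sub_of_add_eq ?_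
    ring
  have wp : (ω : (E p)) ^ (p - 1) = ω := by
    rw [show p - 1 = 3 * m + 1 by omega, pow_succ, pow_mul, w3, one_pow, one_mul]
  obtain ⟨j, hj⟩ : ∃ j : ℕ, δ ^ (p - 1) * ω ^ j = 1 := by
    have : (δ ^ (p - 1) - 1) * ((δ ^ (p - 1) - ω) * (δ ^ (p - 1) - ω ^ 2)) = 0 := by
      linear_combination d3 - (δ ^ (p - 1)) ^ 2 * w2 + δ ^ (p - 1) * w2 + (δ ^ (p - 1) - 1) * w3
    rcases mul_eq_zero.1 this with h | h
    · exact ⟨0, by rw [sub_eq_zero.1 h]; simp⟩
    rcases mul_eq_zero.1 h with h | h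
    · exact ⟨2, by rw [sub_eq_zero.1 h, ← pow_succ', w3]⟩
    · exact ⟨1, by rw [sub_eq_zero.1 h, ← pow_add, w3]⟩
  set e : (E p) := δ * ω ^ j with he
  have ep : e ^ p = e := by
    have : e ^ (p - 1) = 1 := by rw [he, mul_pow, ← pow_mul (ω : (E p)), mul_comm j, pow_mul, wp, hj]
    rw [← pow_sub_one_mul hp.out.ne_zero, this, one_mul]
  have eim : e.im = 0 := by
    have a : e = algebraMap _ (E p) e.re + algebraMap _ (E p) e.im * ω := by ext <;> simp
    have b : (ω : (E p)) ^ p = -1 - ω := by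
      rw [← pow_sub_one_mul hp.out.ne_zero, wp, ← pow_two, w2]
    rw [a, add_pow_char, mul_pow, ← map_pow, ← map_pow, ZMod.pow_card, ZMod.pow_card, b] at ep
    simpa using congrArg re ep
  refine ⟨j, fun g => Units.ext ?_⟩
  have hx : (x3 (ZMod p)).toGL = Units.map (regM _) (Units.mk0 _ w0) := by
    ext a b; fin_cases a <;> fin_cases b <;> simp [x3_val, regM]
  have : (Units.map (regM _) γ ^ ((p + 1) / 3) * (x3 (ZMod p)).toGL ^ j).val = regM _ e := by
    rw [hx, ← map_pow, ← map_pow, ← map_mul]; rfl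
  rw [Units.val_mul g, Units.val_mul _ g, this]
  ext a b
  fin_cases a <;> fin_cases b <;> simp [regM, eim, Matrix.mul_apply, Fin.sum_univ_two, mul_comm]

/-- the adjoint for a symmetric form making the torus self-adjoint -/
def sig {F : Type*} [Field F] (g : GL (Fin 2) F) : GL (Fin 2) F :=
  GeneralLinearGroup.mkOfDetNeZero !![g 0 0, -g 1 0; -g 0 1, g 1 1] (by
    have := g.det_ne_zero
    rw [det_fin_two] at this
    rw [det_fin_two_of]
    intro e
    exact this (by linear_combination e))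

theorem sig_val {F : Type*} [Field F] (g : GL (Fin 2) F) :
    (sig g).val = !![g 0 0, -g 1 0; -g 0 1, g 1 1] := rfl

theorem sig_mul {F : Type*} [Field F] (g h : GL (Fin 2) F) : sig (g * h) = sig h * sig g := by
  ext a b
  fin_cases a <;> fin_cases b <;> simp [sig_val, Matrix.mul_apply, Fin.sum_univ_two] <;> ring

theorem sig_sig {F : Type*} [Field F] (g : GL (Fin 2) F) : sig (sig g) = g := by
  ext a b
  fin_cases a <;> fin_cases b <;> simp [sig_val]

theorem nul_x3_le (h3 : p % 3 = 2) [Nontrivial V] {ρ : Representation K (GL (Fin 2) (ZMod p)) V}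
    (hi : Irr ρ) (a : K) : nul (ρ (x3 (ZMod p)).toGL - algebraMap K _ a) ≤ (p + 1) / 3 := by
  obtain ⟨s, hs, j, hj⟩ := exists_torus p h3
  have h1 := hi.gk sig sig_mul (fun g => ⟨_, sig_sig g⟩) s fun g => by
    by_cases h : g 1 1 - g 0 0 + g 1 0 ≠ 0 ∨ g 0 1 + g 1 0 ≠ 0
    · obtain ⟨n, hn⟩ := hs _ _ h
      refine ⟨n, Units.ext ?_⟩
      rw [Units.val_mul, Units.val_mul, hn, sig_val]
      ext a b
      fin_cases a <;> fin_cases b <;> simp [Matrix.mul_apply, Fin.sum_univ_two] <;> ring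
    · push Not at h
      refine ⟨0, Units.ext ?_⟩
      rw [pow_zero, mul_one, one_mul, sig_val]
      ext a b
      fin_cases a <;> fin_cases b <;> simp
      · linear_combination -h.2
      · linear_combination -h.2
  obtain ⟨c, hc⟩ := hi.scalar hj
  by_cases ha : a = 0
  · rw [ha, map_zero, sub_zero, nul_of_isUnit (isUnit_rep ρ _)]; omega
  refine le_trans (Submodule.finrank_mono fun v hv => ?_)
    (nul_pow_sub_le (ρ s) h1 (by omega) (c / a ^ j))
  have hv' : ρ (x3 (ZMod p)).toGL v = a • v := sub_eq_zero.1 hv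
  have hn : ∀ n : ℕ, (ρ (x3 (ZMod p)).toGL ^ n) v = a ^ n • v := fun n => by
    induction n with
    | zero => simp
    | succ n ih => rw [pow_succ', End.mul_apply, ih, map_smul, hv', smul_smul, pow_succ]
  have := congr($hc v)
  rw [map_mul, map_pow, map_pow, End.mul_apply, hn, map_smul] at this
  rw [mem_ker, LinearMap.sub_apply, sub_eq_zero]
  refine smul_right_injective V (pow_ne_zero j ha) ?_
  simp only [this, algebraMap_end_apply, smul_smul]
  rw [mul_div_cancel₀ _ (pow_ne_zero j ha)]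

end Torus

end Cfsg.Agent.H11.Fx
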