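import Cfsg.Agent.H11.FxRank

set_option autoImplicit false

/-! Superadditivity of ranks, reduction to simple modules, base change and induction. -/

namespace Cfsg.Agent.H11.Fx

open Module LinearMap

universe v

variable {K V : Type*} [Field K] [AddCommGroup V] [Module K V] {G : Type*} [Group G]

theorem rk_add_rk_le [FiniteDimensional K V] (W : Submodule K V) (T : End K V) (T₁ : End K W)
    (T₂ : End K (V ⧸ W)) (h₁ : ∀ w : W, (T₁ w : V) = T w) (h₂ : ∀ v, T₂ (W.mkQ v) = W.mkQ (T v)) :
    rk T₁ + rk T₂ ≤ rk T := by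
  have h := finrank_range_add_finrank_ker (W.mkQ.domRestrict (range T))
  have a : rk T₂ ≤ finrank K (range (W.mkQ.domRestrict (range T))) := by
    refine Submodule.finrank_mono ?_
    rintro _ ⟨q, rfl⟩
    obtain ⟨v, rfl⟩ := W.mkQ_surjective q
    exact ⟨⟨T v, v, rfl⟩, (h₂ v).symm⟩
  have b : rk T₁ ≤ finrank K (ker (W.mkQ.domRestrict (range T))) := by
    rw [rk, ← Submodule.finrank_map_subtype_eq W,
      ← Submodule.finrank_map_subtype_eq (range T) (ker _)]
    refine Submodule.finrank_mono ?_
    rintro _ ⟨_, ⟨w, rfl⟩, rfl⟩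
    refine ⟨⟨T w, w, rfl⟩, ?_, (h₁ w).symm⟩
    change W.mkQ (T w) = 0
    rw [← h₁, Submodule.mkQ_apply, Submodule.Quotient.mk_eq_zero]
    exact (T₁ w).2
  unfold rk at *
  omega

theorem asAlg_nat {V' : Type*} [AddCommGroup V'] [Module K V'] (ρ : Representation K G V)
    (ρ' : Representation K G V') (f : V →ₗ[K] V') (hf : ∀ g v, ρ' g (f v) = f (ρ g v))
    (b : MonoidAlgebra K G) (v : V) : ρ'.asAlgebraHom b (f v) = f (ρ.asAlgebraHom b v) := by
  induction b using MonoidAlgebra.induction_on with
  | of g => simp [hf]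
  | add a b ha hb => simp [ha, hb]
  | smul r a ha => simp [ha]

/-- no invariant subspace except `⊥` and `⊤` -/
def Irr (ρ : Representation K G V) : Prop :=
  ∀ W : Submodule K V, (∀ g, ∀ w ∈ W, ρ g w ∈ W) → W = ⊥ ∨ W = ⊤

/-- weighted sum of ranks -/
noncomputable def wrk (ρ : Representation K G V) (l : List (ℕ × MonoidAlgebra K G)) : ℕ :=
  (l.map fun e => e.1 * rk (ρ.asAlgebraHom e.2)).sum

theorem le_wrk_of_irr (c : ℕ) (l : List (ℕ × MonoidAlgebra K G))
    (h : ∀ (V : Type v) [AddCommGroup V] [Module K V] [FiniteDimensional K V] [Nontrivial V]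
      (ρ : Representation K G V), Irr ρ → c * finrank K V ≤ wrk ρ l)
    (V : Type v) [AddCommGroup V] [Module K V] [FiniteDimensional K V]
    (ρ : Representation K G V) : c * finrank K V ≤ wrk ρ l := by
  induction hn : finrank K V using Nat.strong_induction_on generalizing V with
  | _ n ih =>
  subst hn
  rcases subsingleton_or_nontrivial V with hV | hV
  · rw [finrank_zero_of_subsingleton]; omega
  by_cases hi : Irr ρ
  · exact h V ρ hi
  simp only [Irr, not_forall, not_or] at hi
  obtain ⟨W, hW, hb, ht⟩ := hi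
  have hW' : ∀ g, W ≤ W.comap (ρ g) := fun g w hw => hW g w hw
  have e := W.finrank_quotient_add_finrank
  have p1 : finrank K W < finrank K V := Submodule.finrank_lt ht
  have p2 : 0 < finrank K W := by
    rwa [Nat.pos_iff_ne_zero, Ne, Submodule.finrank_eq_zero]
  have i1 := ih _ p1 W (ρ.subrepresentation W hW') rfl
  have i2 := ih _ (by omega) (V ⧸ W) (ρ.quotient W hW') rfl
  have key : wrk (ρ.subrepresentation W hW') l + wrk (ρ.quotient W hW') l ≤ wrk ρ l := by
    clear i1 i2 h ih
    induction l with
    | nil => simp [wrk]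
    | cons a l ih =>
      have := rk_add_rk_le W (ρ.asAlgebraHom a.2) ((ρ.subrepresentation W hW').asAlgebraHom a.2)
        ((ρ.quotient W hW').asAlgebraHom a.2)
        (fun w => (asAlg_nat (ρ.subrepresentation W hW') ρ W.subtype (fun _ _ => rfl) _ w).symm)
        (fun v => asAlg_nat ρ (ρ.quotient W hW') W.mkQ (fun _ _ => rfl) _ v)
      have := Nat.mul_le_mul_left a.1 this
      simp only [wrk, List.map_cons, List.sum_cons] at ih ⊢
      rw [mul_add] at this
      omega
  rw [← e, mul_add]
  omega

open TensorProduct in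
theorem rk_le_rk_baseChange [FiniteDimensional K V] (L : Type*) [Field L] [Algebra K L]
    (T : End K V) : rk T ≤ rk (T.baseChange L) := by
  obtain ⟨A, hA⟩ := T.rangeRestrict.exists_rightInverse_of_surjective T.range_rangeRestrict
  obtain ⟨B, hB⟩ := (range T).subtype.exists_leftInverse_of_injective (range T).ker_subtype
  have e : B ∘ₗ T ∘ₗ A = LinearMap.id := by
    change B ∘ₗ (range T).subtype ∘ₗ (T.rangeRestrict ∘ₗ A) = _
    rw [hA, comp_id, hB]
  have e' := congrArg (LinearMap.baseChange L) e
  rw [baseChange_comp, baseChange_comp, baseChange_id] at e'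
  have h1 : finrank L (range (B.baseChange L ∘ₗ T.baseChange L ∘ₗ A.baseChange L)) = rk T := by
    rw [e', range_id, finrank_top, finrank_baseChange, rk]
  rw [← h1, range_comp]
  refine (Submodule.finrank_map_le _ _).trans (Submodule.finrank_mono (range_comp_le_range _ _))

open TensorProduct in
/-- extension of scalars -/
noncomputable def bc (L : Type*) [Field L] [Algebra K L] (ρ : Representation K G V) :
    Representation L G (L ⊗[K] V) where
  toFun g := (ρ g).baseChange L
  map_one' := by rw [map_one, baseChange_one]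
  map_mul' g h := by rw [map_mul, baseChange_mul]

theorem Small.bc [FiniteDimensional K V] (L : Type*) [Field L] [Algebra K L]
    {ρ : Representation K G V} (h : Small ρ) : Small (bc L ρ) := fun g hg => by
  have h1 := h g hg
  have h2 := rk_le_rk_baseChange L (ρ g - 1)
  have h3 := rk_add_nul (ρ g - 1)
  have h4 := rk_add_nul ((ρ g - 1).baseChange L)
  have h5 : fx (Fx.bc L ρ) g = nul ((ρ g - 1).baseChange L) := by
    rw [baseChange_sub, baseChange_one]; rfl
  rw [finrank_baseChange] at h4 ⊢
  unfold fx at h1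
  omega

section Induced

variable {N : Type*} [Group N] (f : N →* G) (hf : Function.Injective f)

theorem out_mem (g : G) (q : G ⧸ f.range) : q.out⁻¹ * g * (g⁻¹ • q).out ∈ f.range := by
  have : (QuotientGroup.mk (g⁻¹ * q.out) : G ⧸ f.range) = QuotientGroup.mk (g⁻¹ • q).out := by
    rw [QuotientGroup.out_eq', ← smul_eq_mul, ← MulAction.Quotient.smul_mk, QuotientGroup.out_eq']
  simpa [mul_assoc] using QuotientGroup.eq.1 this

/-- the cocycle of the induced module -/
noncomputable def coc (g : G) (q : G ⧸ f.range) : N :=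
  (MonoidHom.ofInjective hf).symm ⟨_, out_mem f g q⟩

theorem f_coc (g : G) (q : G ⧸ f.range) : f (coc f hf g q) = q.out⁻¹ * g * (g⁻¹ • q).out :=
  MonoidHom.apply_ofInjective_symm hf _

/-- the induced module -/
noncomputable def indu (ρ : Representation K N V) : Representation K G (G ⧸ f.range → V) where
  toFun g := LinearMap.pi fun q => ρ (coc f hf g q) ∘ₗ LinearMap.proj (g⁻¹ • q)
  map_one' := by
    ext w q
    have : coc f hf 1 q = 1 := hf (by rw [f_coc]; simp)
    simp [this]
  map_mul' g h := by
    refine LinearMap.ext fun w => funext fun q => ?_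
    have : coc f hf (g * h) q = coc f hf g q * coc f hf h (g⁻¹ • q) := hf (by
      rw [map_mul, f_coc, f_coc, f_coc, mul_inv_rev, mul_smul]; group)
    simp [this, mul_smul]

theorem Small.indu [Finite G] [FiniteDimensional K V] (hn : f.range.Normal)
    {ρ : Representation K N V} (h : Small ρ) : Small ((indu f hf ρ).comp f) := fun g hg => by
  have := Fintype.ofFinite (G ⧸ f.range)
  have hq : ∀ q : G ⧸ f.range, (f g)⁻¹ • q = q := fun q => by
    obtain ⟨a, rfl⟩ := QuotientGroup.mk_surjective q
    rw [MulAction.Quotient.smul_mk, smul_eq_mul, eq_comm, QuotientGroup.eq]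
    simpa [mul_assoc] using hn.conj_mem _ (inv_mem (⟨g, rfl⟩ : f g ∈ f.range)) a⁻¹
  have h1 : ∀ q, coc f hf (f g) q ≠ 1 := fun q e => by
    have := f_coc f hf (f g) q
    rw [e, hq, map_one, eq_comm, mul_assoc, inv_mul_eq_one, eq_comm, mul_eq_right] at this
    exact hg (hf (this.trans f.map_one.symm))
  let φ : ker ((Fx.indu f hf ρ) (f g) - 1) →ₗ[K] (∀ q, ker (ρ (coc f hf (f g) q) - 1)) :=
    LinearMap.pi fun q => ((LinearMap.proj q).domRestrict _).codRestrict _ fun w => by
      have := congrFun (mem_ker.1 w.2) q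
      change ρ (coc f hf (f g) q) (w.1 ((f g)⁻¹ • q)) - w.1 q = 0 at this
      rw [hq] at this
      exact this
  have hφ : Function.Injective φ := fun a b e => Subtype.ext (funext fun q =>
    congrArg Subtype.val (congrFun e q))
  have h2 := finrank_le_finrank_of_injective hφ
  rw [finrank_pi_fintype] at h2
  rw [finrank_pi_fintype]
  calc 6 * fx ((Fx.indu f hf ρ).comp f) g ≤ 6 * ∑ q, fx ρ (coc f hf (f g) q) :=
        Nat.mul_le_mul_left 6 h2
    _ = ∑ q, 6 * fx ρ (coc f hf (f g) q) := Finset.mul_sum _ _ _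
    _ < _ := Finset.sum_lt_sum_of_nonempty Finset.univ_nonempty fun q _ => h _ (h1 q)

end Induced

/-- rank of an operator diagonal in a basis -/
theorem rk_diag {ι : Type*} [Fintype ι] [DecidableEq K] (b : Basis ι K V) (T : End K V) (c : ι → K)
    (h : ∀ i, T (b i) = c i • b i) : rk T = (Finset.univ.filter fun i => c i ≠ 0).card := by
  classical
  have e : range T = Submodule.span K (Set.range fun i : {i // c i ≠ 0} => b i) := by
    refine le_antisymm ?_ (Submodule.span_le.2 ?_)
    · rw [range_eq_map, ← b.span_eq, Submodule.map_span, Submodule.span_le]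
      rintro _ ⟨_, ⟨i, rfl⟩, rfl⟩
      rw [h]
      by_cases hc : c i = 0
      · simp [hc]
      · exact Submodule.smul_mem _ _ (Submodule.subset_span ⟨⟨i, hc⟩, rfl⟩)
    · rintro _ ⟨i, rfl⟩
      exact ⟨(c i)⁻¹ • b i, by rw [map_smul, h, smul_smul, inv_mul_cancel₀ i.2, one_smul]⟩
  rw [rk, e, ← Fintype.card_subtype]
  exact finrank_span_eq_card (b.linearIndependent.comp _ Subtype.val_injective)

/-- an operator with eigenspaces of dimension at most one -/
theorem nul_pow_sub_le [FiniteDimensional K V] [IsAlgClosed K] (T : End K V)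
    (h : ∀ a : K, nul (T - algebraMap K _ a) ≤ 1) {n : ℕ} (hn : 0 < n) (c : K) :
    nul (T ^ n - algebraMap K _ c) ≤ n := by
  open Polynomial in
  have hm : (X ^ n - C c : K[X]).Monic := monic_X_pow_sub_C c hn.ne'
  have e := (IsAlgClosed.splits (X ^ n - C c : K[X])).eq_prod_roots_of_monic hm
  have hc := (IsAlgClosed.splits (X ^ n - C c : K[X])).natDegree_eq_card_roots
  rw [natDegree_X_pow_sub_C] at hc
  have e' := congrArg (aeval T) e
  simp only [map_sub, map_pow, aeval_X, aeval_C] at e'
  rw [e', ← Multiset.coe_toList (roots _), Multiset.map_coe, Multiset.prod_coe, map_list_prod]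
  refine (nul_prod_le _).trans ?_
  rw [List.map_map, List.map_map]
  refine (List.sum_le_card_nsmul _ 1 ?_).trans (by simp [← hc])
  intro x hx
  obtain ⟨a, -, rfl⟩ := List.mem_map.1 hx
  simpa using h a

end Cfsg.Agent.H11.Fx
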