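import Mathlib

set_option autoImplicit false

/-! Rank inequalities for fixed spaces of group elements on a module over an arbitrary field. -/

namespace Cfsg.Agent.H11.Fx

open Module LinearMap

variable {K V : Type*} [Field K] [AddCommGroup V] [Module K V]

/-- nullity -/
noncomputable def nul (T : End K V) : ℕ := finrank K (ker T)

/-- rank -/
noncomputable def rk (T : End K V) : ℕ := finrank K (range T)

variable {G : Type*} [Group G]

/-- dimension of the fixed space of `g` -/
noncomputable def fx (ρ : Representation K G V) (g : G) : ℕ := nul (ρ g - 1)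

/-- every nonidentity element fixes less than a sixth of the space -/
def Small (ρ : Representation K G V) : Prop := ∀ g : G, g ≠ 1 → 6 * fx ρ g < finrank K V

theorem Small.comp {H : Type*} [Group H] {ρ : Representation K G V} (h : Small ρ) (f : H →* G)
    (hf : Function.Injective f) : Small (ρ.comp f) := fun g hg =>
  h (f g) fun e => hg (hf (e.trans f.map_one.symm))

variable [FiniteDimensional K V]

theorem rk_add_nul (T : End K V) : rk T + nul T = finrank K V := finrank_range_add_finrank_ker T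

theorem rk_mul_le_left (S T : End K V) : rk (S * T) ≤ rk S :=
  Submodule.finrank_mono (range_comp_le_range T S)

theorem rk_mul_le_right (S T : End K V) : rk (S * T) ≤ rk T := by
  have h : nul T ≤ nul (S * T) := Submodule.finrank_mono (ker_le_ker_comp T S)
  have := rk_add_nul T
  have := rk_add_nul (S * T)
  omega

theorem rk_add_le (S T : End K V) : rk (S + T) ≤ rk S + rk T := by
  refine le_trans (Submodule.finrank_mono (?_ : range (S + T) ≤ range S ⊔ range T)) ?_
  · rintro _ ⟨v, rfl⟩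
    exact Submodule.add_mem_sup (mem_range_self S v) (mem_range_self T v)
  · exact Submodule.finrank_add_le_finrank_add_finrank _ _

omit [FiniteDimensional K V] in
theorem rk_neg (S : End K V) : rk (-S) = rk S := by rw [rk, range_neg, rk]

theorem rk_sub_le (S T : End K V) : rk (S - T) ≤ rk S + rk T := by
  rw [sub_eq_add_neg, ← rk_neg T]; exact rk_add_le _ _

theorem nul_mul_le (S T : End K V) : nul (S * T) ≤ nul S + nul T := by
  have h1 := finrank_range_add_finrank_ker (T.domRestrict (ker (S * T)))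
  have h2 : finrank K (range (T.domRestrict (ker (S * T)))) ≤ nul S := by
    refine Submodule.finrank_mono ?_
    rintro _ ⟨⟨v, hv⟩, rfl⟩
    exact hv
  have h3 : finrank K (ker (T.domRestrict (ker (S * T)))) ≤ nul T := by
    rw [← Submodule.finrank_map_subtype_eq]
    refine Submodule.finrank_mono ?_
    rintro _ ⟨⟨v, hv⟩, h, rfl⟩
    exact h
  unfold nul at *
  omega

theorem rk_le_nul {S T : End K V} (h : S * T = 0) : rk T ≤ nul S :=
  Submodule.finrank_mono (range_le_ker_iff.2 h)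

omit [FiniteDimensional K V] in
theorem nul_zero : nul (0 : End K V) = finrank K V := by rw [nul, ker_zero, finrank_top]

theorem le_nul_add_nul {S T : End K V} (h : S * T = 0) : finrank K V ≤ nul S + nul T := by
  rw [← nul_zero, ← h]; exact nul_mul_le S T

omit [FiniteDimensional K V] in
theorem nul_of_isUnit {S : End K V} (h : IsUnit S) : nul S = 0 := by
  rw [nul, (isUnit_iff_ker_eq_bot' h), finrank_bot]
where
  isUnit_iff_ker_eq_bot' {S : End K V} (h : IsUnit S) : ker S = ⊥ :=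
    ker_eq_bot.2 ((End.isUnit_iff S).1 h).1

omit [FiniteDimensional K V] in
theorem isUnit_rep (ρ : Representation K G V) (g : G) : IsUnit (ρ g) := (Group.isUnit g).map ρ

theorem nul_mul_unit_le (S : End K V) {T : End K V} (h : IsUnit T) : nul (S * T) ≤ nul S := by
  have := nul_mul_le S T; rw [nul_of_isUnit h] at this; exact this

theorem nul_unit_mul_le (S : End K V) {T : End K V} (h : IsUnit T) : nul (T * S) ≤ nul S := by
  have := nul_mul_le T S; rw [nul_of_isUnit h] at this; omega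

theorem nul_prod_le (l : List (End K V)) : nul l.prod ≤ (l.map nul).sum := by
  induction l with
  | nil => simp [nul_of_isUnit]
  | cons a l ih =>
    rw [List.prod_cons, List.map_cons, List.sum_cons]
    have := nul_mul_le a l.prod
    omega

theorem nul_pow_le (T : End K V) (n : ℕ) : nul (T ^ n) ≤ n * nul T := by
  have := nul_prod_le (List.replicate n T)
  simpa using this

/-- two subspaces: the dimension of the intersection -/
theorem finrank_add_le_inf (A B : Submodule K V) :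
    finrank K A + finrank K B ≤ finrank K ↥(A ⊓ B) + finrank K V := by
  have := Submodule.finrank_sup_add_finrank_inf_eq A B
  have := Submodule.finrank_le (A ⊔ B)
  omega

/-- the norm `1 + x + x²` -/
def nm (ρ : Representation K G V) (x : G) : End K V := 1 + ρ x + ρ x * ρ x

theorem rk_nm_le (ρ : Representation K G V) {x : G} (hx : x ^ 3 = 1) : rk (nm ρ x) ≤ fx ρ x := by
  refine rk_le_nul ?_
  have h : ρ x * ρ x * ρ x = 1 := by
    rw [← map_mul, ← map_mul, ← pow_three' x, hx, map_one]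
  unfold nm
  rw [show (ρ x - 1) * (1 + ρ x + ρ x * ρ x) = ρ x * ρ x * ρ x - 1 by noncomm_ring, h, sub_self]

/-- Two involutions. -/
theorem two_inv (ρ : Representation K G V) {z y : G} (hz : z * z = 1) (hy : y * y = 1) :
    finrank K V ≤ fx ρ z + fx ρ y + fx ρ (z * y) := by
  have key : ∀ {z : G}, z * z = 1 → finrank K V ≤ fx ρ z + nul (ρ z + 1) := fun {z} hz => by
    refine le_nul_add_nul ?_
    rw [show (ρ z - 1) * (ρ z + 1) = ρ z * ρ z - 1 by noncomm_ring, ← map_mul, hz, map_one, sub_self]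
  have h1 := key hz
  have h2 := key hy
  have h3 := finrank_add_le_inf (ker (ρ z + 1)) (ker (ρ y + 1))
  have h4 : finrank K ↥(ker (ρ z + 1) ⊓ ker (ρ y + 1)) ≤ fx ρ (z * y) := by
    refine Submodule.finrank_mono fun v hv => ?_
    have a : ρ z v = -v := eq_neg_of_add_eq_zero_left hv.1
    have b : ρ y v = -v := eq_neg_of_add_eq_zero_left hv.2
    simp [a, b]
  unfold nul at h1 h2
  omega

theorem Small.inv_unique {ρ : Representation K G V} (h : Small ρ) {z y : G} (hz : z * z = 1)
    (hz1 : z ≠ 1) (hy : y * y = 1) (hy1 : y ≠ 1) : z = y := by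
  by_contra hne
  have := two_inv ρ hz hy
  have := h z hz1
  have := h y hy1
  have := h (z * y) fun e => hne (by
    rw [← mul_left_cancel_iff (a := z), hz, e])
  omega

open scoped IsMulCommutative in
theorem comm_lift {A B : End K V} (h : Commute A B) :
    ∃ (R : Subalgebra K (End K V)) (_ : IsMulCommutative R), A ∈ R ∧ B ∈ R := by
  refine ⟨Algebra.adjoin K {A, B}, Algebra.isMulCommutative_adjoin K ?_,
    Algebra.subset_adjoin (by simp), Algebra.subset_adjoin (by simp)⟩
  rintro x (rfl | rfl) y (rfl | rfl)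
  exacts [rfl, h, h.symm, rfl]

theorem rel_three {R : Type*} [CommRing R] (A B : R) (hA : A ^ 3 = 1) (hB : B ^ 3 = 1) :
    (B - 1) * ((A - 1) * ((A * B - 1) * (A * B ^ 2 - 1))) = 0 := by
  grind

theorem rel_five {R : Type*} [CommRing R] (A B : R) (hA : A ^ 5 = 1) (hB : B ^ 5 = 1) :
    (B - 1) * ((A - 1) * ((A * B - 1) * ((A * B ^ 2 - 1) * ((A * B ^ 3 - 1) *
      (A * B ^ 4 - 1))))) = 0 := by
  grind

open scoped IsMulCommutative in
theorem three_three (ρ : Representation K G V) {a b : G} (h : Commute a b) (ha : a ^ 3 = 1)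
    (hb : b ^ 3 = 1) :
    finrank K V ≤ fx ρ b + (fx ρ a + (fx ρ (a * b) + fx ρ (a * b ^ 2))) := by
  obtain ⟨R, _, hA, hB⟩ := comm_lift (h.map ρ)
  have e := congrArg Subtype.val (rel_three (⟨_, hA⟩ : R) ⟨_, hB⟩
    (Subtype.ext (by simp [← map_pow, ha])) (Subtype.ext (by simp [← map_pow, hb])))
  have e' : (ρ b - 1) * ((ρ a - 1) * ((ρ (a * b) - 1) * (ρ (a * b ^ 2) - 1))) = 0 := by
    simp only [map_mul, map_pow]
    exact e
  have h1 := le_nul_add_nul e'
  have h2 := nul_mul_le (ρ a - 1) ((ρ (a * b) - 1) * (ρ (a * b ^ 2) - 1))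
  have h3 := nul_mul_le (ρ (a * b) - 1) (ρ (a * b ^ 2) - 1)
  unfold fx
  omega

open scoped IsMulCommutative in
theorem five_five (ρ : Representation K G V) {a b : G} (h : Commute a b) (ha : a ^ 5 = 1)
    (hb : b ^ 5 = 1) :
    finrank K V ≤ fx ρ b + (fx ρ a + (fx ρ (a * b) + (fx ρ (a * b ^ 2) + (fx ρ (a * b ^ 3) +
      fx ρ (a * b ^ 4))))) := by
  obtain ⟨R, _, hA, hB⟩ := comm_lift (h.map ρ)
  have e := congrArg Subtype.val (rel_five (⟨_, hA⟩ : R) ⟨_, hB⟩
    (Subtype.ext (by simp [← map_pow, ha])) (Subtype.ext (by simp [← map_pow, hb])))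
  have e' : (ρ b - 1) * ((ρ a - 1) * ((ρ (a * b) - 1) * ((ρ (a * b ^ 2) - 1) *
      ((ρ (a * b ^ 3) - 1) * (ρ (a * b ^ 4) - 1))))) = 0 := by
    simp only [map_mul, map_pow]
    exact e
  have h1 := le_nul_add_nul e'
  have h2 := nul_mul_le (ρ a - 1) ((ρ (a * b) - 1) * ((ρ (a * b ^ 2) - 1) *
      ((ρ (a * b ^ 3) - 1) * (ρ (a * b ^ 4) - 1))))
  have h3 := nul_mul_le (ρ (a * b) - 1) ((ρ (a * b ^ 2) - 1) *
      ((ρ (a * b ^ 3) - 1) * (ρ (a * b ^ 4) - 1)))
  have h4 := nul_mul_le (ρ (a * b ^ 2) - 1) ((ρ (a * b ^ 3) - 1) * (ρ (a * b ^ 4) - 1))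
  have h5 := nul_mul_le (ρ (a * b ^ 3) - 1) (ρ (a * b ^ 4) - 1)
  unfold fx
  omega

omit [FiniteDimensional K V] in
theorem ne_one_of_not_mem {a b : G} (hab : a ∉ Subgroup.zpowers b) (j : ℕ) : a * b ^ j ≠ 1 :=
  fun e => hab (by
    rw [eq_inv_of_mul_eq_one_left e]
    exact inv_mem (pow_mem (Subgroup.mem_zpowers b) j))

/-- No elementary abelian subgroup of order `9` or `25`. -/
theorem Small.mem_zpowers {ρ : Representation K G V} (hρ : Small ρ) {r : ℕ} (hr : r = 3 ∨ r = 5)
    {a b : G} (h : Commute a b) (ha : a ^ r = 1) (hb : b ^ r = 1) (hb1 : b ≠ 1) :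
    a ∈ Subgroup.zpowers b := by
  by_contra hab
  have h0 := hρ _ hb1
  have h1 := hρ _ (ne_one_of_not_mem hab 0)
  have h2 := hρ _ (ne_one_of_not_mem hab 1)
  have h3 := hρ _ (ne_one_of_not_mem hab 2)
  have h4 := hρ _ (ne_one_of_not_mem hab 3)
  have h5 := hρ _ (ne_one_of_not_mem hab 4)
  rw [pow_zero, mul_one] at h1
  rw [pow_one] at h2
  rcases hr with rfl | rfl
  · have := three_three ρ h ha hb
    omega
  · have := five_five ρ h ha hb
    omega

/-- Two elements of order three: `u = x y⁻¹` commuting with `v = x u x⁻¹`. -/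
theorem two_three (ρ : Representation K G V) {x y u v : G} (hx : x ^ 3 = 1) (hy : y ^ 3 = 1)
    (hu : u * y = x) (hv : v * x = x * u) (h : Commute u v) :
    finrank K V ≤ 2 * fx ρ x + 2 * fx ρ y + fx ρ (u * v⁻¹) + fx ρ (u * v) := by
  obtain rfl : u = x * y⁻¹ := by rw [← hu, mul_inv_cancel_right]
  set u := x * y⁻¹ with hudef
  set X := ρ x
  set Y := ρ y
  have inv3 : ∀ {x : G}, x ^ 3 = 1 → ρ x⁻¹ = ρ x * ρ x := fun {x} hx => by
    rw [← map_mul, inv_eq_of_mul_eq_one_left (by rw [← pow_three', hx])]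
  have cube : X * X * X = 1 := by rw [← map_mul, ← map_mul, ← pow_three' x, hx, map_one]
  have cubeY : Y * Y * Y = 1 := by rw [← map_mul, ← map_mul, ← pow_three' y, hy, map_one]
  have e1 : ρ u = X * (Y * Y) := by rw [hudef, map_mul, inv3 hy]
  have e2 : ρ u⁻¹ = Y * (X * X) := by rw [hudef, mul_inv_rev, inv_inv, map_mul, inv3 hx]
  have e3 : ρ v * X = X * ρ u := by rw [← map_mul, hv, map_mul]
  have e4 : ρ v⁻¹ * X = X * ρ u⁻¹ := by
    rw [← map_mul, ← map_mul]
    congr 1
    rw [inv_mul_eq_iff_eq_mul, ← mul_assoc, hv, mul_assoc, mul_inv_cancel, mul_one]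
  have hD : (ρ u + ρ u⁻¹ - ρ v - ρ v⁻¹) * X =
      nm ρ x * Y - X * Y * nm ρ x + X * nm ρ y * X - X * X * nm ρ y := by
    rw [sub_mul, sub_mul, e3, e4, e1, e2]
    change _ = (1 + X + X * X) * Y - X * Y * (1 + X + X * X) + X * (1 + Y + Y * Y) * X -
      X * X * (1 + Y + Y * Y)
    have c1 : Y * (X * X) * X = Y := by rw [mul_assoc, cube, mul_one]
    rw [add_mul, c1]
    noncomm_ring
  have hF : ρ u + ρ u⁻¹ - ρ v - ρ v⁻¹ =
      ρ u⁻¹ * ((ρ (u * v⁻¹) - 1) * ρ v * ((ρ (u * v) - 1) * ρ v⁻¹)) := by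
    simp only [sub_mul, mul_sub, one_mul, ← map_mul]
    have a1 : u⁻¹ * (u * v⁻¹ * v * (u * v * v⁻¹)) = u := by group
    have a2 : u⁻¹ * (v * (u * v * v⁻¹)) = v := by
      rw [mul_inv_cancel_right, ← h.eq, inv_mul_cancel_left]
    have a3 : u⁻¹ * (u * v⁻¹ * v * v⁻¹) = v⁻¹ := by group
    have a4 : u⁻¹ * (v * v⁻¹) = u⁻¹ := by group
    rw [a1, a2, a3, a4]
    abel
  have r1 := rk_sub_le (nm ρ x * Y - X * Y * nm ρ x + X * nm ρ y * X) (X * X * nm ρ y)
  have r2 := rk_add_le (nm ρ x * Y - X * Y * nm ρ x) (X * nm ρ y * X)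
  have r3 := rk_sub_le (nm ρ x * Y) (X * Y * nm ρ x)
  have r4 := rk_mul_le_left (nm ρ x) Y
  have r5 := rk_mul_le_right (X * Y) (nm ρ x)
  have r6 := rk_mul_le_left (X * nm ρ y) X
  have r7 := rk_mul_le_right X (nm ρ y)
  have r8 := rk_mul_le_right (X * X) (nm ρ y)
  have r9 := rk_nm_le ρ hx
  have r10 := rk_nm_le ρ hy
  have s1 := rk_add_nul ((ρ u + ρ u⁻¹ - ρ v - ρ v⁻¹) * X)
  have s2 := nul_mul_unit_le (ρ u + ρ u⁻¹ - ρ v - ρ v⁻¹) (T := X) (isUnit_rep ρ x)
  have s3 := nul_unit_mul_le ((ρ (u * v⁻¹) - 1) * ρ v * ((ρ (u * v) - 1) * ρ v⁻¹))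
    (isUnit_rep ρ u⁻¹)
  have s4 := nul_mul_le ((ρ (u * v⁻¹) - 1) * ρ v) ((ρ (u * v) - 1) * ρ v⁻¹)
  have s5 := nul_mul_unit_le (ρ (u * v⁻¹) - 1) (isUnit_rep ρ v)
  have s6 := nul_mul_unit_le (ρ (u * v) - 1) (isUnit_rep ρ v⁻¹)
  rw [← hF] at s3
  rw [← hD] at r1
  unfold fx at *
  omega

theorem Small.not_two_three {ρ : Representation K G V} (hρ : Small ρ) {x g : G} (hx : x ^ 3 = 1)
    (hx1 : x ≠ 1) {u v : G} (hu : u * (g * x * g⁻¹) = x) (hv : v * x = x * u) (h : Commute u v)
    (h1 : u ≠ v) (h2 : u * v ≠ 1) : False := by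
  have := two_three ρ hx (y := g * x * g⁻¹) (by rw [conj_pow, hx]; group) hu hv h
  have := hρ x hx1
  have := hρ (g * x * g⁻¹) (by simpa using hx1)
  have := hρ (u * v⁻¹) (by rwa [Ne, mul_inv_eq_one])
  have := hρ _ h2
  omega

/-- An element of order `p` in characteristic `p`. -/
theorem le_char_mul (ρ : Representation K G V) (p : ℕ) [Fact p.Prime] [CharP K p] {g : G}
    (hg : g ^ p = 1) : finrank K V ≤ p * fx ρ g := by
  rcases subsingleton_or_nontrivial V with hV | hV
  · rw [finrank_zero_of_subsingleton]; omega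
  have : CharP (End K V) p := charP_of_injective_algebraMap (algebraMap K (End K V)).injective p
  have e : (ρ g - 1) ^ p = 0 := by
    rw [sub_pow_char_of_commute _ (Commute.one_right _), ← map_pow, hg, map_one, one_pow, sub_self]
  rw [← nul_zero, ← e]
  exact nul_pow_le _ _

end Cfsg.Agent.H11.Fx
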