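import Cfsg.Agent.H65.BLift
import Cfsg.Agent.H86.Val

/-!
# Lifting coprime representations, and powers of elements in linear groups of small degree
-/

set_option autoImplicit false

open Module MonoidAlgebra

namespace Cfsg.Agent.H11.Kv

open H32 H65.Cu

variable {M : Ideal AlgInt} [hMm : M.IsMaximal] {p : ℕ} {G : Type*} [Group G] [Finite G]

theorem eid_mem (hM : IsPModular p M) {g : G} (hg : ¬ p ∣ orderOf g) :
    eid (orderOf g) (single g (1 : ℂ)) 1 ∈ RG M G :=
  smul_mem_RG (inv_natCast_mem_locRing hM hg) (sum_mem fun _ _ => pow_mem (smul_mem_RG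
    (by simp) (single_one_mem_RG _)) _)

omit [Finite G] in
theorem single_pow_ord (g : G) : (single g (1 : ℂ)) ^ orderOf g = 1 := by
  rw [single_pow, pow_orderOf_eq_one, one_pow]; rfl

theorem exists_lift_mat (hM : IsPModular p M) {n : Type*} [Fintype n] [DecidableEq n]
    (hG : ¬ p ∣ Nat.card G) (ρ : G →* Matrix n n (Res M)) (hρ : Function.Injective ρ) :
    ∃ χ : G → ℂ, IsCharacter G χ ∧ χ 1 = Fintype.card n ∧ ∀ g, χ g = χ 1 → g = 1 := by
  let A := MonoidAlgebra.lift (Res M) (Matrix n n (Res M)) G ρ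
  have hreg : ∀ g : G, ¬ p ∣ orderOf g := fun g h => hG (h.trans (orderOf_dvd_natCard g))
  let χ : G → ℂ := ∑ i : IBr M G, ((A ((weddK M G).prim i)).rank : ℂ) • phi i
  have hχ : IsCharacter G χ := H5.isCharacter_sum _ _ fun i _ =>
    H5.isCharacter_natCast_smul (isCharacter_phi_comp hM i (MonoidHom.id G) hreg) _
  have key : ∀ e ∈ RG M G, IsIdempotentElem e → ev χ e = (A (redG M e)).rank := fun e h1 h2 => by
    rw [show (A (redG M e)).rank = _ from rank_idem (weddK M G) A.toRingHom (idem_redG h1 h2),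
      ev_sum_fun, Nat.cast_sum]
    refine Finset.sum_congr rfl fun i _ => ?_
    rw [ev_smul_fun, ev_phi_idem h1 h2, Nat.cast_mul, mul_comm]
    rfl
  have h1 : χ 1 = Fintype.card n := by
    rw [← ev_one χ, key 1 (one_mem _) IsIdempotentElem.one, redG_one, map_one, Matrix.rank_one]
  refine ⟨χ, hχ, h1, fun g hg => hρ ?_⟩
  have hm0 : orderOf g ≠ 0 := (orderOf_pos g).ne'
  have h2 := key _ (eid_mem hM (hreg g)) (idem_eid hm0 (single_pow_ord g) (one_pow _))
  have h3 : ev χ (eid (orderOf g) (single g (1 : ℂ)) 1) = χ 1 := by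
    have h4 : ∀ t : ℕ, χ (g ^ t) = χ 1 := fun t => (H5.charKer hχ).pow_mem hg t
    simp only [eid, inv_one, one_smul, map_smul, map_sum, single_pow, one_pow, ev_single, one_mul,
      h4, Finset.sum_const, Finset.card_range, nsmul_eq_mul, smul_eq_mul]
    rw [← mul_assoc, inv_mul_cancel₀ (Nat.cast_ne_zero.2 hm0), one_mul]
  rw [h3, h1, Nat.cast_inj] at h2
  set E := A (redG M (eid (orderOf g) (single g (1 : ℂ)) 1)) with hE
  have h5 : IsUnit E := by
    rw [← Matrix.mulVec_surjective_iff_isUnit]
    have : LinearMap.range E.mulVecLin = ⊤ :=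
      Submodule.eq_top_of_finrank_eq (by rw [finrank_fintype_fun_eq_card]; exact h2.symm)
    exact LinearMap.range_eq_top.1 this
  have h6 : ρ g * E = E := by
    have := congrArg (fun a => A (redG M a)) (mul_eid hm0 (single_pow_ord g) (one_pow _))
    simp only [redG_mul (single_one_mem_RG _) (eid_mem hM (hreg g)), map_mul, one_smul] at this
    rwa [← hE, redG_single, redC_one, MonoidAlgebra.lift_single, one_smul] at this
  rw [map_one]
  exact h5.mul_right_cancel (h6.trans (one_mul E).symm)

/-- a faithful coprime representation over a finite field lifts to a faithful character -/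
theorem exists_lift {F V : Type*} [Field F] [Finite F] [AddCommGroup V] [Module F V]
    [FiniteDimensional F V] [hp : Fact p.Prime] [CharP F p] (hG : ¬ p ∣ Nat.card G)
    (ρ : G →* End F V) (hρ : Function.Injective ρ) :
    ∃ χ : G → ℂ, IsCharacter G χ ∧ χ 1 = finrank F V ∧ ∀ g, χ g = χ 1 → g = 1 := by
  classical
  obtain ⟨M, hM⟩ := H86.exists_isPModular hp.out
  have := hM.2.1
  have := res_charP hM
  let _ := ZMod.algebra F p
  let _ := ZMod.algebra (Res M) p
  let f : F →+* Res M := (IsAlgClosed.lift (R := ZMod p) (S := F) (M := Res M)).toRingHom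
  let b := Module.finBasis F V
  have := exists_lift_mat hM hG ((f.mapMatrix.toMonoidHom.comp
    (LinearMap.toMatrixAlgEquiv b).toMonoidHom).comp ρ)
    (((Matrix.map_injective f.injective).comp (LinearMap.toMatrixAlgEquiv b).injective).comp hρ)
  rwa [Fintype.card_fin] at this

/-- in a linear group of degree at most `p` the `p`-th power of a `p`-element lies in a normal
`p`-subgroup -/
theorem exists_normal_pow (hp : p.Prime) {χ : G → ℂ} (hχ : IsCharacter G χ) {d : ℕ} (hd : χ 1 = d)
    (hf : ∀ g, χ g = χ 1 → g = 1) (hdp : d ≤ p) :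
    ∃ K : Subgroup G, K.Normal ∧ IsPGroup p K ∧ ∀ (g : G) (a : ℕ), g ^ p ^ a = 1 → g ^ p ∈ K := by
  classical
  have := Fact.mk hp
  obtain ⟨M, hM⟩ := H86.exists_isPModular hp
  have := hM.2.1
  have := res_charP hM
  let π : ∀ i : IBr M G, G →* Matrix (Fin ((weddK M G).d i)) (Fin ((weddK M G).d i)) (Res M) :=
    fun i => (((Pi.evalRingHom _ i).comp (weddK M G).π).toMonoidHom).comp (of (Res M) G)
  have hπ : ∀ i g, π i g = (weddK M G).π (single g 1) i := fun _ _ => rfl
  let K : Subgroup G := ⨅ i : {i : IBr M G // dec χ i ≠ 0}, (π i).ker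
  have hK : ∀ g, g ∈ K ↔ ∀ i, dec χ i ≠ 0 → π i g = 1 := fun g => by
    simp [K, Subgroup.mem_iInf]
  have h1 : ∀ g ∈ K, ¬ p ∣ orderOf g → g = 1 := fun g hg hreg => hf g <| by
    have hm0 : orderOf g ≠ 0 := (orderOf_pos g).ne'
    have he := idem_eid hm0 (single_pow_ord g) (one_pow _)
    have hR := eid_mem hM hreg
    have hu := mul_eid hm0 (single_pow_ord g) (one_pow _)
    have h2 : ev χ (1 - eid (orderOf g) (single g (1 : ℂ)) 1) = 0 := by
      rw [ev_idem_eq_sum (M := M) (H5.isClassFunction_of_isCharacter hχ) (sub_mem (one_mem _) hR)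
        he.one_sub]
      refine Finset.sum_eq_zero fun i _ => ?_
      rw [← cast_dec hχ]
      by_cases hi : dec χ i = 0
      · rw [hi, Nat.cast_zero, mul_zero]
      have h3 : (weddK M G).π (redG M (eid (orderOf g) (single g (1 : ℂ)) 1)) i = 1 := by
        have h4 : ∀ t : ℕ, (weddK M G).π (single (g ^ t) 1) i = 1 := fun t =>
          (hK _).1 (K.pow_mem hg t) i hi
        simp only [eid, inv_one, one_smul, single_pow, one_pow]
        rw [redG_smul (inv_natCast_mem_locRing hM hreg) (sum_mem fun _ _ => single_one_mem_RG _),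
          redG_sum _ _ fun _ _ => single_one_mem_RG _, weddK_smul, map_sum, Pi.smul_apply,
          Finset.sum_apply]
        simp only [redG_single, redC_one, h4, Finset.sum_const, Finset.card_range]
        rw [← Nat.cast_smul_eq_nsmul (Res M), smul_smul, ← redC_natCast (M := M),
          ← redC_mul (inv_natCast_mem_locRing hM hreg) (natCast_mem _ _),
          inv_mul_cancel₀ (Nat.cast_ne_zero.2 hm0), redC_one, one_smul]
      rw [imult, redG_sub (one_mem _) hR, redG_one, Wedd.mult, map_sub, map_one, Pi.sub_apply, h3,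
        Pi.one_apply, sub_self, Matrix.rank_zero, Nat.cast_zero, zero_mul]
    obtain ⟨n, ρ, rfl⟩ := hχ
    have h5 : IsIdempotentElem (ρ.asAlgebraHom (1 - eid (orderOf g) (single g (1 : ℂ)) 1)) :=
      he.one_sub.map _
    rw [ev_character, LinearMap.IsProj.trace (LinearMap.IsIdempotentElem.isProj_range _ h5),
      Nat.cast_eq_zero, Submodule.finrank_eq_zero, LinearMap.range_eq_bot, map_sub, map_one,
      sub_eq_zero] at h2
    have h6 := congrArg ρ.asAlgebraHom hu
    rw [one_smul, map_mul, ← h2, mul_one, Representation.asAlgebraHom_single, one_smul] at h6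
    simp [Representation.character, h6]
  refine ⟨K, Subgroup.normal_iInf_normal fun _ => inferInstance, fun g => ?_, fun g a ha => ?_⟩
  · obtain ⟨k, hk⟩ := pElt_mul_rp_inv hp (g : G)
    rw [h1 (rp p (g : G)) (K.pow_mem g.2 _) (rp_regular hp _), inv_one, mul_one] at hk
    exact ⟨k, Subtype.ext (by rw [Subgroup.coe_pow, ← hk, pow_orderOf_eq_one]; rfl)⟩
  · refine (hK _).2 fun i hi => ?_
    have h2 : (weddK M G).d i ≤ p := by
      have h3 := degree_eq_sum_dec (M := M) hχ
      rw [hd] at h3
      have h4 : d = ∑ i : IBr M G, dec χ i * i.deg := by exact_mod_cast h3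
      have h5 := Finset.single_le_sum (f := fun i : IBr M G => dec χ i * i.deg)
        (fun _ _ => Nat.zero_le _) (Finset.mem_univ i)
      exact ((Nat.le_mul_of_pos_left _ (Nat.pos_of_ne_zero hi)).trans (h5.trans h4.ge)).trans hdp
    have : Nonempty (Fin ((weddK M G).d i)) := ⟨⟨0, (weddK M G).pos i⟩⟩
    have h3 : IsNilpotent (π i g - 1) := ⟨p ^ a, by
      rw [sub_pow_char_pow_of_commute _ _ (Commute.one_right _), ← map_pow, ha, map_one, one_pow,
        sub_self]⟩
    have h4 : (π i g - 1) ^ (weddK M G).d i = 0 := by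
      have h5 := Matrix.aeval_self_charpoly (π i g - 1)
      rwa [sub_eq_zero.1 (Matrix.isNilpotent_charpoly_sub_pow_of_isNilpotent h3).eq_zero, map_pow,
        Polynomial.aeval_X, Fintype.card_fin] at h5
    rw [map_pow, ← sub_eq_zero, ← one_pow p, ← sub_pow_char_of_commute _ (Commute.one_right _)]
    exact pow_eq_zero_of_le h2 h4

end Cfsg.Agent.H11.Kv
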