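import Cfsg.Agent.H52.Zsig

/-!
# Small primitive parts
-/

set_option autoImplicit false

namespace Cfsg.Agent.H11.Kv

open H52.Zsig

/-- the pairs with small primitive part -/
def exc2 : List (ℕ × ℕ) := [(4, 3), (3, 4), (3, 6), (4, 6), (5, 6), (10, 6), (17, 6), (3, 18)]

theorem fin_chk1 : ∀ n < 163, 3 ≤ n → 4 * n * ((n + 1) * (2 * n + 1)) < 47 ^ n.totient := by
  decide +kernel

/-- the finite check -/
def chk2 (n t q : ℕ) : Bool :=
  decide (4 * n * ((n + 1) * (2 * n + 1)) < q ^ t) || decide ((q, n) ∈ exc2) ||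
    (decide (((n + 1) * (2 * n + 1)) % primPart q n ≠ 0) &&
      decide (Nat.gcd (primPart q n) (lowProd q (n - 1)) = 1))

theorem fin_chk2 : ∀ n < 163, 3 ≤ n → 4 * n * ((n + 1) * (2 * n + 1)) < 3 ^ n.totient ∨
    ∀ q < 47, 3 ≤ q → chk2 n n.totient q = true := by
  decide +kernel

theorem mem_exc2 {q n : ℕ} (hq : 3 ≤ q) (hn : 3 ≤ n)
    (h : ∀ m, IsPrimDiv q n m → m ∣ (n + 1) * (2 * n + 1)) : (q, n) ∈ exc2 := by
  have key : ¬ 4 * n * ((n + 1) * (2 * n + 1)) < q ^ n.totient := by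
    obtain ⟨m, hm, h2⟩ := exists_primDiv_large (q := q) (by omega) hn
    exact not_lt.2 (h2.trans (Nat.mul_le_mul_left _ (Nat.le_of_dvd (by positivity) (h m hm))))
  have h9 := totient_cube n
  rcases Nat.lt_or_ge n.totient 19 with hk | hk
  · have h163 : n < 163 := by
      by_contra hc
      have h1 : 163 ^ 2 ≤ n ^ 2 := Nat.pow_le_pow_left (by omega) 2
      have h2 : n.totient ^ 3 ≤ 18 ^ 3 := Nat.pow_le_pow_left (by omega) 3
      omega
    rcases Nat.lt_or_ge q 47 with hq' | hq'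
    · rcases fin_chk2 n h163 hn with h1 | h1
      · exact absurd (h1.trans_le (Nat.pow_le_pow_left hq _)) key
      · have h2 := h1 q hq' hq
        simp only [chk2, Bool.or_eq_true, Bool.and_eq_true, decide_eq_true_eq] at h2
        rcases h2 with (h2 | h2) | h2
        · exact absurd h2 key
        · exact h2
        · exact absurd (Nat.mod_eq_zero_of_dvd (h _ (isPrimDiv_primPart h2.2))) h2.1
    · exact absurd ((fin_chk1 n h163 hn).trans_le (Nat.pow_le_pow_left hq' _)) key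
  · refine absurd (lt_of_lt_of_le ?_ (Nat.pow_le_pow_left hq _)) key
    have h1 := cube_le_two_pow hk
    have h2 : 16 * n ^ 2 ≤ 2 ^ n.totient := by omega
    have h3 : (2 ^ n.totient) ^ 3 ≤ (3 ^ n.totient) ^ 2 := by
      rw [← pow_mul, ← pow_mul, mul_comm _ 3, mul_comm _ 2, pow_mul, pow_mul]
      exact Nat.pow_le_pow_left (by norm_num) _
    have h4 := (Nat.pow_le_pow_left h2 3).trans h3
    have h5 : 4 * n * ((n + 1) * (2 * n + 1)) ≤ 24 * n ^ 3 := by nlinarith
    refine h5.trans_lt (lt_of_pow_lt_pow_left₀ 2 (Nat.zero_le _) (lt_of_lt_of_le ?_ h4))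
    have h6 : 0 < n ^ 6 := by positivity
    calc (24 * n ^ 3) ^ 2 = 576 * n ^ 6 := by ring
      _ < 4096 * n ^ 6 := by omega
      _ = _ := by ring

theorem dvd_of_sqfree {m c : ℕ} (h1 : ∀ s, s.Prime → s ∣ m → s ∣ c)
    (h2 : ∀ s, s.Prime → ¬ s ^ 2 ∣ m) : m ∣ c := by
  have h3 : Squarefree m := Nat.squarefree_iff_prime_squarefree.2 fun s hs => by
    rw [← sq]; exact h2 s hs
  rw [← Nat.prod_primeFactors_of_squarefree h3]
  exact Finset.prod_primes_dvd _ (fun s hs => (Nat.prime_of_mem_primeFactors hs).prime)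
    fun s hs => h1 s (Nat.prime_of_mem_primeFactors hs) (Nat.dvd_of_mem_primeFactors hs)

theorem num {p k m : ℕ} (hp : p.Prime) (hp2 : p ≠ 2) (hk : 0 < k) (hm : 3 ≤ m)
    (F1 : ∀ s, s.Prime → s ∣ p ^ (k * m) - 1 → ¬ s ∣ k →
      (2 * m + 1 < s ∨ (2 * m + 1 = s ∧ p = 3)) → s ∣ p ^ k - 1)
    (F2 : ∀ s, s.Prime → (∀ i, 1 ≤ i → i < k * m → ¬ s ∣ p ^ i - 1) → ¬ s ^ 2 ∣ p ^ (k * m) - 1) :
    p = 3 ∧ k = 1 ∧ m = 4 := by
  have hp3 : 3 ≤ p := by have := hp.two_le; omega
  have hn : m ≤ k * m := Nat.le_mul_of_pos_left _ hk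
  have hkn : k < k * m := by nlinarith
  have key : ∀ M, IsPrimDiv p (k * m) M → ∀ s, s.Prime → s ∣ M →
      s ≤ 2 * m + 1 ∧ ∃ j, 0 < j ∧ s = k * m * j + 1 := fun M hM s hs hsM => by
    have h1 := fun i hi hin => hM.not_dvd hs hsM (i := i) hi hin
    obtain ⟨j, hj⟩ := dvd_sub_one_of_primitive hp.two_le (by omega) hs (hsM.trans hM.1) h1
    have h2 := hs.two_le
    have h3 : 0 < j := Nat.pos_of_ne_zero (by rintro rfl; omega)
    have h4 : k * m ≤ k * m * j := Nat.le_mul_of_pos_right _ h3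
    refine ⟨not_lt.1 fun h => h1 k hk hkn (F1 s hs (hsM.trans hM.1) (fun h5 => ?_) (Or.inl h)),
      j, h3, by omega⟩
    have := Nat.le_of_dvd hk h5
    omega
  have sq : ∀ M, IsPrimDiv p (k * m) M → ∀ s, s.Prime → ¬ s ^ 2 ∣ M := fun M hM s hs h =>
    F2 s hs (fun i hi hin => hM.not_dvd hs ((dvd_pow_self s two_ne_zero).trans h) hi hin)
      (h.trans hM.1)
  have h0 := mem_exc2 hp3 (hm.trans hn) fun M hM => dvd_of_sqfree (fun s hs hsM => by
    obtain ⟨h1, j, h2, h3⟩ := key M hM s hs hsM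
    have h4 : j ≤ 2 := by
      by_contra h
      have : k * m * 3 ≤ k * m * j := Nat.mul_le_mul_left _ (by omega)
      omega
    interval_cases j
    · exact Dvd.dvd.mul_right (by rw [h3, mul_one]) _
    · exact Dvd.dvd.mul_left (by rw [h3, mul_comm _ 2]) _) (sq M hM)
  simp only [exc2, List.mem_cons, Prod.mk.injEq, List.not_mem_nil, or_false] at h0
  have hk6 : k ≤ 6 := by
    by_contra h
    have : 7 * 3 ≤ k * m := Nat.mul_le_mul (by omega) hm
    omega
  rcases h0 with ⟨rfl, -⟩ | ⟨rfl, h⟩ | ⟨rfl, h⟩ | ⟨rfl, -⟩ | ⟨rfl, h⟩ | ⟨rfl, -⟩ | ⟨rfl, h⟩ |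
    ⟨rfl, h⟩
  · norm_num at hp
  · interval_cases k <;> omega
  · have := F1 13 (by norm_num) (by rw [h]; norm_num) (by interval_cases k <;> omega)
      (by interval_cases k <;> omega)
    interval_cases k <;> omega
  · norm_num at hp
  · have := F1 31 (by norm_num) (by rw [h]; norm_num) (by interval_cases k <;> omega)
      (by interval_cases k <;> omega)
    interval_cases k <;> omega
  · norm_num at hp
  · have := F1 307 (by norm_num) (by rw [h]; norm_num) (by interval_cases k <;> omega)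
      (by interval_cases k <;> omega)
    interval_cases k <;> omega
  · have := F1 757 (by norm_num) (by rw [h]; norm_num) (by interval_cases k <;> omega)
      (by interval_cases k <;> omega)
    interval_cases k <;> omega

theorem num_semi {p k e : ℕ} (hp : p.Prime) (he : e ∣ k) (hk : 0 < k) (he1 : 2 ≤ e) (hpe : ¬ p ∣ e)
    {s t : ℕ} (ht : t ∣ e) (ht1 : 2 ≤ t) (hs : s ^ t = p ^ k) :
    (e + 1) * s < p ^ k ∨ ((e + 1) * s = p ^ k ∧ ((p ^ k = 8 ∧ e = 3) ∨ (p ^ k = 9 ∧ e = 2))) := by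
  have h1 := Nat.le_of_dvd hk he
  have hs0 : 0 < s := Nat.pos_of_ne_zero (by
    rintro rfl
    rw [zero_pow (by omega)] at hs
    exact (pow_pos hp.pos k).ne hs)
  have h2 : s ^ 2 ≤ p ^ k := hs ▸ Nat.pow_le_pow_right hs0 ht1
  have main : (k + 1) ^ 2 < p ^ k → (e + 1) * s < p ^ k := fun h => by
    by_contra hc
    have h3 : p ^ k * p ^ k ≤ ((k + 1) * s) * ((k + 1) * s) :=
      Nat.mul_le_mul ((not_lt.1 hc).trans (by gcongr)) ((not_lt.1 hc).trans (by gcongr))
    have h4 : (k + 1) ^ 2 * s ^ 2 < p ^ k * p ^ k :=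
      Nat.mul_lt_mul_of_lt_of_le h h2 (pow_pos hp.pos k)
    nlinarith
  have a2 : ∀ j, (j + 6 + 1) ^ 2 < 2 ^ (j + 6) := fun j => by
    induction j with
    | zero => norm_num
    | succ j ih => 
      rw [show j + 1 + 6 = j + 6 + 1 by ring, pow_succ 2]
      have : (j + 6 + 1 + 1) ^ 2 + (j ^ 2 + 12 * j + 34) = 2 * (j + 6 + 1) ^ 2 := by ring
      omega
  have a3 : ∀ j, (j + 3 + 1) ^ 2 < 3 ^ (j + 3) := fun j => by
    induction j with
    | zero => norm_num
    | succ j ih => rw [show j + 1 + 3 = j + 3 + 1 by ring, pow_succ 3]; nlinarith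
  rcases hp.eq_two_or_odd' with rfl | h3
  · by_cases h6 : 6 ≤ k
    · obtain ⟨j, rfl⟩ : ∃ j, k = j + 6 := ⟨k - 6, by omega⟩
      exact Or.inl (main (a2 j))
    have h4 : ¬ 2 ∣ t := fun h => hpe (h.trans ht)
    have h5 := Nat.le_of_dvd (by omega) ht
    have h7 : s ≤ 5 := by
      by_contra h
      have : 6 ^ 2 ≤ s ^ 2 := Nat.pow_le_pow_left (by omega) 2
      have : 2 ^ k ≤ 2 ^ 5 := Nat.pow_le_pow_right two_pos (by omega)
      omega
    have h8 : k ≤ 5 := by omega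
    interval_cases k <;> interval_cases e <;> interval_cases t <;> interval_cases s <;> simp_all
  · have hp3 : 3 ≤ p := by have := hp.two_le; have := h3; rw [Nat.odd_iff] at this; omega
    by_cases h6 : 3 ≤ k
    · obtain ⟨j, rfl⟩ : ∃ j, k = j + 3 := ⟨k - 3, by omega⟩
      exact Or.inl (main ((a3 j).trans_le (Nat.pow_le_pow_left hp3 _)))
    obtain rfl : k = 2 := by omega
    obtain rfl : e = 2 := by omega
    obtain rfl : t = 2 := le_antisymm (Nat.le_of_dvd two_pos ht) ht1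
    obtain rfl : s = p := Nat.pow_left_injective two_ne_zero hs
    rcases hp3.eq_or_lt with rfl | h
    · simp
    · left; nlinarith

end Cfsg.Agent.H11.Kv
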